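import Mathlib
import Cfsg.Agent.Lib.Classical.SLNormal
import Cfsg.Agent.Lib.Fus.PSLTwo
import Cfsg.Agent.Lib.Fus.SmallSimple

/-!
# The binary icosahedral group is unique
-/

set_option autoImplicit false

namespace Cfsg.Agent.Grp.Zas

open scoped commutatorElement

/-- A perfect double cover of the alternating group of degree five with one involution. -/
structure BinaryIco (E : Type*) [Group E] : Prop where
  cover : ∃ f : E →* alternatingGroup (Fin 5), Function.Surjective f ∧ Nat.card f.ker = 2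
  invol : ∀ u v : E, orderOf u = 2 → orderOf v = 2 → u = v
  perfect : commutator E = ⊤

variable {E S : Type*} [Group E] [Finite E] [Group S] [Finite S]

theorem exists_kernel_generator {f : E →* alternatingGroup (Fin 5)} (hk : Nat.card f.ker = 2) :
    ∃ z : E, orderOf z = 2 ∧ ∀ g, g ∈ f.ker ↔ g = 1 ∨ g = z := by
  have : Fact (Nat.Prime 2) := ⟨Nat.prime_two⟩
  obtain ⟨⟨z, hz⟩, hzo⟩ := exists_prime_orderOf_dvd_card' (G := f.ker) 2 (by rw [hk])
  rw [Subgroup.orderOf_mk] at hzo
  refine ⟨z, hzo, fun g => ?_⟩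
  have hset : (f.ker : Set E) = {1, z} := by
    refine (Set.eq_of_subset_of_ncard_le ?_ ?_ (Set.toFinite _)).symm
    · rintro t (rfl | rfl)
      exacts [one_mem _, hz]
    · rw [← Nat.card_coe_set_eq, Set.ncard_pair (by rintro rfl; simp at hzo)]
      exact hk.le
  rw [← SetLike.mem_coe, hset]
  rfl

/-- Facts about lifts of commuting involutions of the quotient. -/
theorem lift_facts (h : BinaryIco E) {f : E →* alternatingGroup (Fin 5)} {z : E}
    (hz : orderOf z = 2) (hker : ∀ g, g ∈ f.ker ↔ g = 1 ∨ g = z) :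
    (∀ g : E, g * z = z * g) ∧ ∀ a b : E, f a * f a = 1 → f b * f b = 1 → f a * f b = f b * f a →
      (a * b * a⁻¹ * b⁻¹ = 1 ↔ f a = 1 ∨ f b = 1 ∨ f a = f b) ∧
      (a * b * a⁻¹ * b⁻¹ = 1 ∨ a * b * a⁻¹ * b⁻¹ = z) := by
  have hzc : ∀ g : E, g * z = z * g := fun g => by
    have : g * z * g⁻¹ = z := h.invol _ _ (by
      rw [← hz]; exact orderOf_injective (MulAut.conj g).toMonoidHom (MulAut.conj g).injective z) hz
    exact mul_inv_eq_iff_eq_mul.mp this
  refine ⟨hzc, fun a b ha hb hab => ?_⟩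
  have hkc : ∀ c ∈ f.ker, ∀ g : E, g * c = c * g := fun c hc g => by
    rcases (hker c).mp hc with rfl | rfl
    · rw [mul_one, one_mul]
    · exact hzc g
  have hcomm : a * b * a⁻¹ * b⁻¹ ∈ f.ker := by
    rw [MonoidHom.mem_ker]; simp only [map_mul, map_inv]; rw [hab]; group
  refine ⟨⟨fun e => ?_, ?_⟩, (hker _).mp hcomm⟩
  · by_contra hne
    push Not at hne
    obtain ⟨h1, h2, h3⟩ := hne
    have sqz : ∀ c : E, f c * f c = 1 → f c ≠ 1 → c * c = z := fun c hc hc1 => by
      rcases (hker (c * c)).mp (MonoidHom.mem_ker.mpr (by rw [map_mul, hc])) with e | e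
      · exfalso
        have hco : orderOf c = 2 := orderOf_eq_prime (by rw [pow_two, e]) (fun e' => hc1 (by rw [e', map_one]))
        exact hc1 (MonoidHom.mem_ker.mp ((hker c).mpr (.inr (h.invol c z hco hz))))
      · exact e
    have hab' : a * b = b * a := by
      rw [mul_inv_eq_one, mul_inv_eq_iff_eq_mul] at e; exact e
    have hsq : (a * b) * (a * b) = 1 := by
      calc (a * b) * (a * b) = (a * a) * (b * b) := (Commute.mul_mul_mul_comm (Commute.symm hab') a b)
        _ = z * z := by rw [sqz a ha h1, sqz b hb h2]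
        _ = 1 := by rw [← pow_two, ← hz]; exact pow_orderOf_eq_one z
    have : f (a * b) = 1 := by
      by_cases h1' : a * b = 1
      · rw [h1', map_one]
      · exact MonoidHom.mem_ker.mp ((hker _).mpr (.inr (h.invol _ z (orderOf_eq_prime (by rw [pow_two, hsq]) h1') hz)))
    rw [map_mul] at this
    exact h3 ((eq_inv_of_mul_eq_one_left this).trans (inv_eq_of_mul_eq_one_right hb))
  · intro hc
    rw [mul_inv_eq_one, mul_inv_eq_iff_eq_mul]
    rcases hc with h1 | h1 | h1
    · exact (hkc a (MonoidHom.mem_ker.mpr h1) b).symm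
    · exact hkc b (MonoidHom.mem_ker.mpr h1) a
    · have hm : a⁻¹ * b ∈ f.ker := MonoidHom.mem_ker.mpr (by rw [map_mul, map_inv, h1, inv_mul_cancel])
      calc a * b = a * (a * (a⁻¹ * b)) := by rw [mul_inv_cancel_left]
        _ = a * ((a⁻¹ * b) * a) := by rw [hkc _ hm a]
        _ = b * a := by rw [← mul_assoc, mul_inv_cancel_left]

theorem surjective_comp_commutator {D T : Type*} [Group D] [Group T] (π : D →* T) (hπ : Function.Surjective π)
    (hT : commutator T = ⊤) : Function.Surjective (π.comp (commutator D).subtype) := by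
  intro t
  have : t ∈ (commutator D).map π := by
    rw [commutator_def, Subgroup.map_commutator, Subgroup.map_top_of_surjective π hπ, ← commutator_def, hT]
    trivial
  obtain ⟨d, hd, rfl⟩ := this
  exact ⟨⟨d, hd⟩, rfl⟩

theorem BinaryIco.nonempty_mulEquiv (hE : BinaryIco E) (hS : BinaryIco S) : Nonempty (E ≃* S) := by
  classical
  have : Fact (Nat.Prime 2) := ⟨Nat.prime_two⟩
  obtain ⟨f, hf, hfk⟩ := hE.cover
  obtain ⟨f', hf', hfk'⟩ := hS.cover
  obtain ⟨z, hz, hker⟩ := exists_kernel_generator hfk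
  obtain ⟨z', hz', hker'⟩ := exists_kernel_generator hfk'
  obtain ⟨hzc, hlift⟩ := lift_facts hE hz hker
  obtain ⟨hzc', hlift'⟩ := lift_facts hS hz' hker'
  let D : Subgroup (E × S) := MonoidHom.eqLocus (f.comp (MonoidHom.fst E S)) (f'.comp (MonoidHom.snd E S))
  let g : D →* alternatingGroup (Fin 5) := f.comp ((MonoidHom.fst E S).comp D.subtype)
  have hg : ∀ d : D, g d = f (d : E × S).1 ∧ g d = f' (d : E × S).2 := fun d => ⟨rfl, d.2⟩
  let π1 : D →* E := (MonoidHom.fst E S).comp D.subtype
  let π2 : D →* S := (MonoidHom.snd E S).comp D.subtype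
  have hπ1 : Function.Surjective π1 := fun e => by
    obtain ⟨s, hs⟩ := hf' (f e); exact ⟨⟨(e, s), hs.symm⟩, rfl⟩
  have hπ2 : Function.Surjective π2 := fun s => by
    obtain ⟨e, he⟩ := hf (f' s); exact ⟨⟨(e, s), he⟩, rfl⟩
  obtain ⟨R⟩ : Nonempty (Sylow 2 D) := inferInstance
  -- the image of `R` is a four-group
  have hV : ∀ d ∈ (R : Subgroup D), g d * g d = 1 := by
    intro d hd
    obtain ⟨n, hn⟩ := IsPGroup.iff_orderOf.mp R.isPGroup' ⟨d, hd⟩
    rw [Subgroup.orderOf_mk] at hn
    have hpow : (g d) ^ 2 ^ n = 1 := by rw [← map_pow, ← hn, pow_orderOf_eq_one, map_one]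
    have hA : ∀ a : alternatingGroup (Fin 5), a * a * (a * a) = 1 → a * a = 1 := by decide +kernel
    have hred : ∀ n : ℕ, ∀ a : alternatingGroup (Fin 5), a ^ 2 ^ (n + 1) = 1 → a * a = 1 := by
      intro n
      induction n with
      | zero => intro a ha; rwa [pow_one, pow_two] at ha
      | succ m ih =>
        intro a ha
        exact hA a (ih (a * a) (by rwa [← pow_two, ← pow_mul, ← pow_succ']))
    rcases n with _ | n
    · rw [pow_zero, pow_one] at hpow; rw [hpow, one_mul]
    · exact hred n _ hpow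
  have hVab : ∀ d ∈ (R : Subgroup D), ∀ d' ∈ (R : Subgroup D), g d * g d' = g d' * g d := by
    intro d hd d' hd'
    have h1 := hV _ ((R : Subgroup D).mul_mem hd hd')
    rw [map_mul] at h1
    rw [eq_inv_of_mul_eq_one_left h1, mul_inv_rev, inv_eq_of_mul_eq_one_right (hV d hd),
      inv_eq_of_mul_eq_one_right (hV d' hd')]
  -- commutators of `R` are diagonal
  let c : D := ⟨(z, z'), by
    show f z = f' z'
    rw [MonoidHom.mem_ker.mp ((hker z).mpr (.inr rfl)), MonoidHom.mem_ker.mp ((hker' z').mpr (.inr rfl))]⟩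
  have hcomm : ⁅(R : Subgroup D), (R : Subgroup D)⁆ ≤ Subgroup.zpowers c := by
    rw [Subgroup.commutator_le]
    intro d hd d' hd'
    have e1 : f (d : E × S).1 * f (d' : E × S).1 = f (d' : E × S).1 * f (d : E × S).1 := hVab d hd d' hd'
    have a1 : f (d : E × S).1 * f (d : E × S).1 = 1 := hV d hd
    have a2 : f (d' : E × S).1 * f (d' : E × S).1 = 1 := hV d' hd'
    have q1 : f (d : E × S).1 = f' (d : E × S).2 := d.2
    have q2 : f (d' : E × S).1 = f' (d' : E × S).2 := d'.2
    obtain ⟨i1, c1⟩ := hlift _ _ a1 a2 e1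
    obtain ⟨i2, c2⟩ := hlift' (d : E × S).2 (d' : E × S).2 (q1 ▸ a1) (q2 ▸ a2) (q1 ▸ q2 ▸ e1)
    rw [q1, q2] at i1
    rcases c1 with c1 | c1
    · have c2' := i2.mpr (i1.mp c1)
      have : ⁅d, d'⁆ = 1 := Subtype.ext (Prod.ext c1 c2')
      rw [this]; exact one_mem _
    · have c2' : (d : E × S).2 * (d' : E × S).2 * (d : E × S).2⁻¹ * (d' : E × S).2⁻¹ = z' :=
        c2.resolve_left fun e => by
          rw [i1.mpr (i2.mp e)] at c1
          rw [← c1, orderOf_one] at hz; omega
      have : ⁅d, d'⁆ = c := Subtype.ext (Prod.ext c1 c2')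
      rw [this]; exact Subgroup.mem_zpowers c
  -- central elements of `R` in the commutator subgroup lie in `R'`
  have key : ∀ x : D, x ∈ commutator D → (∀ d : D, d * x = x * d) → x * x = 1 →
      x = 1 ∨ x = c := by
    intro x hxc hx hxx
    have hxR : x ∈ (R : Subgroup D) := by
      obtain ⟨n, hn⟩ : ∃ n, orderOf x = 2 ^ n := by
        obtain ⟨n, -, hn⟩ := (Nat.dvd_prime_pow Nat.prime_two).mp
          (orderOf_dvd_of_pow_eq_one (show x ^ 2 ^ 1 = 1 by rw [pow_one, pow_two, hxx]))
        exact ⟨n, hn⟩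
      have hp : IsPGroup 2 (Subgroup.zpowers x) := IsPGroup.of_card (n := n) (by rw [Nat.card_zpowers, hn])
      have hn' : Subgroup.zpowers x ≤ Subgroup.normalizer ((R : Subgroup D) : Set D) := by
        rw [Subgroup.zpowers_le, Subgroup.mem_normalizer_iff]
        intro n
        rw [← hx n, mul_inv_cancel_right]
      exact (R.is_maximal' (hp.to_sup_of_normal_right' R.isPGroup' hn') le_sup_right) ▸
        Subgroup.mem_sup_left (Subgroup.mem_zpowers x)
    let ψ : (R : Subgroup D) →* Abelianization (R : Subgroup D) := Abelianization.of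
    have h0 : MonoidHom.transfer ψ x = 1 :=
      MonoidHom.mem_ker.mp (Abelianization.commutator_subset_ker (MonoidHom.transfer ψ) hxc)
    rw [MonoidHom.transfer_eq_pow ψ x (fun m g₀ _ => by
      rw [mul_assoc, ← ((show Commute g₀ x from hx g₀).pow_right m).eq, inv_mul_cancel_left])] at h0
    have hmem : (⟨x ^ (R : Subgroup D).index, (R : Subgroup D).pow_mem hxR _⟩ : (R : Subgroup D)) ∈
        commutator (R : Subgroup D) := (QuotientGroup.eq_one_iff _).mp h0
    have h1 : x ^ (R : Subgroup D).index ∈ Subgroup.zpowers c := by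
      refine hcomm ?_
      rw [← Subgroup.map_subtype_commutator]
      exact ⟨_, hmem, rfl⟩
    have hx1 : x ^ (R : Subgroup D).index = x := by
      have hodd : ¬ 2 ∣ (R : Subgroup D).index := R.not_dvd_index
      obtain ⟨t, ht⟩ : ∃ t, (R : Subgroup D).index = 2 * t + 1 := ⟨(R : Subgroup D).index / 2, by omega⟩
      rw [ht, pow_succ, pow_mul, pow_two, hxx, one_pow, one_mul]
    rw [hx1] at h1
    have hc2 : c * c = 1 := Subtype.ext (Prod.ext (by
      show z * z = 1
      rw [← pow_two, ← hz]; exact pow_orderOf_eq_one z) (by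
      show z' * z' = 1
      rw [← pow_two, ← hz']; exact pow_orderOf_eq_one z'))
    obtain ⟨i, hi⟩ := h1
    simp only at hi
    rcases Int.even_or_odd' i with ⟨t, rfl | rfl⟩
    · left; rw [← hi, zpow_mul, show (c : D) ^ (2 : ℤ) = 1 by rw [zpow_two, hc2], one_zpow]
    · right; rw [← hi, zpow_add, zpow_mul, show (c : D) ^ (2 : ℤ) = 1 by rw [zpow_two, hc2], one_zpow, one_mul, zpow_one]
  -- the commutator subgroup is a graph
  have hinj : ∀ d : D, d ∈ commutator D → ((d : E × S).1 = 1 ∨ (d : E × S).2 = 1) → d = 1 := by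
    intro d hd h1
    have hfd : f (d : E × S).1 = f' (d : E × S).2 := d.2
    have hk1 : (d : E × S).1 = 1 ∨ (d : E × S).1 = z := (hker _).mp (MonoidHom.mem_ker.mpr (by
      rcases h1 with e | e
      · rw [e, map_one]
      · rw [hfd, e, map_one]))
    have hk2 : (d : E × S).2 = 1 ∨ (d : E × S).2 = z' := (hker' _).mp (MonoidHom.mem_ker.mpr (by
      rcases h1 with e | e
      · rw [← hfd, e, map_one]
      · rw [e, map_one]))
    have hsq : d * d = 1 := Subtype.ext (Prod.ext (by
      show (d : E × S).1 * (d : E × S).1 = 1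
      rcases hk1 with e | e <;> rw [e]
      · exact one_mul 1
      · rw [← pow_two, ← hz]; exact pow_orderOf_eq_one z) (by
      show (d : E × S).2 * (d : E × S).2 = 1
      rcases hk2 with e | e <;> rw [e]
      · exact one_mul 1
      · rw [← pow_two, ← hz']; exact pow_orderOf_eq_one z'))
    have hcen : ∀ x : D, x * d = d * x := fun x => Subtype.ext (Prod.ext (by
      show (x : E × S).1 * (d : E × S).1 = (d : E × S).1 * (x : E × S).1
      rcases hk1 with e | e <;> rw [e]
      · rw [mul_one, one_mul]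
      · exact hzc _) (by
      show (x : E × S).2 * (d : E × S).2 = (d : E × S).2 * (x : E × S).2
      rcases hk2 with e | e <;> rw [e]
      · rw [mul_one, one_mul]
      · exact hzc' _))
    rcases key d hd hcen hsq with e | e
    · exact e
    · exfalso
      rw [e] at h1
      rcases h1 with e' | e'
      · change z = 1 at e'; rw [e', orderOf_one] at hz; omega
      · change z' = 1 at e'; rw [e', orderOf_one] at hz'; omega
  have hb1 : Function.Bijective (π1.comp (commutator D).subtype) := ⟨(injective_iff_map_eq_one _).mpr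
    fun d e => Subtype.ext (hinj d d.2 (.inl e)), surjective_comp_commutator π1 hπ1 hE.perfect⟩
  have hb2 : Function.Bijective (π2.comp (commutator D).subtype) := ⟨(injective_iff_map_eq_one _).mpr
    fun d e => Subtype.ext (hinj d d.2 (.inr e)), surjective_comp_commutator π2 hπ2 hS.perfect⟩
  exact ⟨(MulEquiv.ofBijective _ hb1).symm.trans (MulEquiv.ofBijective _ hb2)⟩

instance fact_five : Fact (Nat.Prime 5) := ⟨Nat.prime_five⟩

theorem card_SL25 : Nat.card (Matrix.SpecialLinearGroup (Fin 2) (ZMod 5)) = 120 := by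
  rw [Fus.PSLTwo.natCard_SL_two, ZMod.card]

theorem SL25_sq : ∀ a b c d : ZMod 5, a * d - b * c = 1 → a * a + b * c = 1 → b * (a + d) = 0 →
    c * (a + d) = 0 → d * d + b * c = 1 → (a = 1 ∧ b = 0 ∧ c = 0 ∧ d = 1) ∨ (a = 4 ∧ b = 0 ∧ c = 0 ∧ d = 4) := by
  decide +kernel

theorem SL25_involution (g : Matrix.SpecialLinearGroup (Fin 2) (ZMod 5)) (hg : orderOf g = 2) :
    (g : Matrix (Fin 2) (Fin 2) (ZMod 5)) = !![4, 0; 0, 4] := by
  have hsq : g * g = 1 := by rw [← pow_two]; exact orderOf_dvd_iff_pow_eq_one.mp hg.dvd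
  have hm : ∀ i j, ((g * g : Matrix.SpecialLinearGroup (Fin 2) (ZMod 5)) : Matrix (Fin 2) (Fin 2) (ZMod 5)) i j =
      (1 : Matrix (Fin 2) (Fin 2) (ZMod 5)) i j := fun i j => by rw [hsq]; rfl
  have hd : (g : Matrix (Fin 2) (Fin 2) (ZMod 5)).det = 1 := g.2
  rw [Matrix.det_fin_two] at hd
  have h00 := hm 0 0
  have h01 := hm 0 1
  have h10 := hm 1 0
  have h11 := hm 1 1
  simp [Matrix.SpecialLinearGroup.coe_mul, Matrix.mul_apply, Fin.sum_univ_two] at h00 h01 h10 h11
  rcases SL25_sq _ _ _ _ hd h00 (by linear_combination h01) (by linear_combination h10) (by linear_combination h11)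
    with ⟨a, b, c, d⟩ | ⟨a, b, c, d⟩
  · exfalso
    have : g = 1 := by
      ext i j; fin_cases i <;> fin_cases j <;> simp [a, b, c, d]
    rw [this, orderOf_one] at hg; omega
  · ext i j; fin_cases i <;> fin_cases j <;> simp [a, b, c, d]

theorem binaryIco_SL25 : BinaryIco (Matrix.SpecialLinearGroup (Fin 2) (ZMod 5)) := by
  have hsimple : IsSimpleGroup (Matrix.ProjectiveSpecialLinearGroup (Fin 2) (ZMod 5)) :=
    Classical.PSL_isSimple le_rfl (fun _ => by rw [ZMod.card]; norm_num)
  have hc : Nat.card (Subgroup.center (Matrix.SpecialLinearGroup (Fin 2) (ZMod 5))) = 2 := by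
    rw [Classical.natCard_center_SL, Nat.card_eq_fintype_card, ZMod.card_units]; rfl
  have h60 : Nat.card (Matrix.ProjectiveSpecialLinearGroup (Fin 2) (ZMod 5)) = 60 := by
    have := Subgroup.card_mul_index (Subgroup.center (Matrix.SpecialLinearGroup (Fin 2) (ZMod 5)))
    rw [hc, card_SL25] at this
    show Nat.card (Matrix.SpecialLinearGroup (Fin 2) (ZMod 5) ⧸ Subgroup.center _) = 60
    rw [← Subgroup.index_eq_card]; omega
  obtain ⟨e⟩ := Fus.alternating_five_of_card h60
  refine ⟨⟨e.toMonoidHom.comp (QuotientGroup.mk' (Subgroup.center (Matrix.SpecialLinearGroup (Fin 2) (ZMod 5)))),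
    e.surjective.comp (QuotientGroup.mk'_surjective _), ?_⟩,
    fun u v hu hv => Subtype.ext ((SL25_involution u hu).trans (SL25_involution v hv).symm),
    Classical.SL_commutator_eq_top fun _ => ⟨2, by decide⟩⟩
  rw [show (e.toMonoidHom.comp (QuotientGroup.mk' (Subgroup.center (Matrix.SpecialLinearGroup (Fin 2) (ZMod 5))))).ker =
    Subgroup.center (Matrix.SpecialLinearGroup (Fin 2) (ZMod 5)) from ?_, hc]
  ext g
  rw [MonoidHom.mem_ker, MonoidHom.comp_apply, MulEquiv.coe_toMonoidHom, MulEquiv.map_eq_one_iff]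
  exact QuotientGroup.eq_one_iff g

end Cfsg.Agent.Grp.Zas
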