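import Mathlib

/-!
# Quadratic elements: anticommutator identities and invariant planes
-/

set_option autoImplicit false

namespace Cfsg.Agent.Grp.Zas

section Ring

variable {k A : Type*} [Field k] [Ring A] [Algebra k A] {i j l m T : A} {c c1 : k}

/-- `i` and `j` square to `-3` and have scalar anticommutator `c`. -/
structure QPair (i j : A) (c : k) : Prop where
  sq_i : i * i = (-3 : k) • 1
  sq_j : j * j = (-3 : k) • 1
  anti : i * j + j * i = c • 1

def brk (i j : A) : A := i * j - j * i

theorem QPair.ji (h : QPair i j c) : j * i = c • 1 - i * j := eq_sub_of_add_eq' h.anti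

theorem QPair.brk_left (h : QPair i j c) : brk i j * i = -(i * brk i j) := by
  have h2 : i * j * i + i * i * j - (i * i * j + i * j * i) = 0 := by abel
  simp only [brk, sub_mul, mul_sub, mul_assoc, h.sq_i, mul_smul_comm, mul_one]
  rw [← mul_assoc i i j, h.sq_i]
  simp only [smul_mul_assoc, one_mul]
  module

theorem QPair.brk_right (h : QPair i j c) : brk i j * j = -(j * brk i j) := by
  simp only [brk, sub_mul, mul_sub, mul_assoc, h.sq_j, mul_smul_comm, mul_one]
  rw [← mul_assoc j j i, h.sq_j]
  simp only [smul_mul_assoc, one_mul]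
  module

theorem QPair.brk_sq (h : QPair i j c) : brk i j * brk i j = (c * c - 36 : k) • 1 := by
  have e : brk i j = (2 : k) • (i * j) - c • 1 := by rw [brk, h.ji]; module
  have e2 : (i * j) * (i * j) = c • (i * j) - (9 : k) • 1 := by
    calc (i * j) * (i * j) = i * (j * i) * j := by simp only [mul_assoc]
      _ = i * (c • 1 - i * j) * j := by rw [h.ji]
      _ = c • (i * j) - i * i * (j * j) := by
          simp only [mul_sub, sub_mul, mul_smul_comm, smul_mul_assoc, mul_one, mul_assoc]
      _ = _ := by
          rw [h.sq_i, h.sq_j]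
          simp only [smul_mul_assoc, one_mul]
          module
  rw [e]
  simp only [sub_mul, mul_sub, mul_smul_comm, smul_mul_assoc, mul_one, one_mul, e2]
  module

/-- The component of `(36 - c²) l` orthogonal to `i` and `j`. -/
def orth (i j l T : A) (c c1 : k) : A :=
  (36 - c * c) • l + (6 * c1) • i + c • (T * i) + ((6 : k) • (T * j) + (c * c1) • j)

theorem orth_anti_left (h : QPair i j c) (hl : i * l + l * i = c1 • 1) (hTi : T * i = i * T) :
    orth i j l T c c1 * i = -(i * orth i j l T c c1) := by
  rw [eq_neg_iff_add_eq_zero]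
  have e : orth i j l T c c1 * i + i * orth i j l T c c1 = (36 - c * c) • (i * l + l * i) +
      (6 * c1) • (i * i + i * i) + c • (T * (i * i + i * i)) + (6 : k) • (T * (i * j + j * i)) +
      (c * c1) • (i * j + j * i) := by
    simp only [orth, add_mul, mul_add, smul_mul_assoc, mul_smul_comm, mul_assoc]
    rw [← mul_assoc i T i, ← mul_assoc i T j, ← hTi]
    simp only [mul_assoc, smul_add]
    abel
  rw [e, hl, h.anti, h.sq_i]
  simp only [mul_add, mul_smul_comm, mul_one]
  module

theorem orth_anti_right (h : QPair i j c) (hl : j * l + l * j = T) (hTj : T * j = j * T) :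
    orth i j l T c c1 * j = -(j * orth i j l T c c1) := by
  rw [eq_neg_iff_add_eq_zero]
  have e : orth i j l T c c1 * j + j * orth i j l T c c1 = (36 - c * c) • (j * l + l * j) +
      (6 * c1) • (i * j + j * i) + c • (T * (i * j + j * i)) + (6 : k) • (T * (j * j + j * j)) +
      (c * c1) • (j * j + j * j) := by
    simp only [orth, add_mul, mul_add, smul_mul_assoc, mul_smul_comm, mul_assoc]
    rw [← mul_assoc j T i, ← mul_assoc j T j, ← hTj]
    simp only [mul_assoc, smul_add]
    abel
  rw [e, hl, h.anti, h.sq_j]
  simp only [mul_add, mul_smul_comm, mul_one]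
  module

theorem commute_brk_mul {n L a : A} (hn : n * a = -(a * n)) (hL : L * a = -(a * L)) :
    Commute (n * L) a := by
  rw [Commute, SemiconjBy, mul_assoc, hL, mul_neg, ← mul_assoc, hn, neg_mul, neg_neg, mul_assoc]

theorem brk_mul_of_anti {L : A} (hi : L * i = -(i * L)) (hj : L * j = -(j * L)) :
    L * brk i j = brk i j * L := by
  simp only [brk, mul_sub, sub_mul]
  rw [← mul_assoc, hi, ← mul_assoc L j i, hj]
  simp only [neg_mul, mul_assoc, hi, hj, mul_neg, neg_neg]

/-- The central element attached to `l` over the pair `i, j`. -/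
def cent (i j l T : A) (c c1 : k) : A := brk i j * orth i j l T c c1

theorem brk_mul_cent (h : QPair i j c) : brk i j * cent i j l T c c1 = (c * c - 36 : k) • orth i j l T c c1 := by
  rw [cent, ← mul_assoc, h.brk_sq, smul_mul_assoc, one_mul]

structure Triple (i j l T : A) (c c1 : k) : Prop where
  pair : QPair i j c
  sq_l : l * l = (-3 : k) • 1
  hil : i * l + l * i = c1 • 1
  hjl : j * l + l * j = T

theorem commute_anti_left {a b : A} {r : k} (ha : a * a = r • 1) : Commute (a * b + b * a) a := by
  rw [Commute, SemiconjBy, add_mul, mul_add, ← mul_assoc a a b, ha, mul_assoc b a a, ha]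
  simp only [smul_mul_assoc, one_mul, mul_smul_comm, mul_one, mul_assoc]
  abel

theorem commute_anti_right {a b : A} {r : k} (hb : b * b = r • 1) : Commute (a * b + b * a) b := by
  rw [add_comm]; exact commute_anti_left hb

theorem Triple.T_j (h : Triple i j l T c c1) : Commute T j := h.hjl ▸ commute_anti_left h.pair.sq_j

theorem Triple.T_l (h : Triple i j l T c c1) : Commute T l := h.hjl ▸ commute_anti_right h.sq_l

theorem Triple.T_i (h : Triple i j l T c c1) : Commute T i := by
  have e1 : (i * j + j * i) * l - j * (i * l + l * i) + (i * l + l * i) * j - l * (i * j + j * i)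
      = i * (j * l + l * j) - (j * l + l * j) * i := by
    simp only [add_mul, mul_add, mul_assoc]; abel
  rw [h.pair.anti, h.hil, h.hjl] at e1
  simp only [smul_mul_assoc, one_mul, mul_smul_comm, mul_one] at e1
  have : i * T - T * i = 0 := by rw [← e1]; abel
  exact (sub_eq_zero.mp this).symm

theorem Triple.cent_i (h : Triple i j l T c c1) : Commute (cent i j l T c c1) i :=
  commute_brk_mul h.pair.brk_left (orth_anti_left h.pair h.hil h.T_i.eq)

theorem Triple.cent_j (h : Triple i j l T c c1) : Commute (cent i j l T c c1) j :=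
  commute_brk_mul h.pair.brk_right (orth_anti_right h.pair h.hjl h.T_j.eq)

theorem Triple.cent_T (h : Triple i j l T c c1) : Commute (cent i j l T c c1) T := by
  have h1 : Commute T (orth i j l T c c1) := by
    unfold orth
    exact ((((h.T_l.smul_right _).add_right (h.T_i.smul_right _)).add_right
      (((Commute.refl T).mul_right h.T_i).smul_right _)).add_right
      ((((Commute.refl T).mul_right h.T_j).smul_right _).add_right (h.T_j.smul_right _)))
  exact (((h.T_i.mul_right h.T_j).sub_right (h.T_j.mul_right h.T_i)).mul_right h1).symm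

/-- Two elements with scalar anticommutators with `i, j` have commuting central parts when one of
them has scalar anticommutator with a conjugate of the other by `x = (-1 + i)/2`. -/
theorem commute_parts (h : QPair i j c) {w z : A} (h2 : (2 : k) ≠ 0) (hd : c * c - 36 ≠ 0) {x x' : A}
    {ε : k} (hε : ε * ε = 1) (hx : (2 : k) • x = -1 + ε • i) (hx' : (2 : k) • x' = -1 - ε • i)
    (hwi : Commute w i) (hwj : Commute w j) (hzi : Commute z i) (hzj : Commute z j) {e α β α' β' s : k}
    (hl : e • l = α • i + β • j + brk i j * w) (hm : e • m = α' • i + β' • j + brk i j * z)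
    (hs : l * (x * m * x') + (x * m * x') * l = s • 1) : Commute w z := by
  set n := brk i j with hn
  have hni : n * i = -(i * n) := h.brk_left
  have hnj : n * j = -(j * n) := h.brk_right
  have hnn : n * n = (c * c - 36 : k) • 1 := h.brk_sq
  have hwn : Commute w n := (hwi.mul_right hwj).sub_right (hwj.mul_right hwi)
  have hzn : Commute z n := (hzi.mul_right hzj).sub_right (hzj.mul_right hzi)
  have key : ∀ a : A, (4 : k) • (x * a * x') = a + ε • (a * i - i * a) - i * a * i := by
    intro a
    calc (4 : k) • (x * a * x') = ((2 : k) • x) * a * ((2 : k) • x') := by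
          simp only [smul_mul_assoc, mul_smul_comm, smul_smul]; norm_num
      _ = (-1 + ε • i) * a * (-1 - ε • i) := by rw [hx, hx']
      _ = a + ε • (a * i - i * a) - (ε * ε) • (i * a * i) := by
          simp only [add_mul, mul_sub, neg_mul, mul_neg, one_mul, mul_one, smul_mul_assoc, mul_smul_comm,
            mul_assoc]
          module
      _ = _ := by rw [hε, one_smul]
  have hi2 : (4 : k) • (x * i * x') = (4 : k) • i := by
    rw [key, sub_self, smul_zero, add_zero, h.sq_i, smul_mul_assoc, one_mul]; module
  have hj2 : (4 : k) • (x * j * x') = (-2 : k) • j - ε • n - c • i := by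
    rw [key]
    have e1 : i * j * i = c • i + (3 : k) • j := by
      rw [mul_assoc, h.ji, mul_sub, mul_smul_comm, mul_one, ← mul_assoc, h.sq_i, smul_mul_assoc, one_mul]
      module
    have e2 : j * i - i * j = -n := by rw [hn, brk]; abel
    rw [e1, e2]; module
  have hn2 : (4 : k) • (x * n * x') = (-2 : k) • n - (2 * ε) • (i * n) := by
    rw [key]
    have e1 : i * n * i = (3 : k) • n := by
      rw [mul_assoc, hni, mul_neg, ← mul_assoc, h.sq_i, smul_mul_assoc, one_mul]; module
    rw [e1, hni]; module
  have hzx : x' * z = z * x' := by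
    have h0 : Commute z ((2 : k) • x') := hx' ▸ ((Commute.one_right z).neg_right.sub_right (hzi.smul_right ε))
    have h1 := h0.smul_right (2 : k)⁻¹
    rw [smul_smul, inv_mul_cancel₀ h2, one_smul] at h1
    exact h1.eq.symm
  have hm2 : (4 * e) • (x * m * x') = (4 * α' - β' * c) • i - (2 * β') • j - (β' * ε) • n +
      ((-2 : k) • (n * z) - (2 * ε) • (i * n * z)) := by
    have : (4 * e) • (x * m * x') = (4 : k) • (x * (e • m) * x') := by
      simp only [mul_smul_comm, smul_mul_assoc, smul_smul]
    rw [this, hm]
    have : x * (α' • i + β' • j + n * z) * x' = α' • (x * i * x') + β' • (x * j * x') + x * n * x' * z := by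
      simp only [mul_add, add_mul, mul_smul_comm, smul_mul_assoc, mul_assoc, hzx]
    rw [this, smul_add, smul_add, smul_comm (4 : k) α', smul_comm (4 : k) β', hi2, hj2,
      ← smul_mul_assoc, hn2]
    simp only [sub_mul, smul_mul_assoc, mul_assoc]
    module
  have hP : (4 * e * e * s) • (1 : A) = (e • l) * ((4 * e) • (x * m * x')) + ((4 * e) • (x * m * x')) * (e • l) := by
    simp only [mul_smul_comm, smul_mul_assoc, smul_smul, mul_comm e (4 * e), ← smul_add]
    rw [hs, smul_smul]
  rw [hl, hm2] at hP
  have r1 : ∀ a : A, w * (n * a) = n * (w * a) := fun a => by rw [← mul_assoc, hwn.eq, mul_assoc]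
  have r2 : ∀ a : A, w * (i * a) = i * (w * a) := fun a => by rw [← mul_assoc, hwi.eq, mul_assoc]
  have r3 : ∀ a : A, z * (n * a) = n * (z * a) := fun a => by rw [← mul_assoc, hzn.eq, mul_assoc]
  have r4 : ∀ a : A, z * (i * a) = i * (z * a) := fun a => by rw [← mul_assoc, hzi.eq, mul_assoc]
  have r5 : ∀ a : A, n * (i * a) = -(i * (n * a)) := fun a => by rw [← mul_assoc, hni, neg_mul, mul_assoc]
  have r6 : ∀ a : A, n * (n * a) = (c * c - 36 : k) • a := fun a => by
    rw [← mul_assoc, hnn, smul_mul_assoc, one_mul]
  have r7 : ∀ a : A, i * (i * a) = (-3 : k) • a := fun a => by rw [← mul_assoc, h.sq_i, smul_mul_assoc, one_mul]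
  have r8 : ∀ a : A, n * (j * a) = -(j * (n * a)) := fun a => by rw [← mul_assoc, hnj, neg_mul, mul_assoc]
  have r9 : ∀ a : A, j * (i * a) = c • a - i * (j * a) := fun a => by
    rw [← mul_assoc, h.ji, sub_mul, smul_mul_assoc, one_mul, mul_assoc]
  have r10 : ∀ a : A, w * (j * a) = j * (w * a) := fun a => by rw [← mul_assoc, hwj.eq, mul_assoc]
  have r11 : ∀ a : A, i * (j * (n * a)) = ((2 : k)⁻¹ * (c * c - 36)) • a + ((2 : k)⁻¹ * c) • (n * a) := fun a => by
    have h1 : (2 : k) • (i * j) = n + c • 1 := by rw [hn, brk, h.ji]; module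
    have h3 := congrArg (fun y => (2 : k)⁻¹ • (y * (n * a))) h1
    simp only [smul_mul_assoc, smul_smul, inv_mul_cancel₀ h2, one_smul, add_mul, smul_add, one_mul, r6,
      mul_assoc] at h3
    exact h3
  simp only [add_mul, mul_add, sub_mul, mul_sub, smul_mul_assoc, mul_smul_comm, mul_assoc, neg_mul,
    mul_neg, hwn.eq, hwi.eq, hwj.eq, hzi.eq, hzj.eq, hni, hnj, r1, r2, r3, r5, r6, r7, r8, r9,
    h.sq_i, h.sq_j, h.ji, smul_neg, smul_sub, smul_smul, mul_one] at hP
  set p := (4 * e * e * s) • (1 : A) with hp
  -- everything except the commutator part commutes with `i` and `j`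
  have hpe : (2 * ε * (c * c - 36)) • (i * (w * z - z * w)) ∈
      Submodule.span k ({1, w, z, w * z + z * w} : Set A) := by
    have hmem : ∀ (r0 r1 r2 r3 : k), r0 • (1 : A) + r1 • w + r2 • z + r3 • (w * z + z * w) ∈
        Submodule.span k ({1, w, z, w * z + z * w} : Set A) := by
      intro a b d f
      refine add_mem (add_mem (add_mem ?_ ?_) ?_) ?_ <;>
        exact Submodule.smul_mem _ _ (Submodule.subset_span (by simp))
    convert hmem (4 * e * e * s - (-24 * α * α' + 4 * α * β' * c + 4 * α' * β * c - β' * c * c * β + 12 * β * β'))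
      (2 * β' * ε * (c * c - 36)) (-(2 * ε * β * (c * c - 36))) (2 * (c * c - 36)) using 1
    rw [r11] at hP
    simp only [mul_sub]
    linear_combination (norm := (match_scalars <;> field_simp [h2] <;> ring)) (-1 : k) • hP
  obtain ⟨q, hq, hq'⟩ : ∃ q, (2 * ε * (c * c - 36)) • (i * (w * z - z * w)) = q ∧ Commute q j := by
    refine ⟨_, rfl, ?_⟩
    have hsub : ∀ q ∈ Submodule.span k ({1, w, z, w * z + z * w} : Set A), Commute q j := by
      intro q hq
      induction hq using Submodule.span_induction with
      | mem a ha =>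
        rcases ha with rfl | rfl | rfl | rfl
        · exact Commute.one_left j
        · exact hwj
        · exact hzj
        · exact (hwj.mul_left hzj).add_left (hzj.mul_left hwj)
      | zero => exact Commute.zero_left j
      | add a b _ _ ha hb => exact ha.add_left hb
      | smul r a _ ha => exact ha.smul_left r
    exact hsub _ hpe
  have hD : Commute (w * z - z * w) j := (hwj.mul_left hzj).sub_left (hzj.mul_left hwj)
  have hne : (2 * ε * (c * c - 36)) ≠ 0 := by
    refine mul_ne_zero (mul_ne_zero h2 ?_) hd
    rintro rfl; simp at hε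
  have h3 : Commute (i * (w * z - z * w)) j := by
    have := hq'.smul_left (2 * ε * (c * c - 36))⁻¹
    rwa [← hq, smul_smul, inv_mul_cancel₀ hne, one_smul] at this
  have h4 : n * (w * z - z * w) = 0 := by
    rw [hn, brk, sub_mul, mul_assoc i j, ← hD.eq, ← mul_assoc, h3.eq, ← mul_assoc, sub_self]
  have h5 := congrArg (n * ·) h4
  simp only [mul_zero] at h5
  rw [← mul_assoc, hnn, smul_mul_assoc, one_mul, smul_eq_zero] at h5
  exact sub_eq_zero.mp (h5.resolve_left hd)

end Ring

end Cfsg.Agent.Grp.Zas
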