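import Mathlib
import Cfsg.Agent.Lib.Grp.Zassenhaus.Algebra

/-!
# Fixed-point-free representations: elements of order three and invariant planes
-/

set_option autoImplicit false

namespace Cfsg.Agent.Grp.Zas

open Module

variable {G k V : Type*} [Group G] [Field k] [AddCommGroup V] [Module k V]

/-- A representation without fixed vectors, in coprime characteristic different from two. -/
structure FpfRep (ρ : G →* End k V) : Prop where
  fpf : ∀ g : G, g ≠ 1 → ∀ v : V, ρ g v = v → v = 0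
  card_ne : (Nat.card G : k) ≠ 0
  two : (2 : k) ≠ 0

variable [Finite G] [Nontrivial V] {ρ : G →* End k V}

omit [Finite G] in
theorem FpfRep.injective (h : FpfRep ρ) : Function.Injective ρ := by
  refine (injective_iff_map_eq_one ρ).mpr fun g hg => by_contra fun hg1 => ?_
  obtain ⟨v, hv⟩ := exists_ne (0 : V)
  exact hv (h.fpf g hg1 v (by rw [hg]; rfl))

omit [Finite G] [Nontrivial V] in
theorem FpfRep.end_eq_zero (h : FpfRep ρ) {g : G} (hg : g ≠ 1) {f : End k V} (hf : (ρ g - 1) * f = 0) :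
    f = 0 := by
  ext v
  refine h.fpf g hg (f v) ?_
  have := LinearMap.congr_fun hf v
  simpa [sub_eq_zero] using this

omit [Finite G] [Nontrivial V] in
theorem FpfRep.geom_sum (h : FpfRep ρ) {g : G} (hg : g ≠ 1) :
    ∑ i ∈ Finset.range (orderOf g), ρ g ^ i = 0 :=
  h.end_eq_zero hg (by rw [mul_geom_sum, ← map_pow, pow_orderOf_eq_one, map_one, sub_self])

omit [Finite G] [Nontrivial V] in
theorem FpfRep.order_three (h : FpfRep ρ) {x : G} (hx : orderOf x = 3) :
    ρ x * ρ x + ρ x + 1 = 0 := by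
  have := h.geom_sum (g := x) (by rintro rfl; simp at hx)
  rw [hx, Finset.sum_range_succ, Finset.sum_range_succ, Finset.sum_range_one, pow_zero, pow_one, pow_two] at this
  rw [← this]; abel

omit [Finite G] [Nontrivial V] in
theorem FpfRep.involution (h : FpfRep ρ) {z : G} (hz : orderOf z = 2) : ρ z = -1 := by
  have := h.geom_sum (g := z) (by rintro rfl; simp at hz)
  rw [hz, Finset.sum_range_succ, Finset.sum_range_one, pow_zero, pow_one] at this
  exact eq_neg_of_add_eq_zero_right this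

omit [Finite G] in
theorem FpfRep.involution_unique (h : FpfRep ρ) {y z : G} (hy : orderOf y = 2) (hz : orderOf z = 2) :
    y = z :=
  h.injective (by rw [h.involution hy, h.involution hz])

omit [Finite G] in
theorem FpfRep.involution_central (h : FpfRep ρ) {z : G} (hz : orderOf z = 2) (g : G) : g * z = z * g :=
  h.injective (by rw [map_mul, map_mul, h.involution hz, mul_neg, neg_mul, mul_one, one_mul])

omit [Finite G] [Nontrivial V] in
theorem FpfRep.orderOf_ne (h : FpfRep ρ) (g : G) : (orderOf g : k) ≠ 0 := by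
  intro e
  obtain ⟨t, ht⟩ := orderOf_dvd_natCard g
  exact h.card_ne (by rw [ht, Nat.cast_mul, e, zero_mul])

omit [Finite G] [Nontrivial V] in
theorem FpfRep.three_ne (h : FpfRep ρ) {x : G} (hx : orderOf x = 3) : (3 : k) ≠ 0 := by
  have := h.orderOf_ne x
  rw [hx] at this
  exact_mod_cast this

/-- The imaginary part `2x + 1` of an element of order three. -/
def imag (ρ : G →* End k V) (x : G) : End k V := (2 : k) • ρ x + 1

omit [Finite G] [Nontrivial V] in
theorem FpfRep.imag_sq (h : FpfRep ρ) {x : G} (hx : orderOf x = 3) :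
    imag ρ x * imag ρ x = (-3 : k) • 1 := by
  have e : ρ x * ρ x = -(ρ x) - 1 := by
    rw [← sub_eq_zero, ← h.order_three hx]; abel
  simp only [imag, add_mul, mul_add, smul_mul_assoc, mul_smul_comm, one_mul, mul_one, e]
  module

omit [Finite G] [Nontrivial V] in
theorem FpfRep.two_smul_eq (_h : FpfRep ρ) (x : G) : (2 : k) • ρ x = -1 + imag ρ x := by
  simp [imag]

omit [Finite G] [Nontrivial V] in
theorem FpfRep.two_smul_inv (h : FpfRep ρ) {x : G} (hx : orderOf x = 3) :
    (2 : k) • ρ x⁻¹ = -1 - imag ρ x := by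
  have e : ρ x⁻¹ = ρ x * ρ x := by
    rw [← map_mul]
    congr 1
    rw [inv_eq_of_mul_eq_one_right]
    have := pow_orderOf_eq_one x
    rw [hx] at this
    rw [← this]; simp [pow_succ, mul_assoc]
  have e2 : ρ x * ρ x = -(ρ x) - 1 := by
    rw [← sub_eq_zero, ← h.order_three hx]; abel
  rw [e, e2, imag]
  module

omit [Finite G] [Nontrivial V] in
theorem FpfRep.mem_of_imag (h : FpfRep ρ) {x : G} {W : Submodule k V} {w : V} (hw : w ∈ W)
    (hi : imag ρ x w ∈ W) : ρ x w ∈ W := by
  have e := LinearMap.congr_fun (h.two_smul_eq x) w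
  simp only [LinearMap.smul_apply, LinearMap.add_apply, LinearMap.neg_apply, End.one_apply] at e
  have h2 : ρ x w = (2 : k)⁻¹ • ((2 : k) • ρ x w) := by rw [smul_smul, inv_mul_cancel₀ h.two, one_smul]
  rw [h2, e]
  exact Submodule.smul_mem _ _ (add_mem (neg_mem hw) hi)

/-- The subgroup of elements mapping a submodule into itself. -/
def preserver (ρ : G →* End k V) (W : Submodule k V) : Subgroup G :=
  { carrier := {g | ∀ w ∈ W, ρ g w ∈ W}
    one_mem' := fun w hw => by simpa using hw
    mul_mem' := fun {a b} ha hb w hw => by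
      rw [map_mul]; exact ha _ (hb w hw)
    inv_mem' := fun {a} ha w hw => by
      have key : ∀ n : ℕ, ∀ w ∈ W, ρ (a ^ n) w ∈ W := by
        intro n
        induction n with
        | zero => intro w hw; simpa using hw
        | succ n ih => intro w hw; rw [pow_succ, map_mul]; exact ih _ (ha w hw)
      obtain ⟨n, hn⟩ : ∃ n : ℕ, a ^ n = a⁻¹ := ⟨orderOf a - 1, by
        refine eq_inv_of_mul_eq_one_left ?_
        rw [← pow_succ, Nat.sub_add_cancel (orderOf_pos a), pow_orderOf_eq_one]⟩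
      rw [← hn]; exact key n w hw }

/-- The subgroup fixing the line of `v`. -/
def lineStab (ρ : G →* End k V) (v : V) : Subgroup G := preserver ρ (k ∙ v)

omit [Nontrivial V] in
theorem exists_scalar_of_mem_lineStab {v : V} {g : G} (hg : g ∈ lineStab ρ v) :
    ∃ a : k, ρ g v = a • v := by
  obtain ⟨a, ha⟩ := Submodule.mem_span_singleton.mp (hg v (Submodule.mem_span_singleton_self v))
  exact ⟨a, ha.symm⟩

omit [Nontrivial V] in
theorem mem_lineStab_of_scalar {v : V} {g : G} {a : k} (hg : ρ g v = a • v) : g ∈ lineStab ρ v := by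
  intro w hw
  obtain ⟨b, rfl⟩ := Submodule.mem_span_singleton.mp hw
  rw [map_smul, hg]
  exact Submodule.smul_mem _ _ (Submodule.smul_mem _ _ (Submodule.mem_span_singleton_self v))

omit [Nontrivial V] in
theorem FpfRep.lineStab_char (h : FpfRep ρ) {v : V} (hv : v ≠ 0) :
    ∃ χ : lineStab ρ v →* k, Function.Injective χ ∧ ∀ g : lineStab ρ v, ρ (g : G) v = χ g • v := by
  choose f hf using fun g : lineStab ρ v => exists_scalar_of_mem_lineStab g.2
  have uniq : ∀ {a b : k}, a • v = b • v → a = b := fun e => smul_left_injective k hv e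
  refine ⟨{ toFun := f, map_one' := uniq ?_, map_mul' := fun a b => uniq ?_ }, fun a b e => ?_, hf⟩
  · rw [← hf]; simp
  · rw [← hf, Subgroup.coe_mul, map_mul, End.mul_apply, hf b, map_smul, hf a, smul_smul, mul_comm (f b)]
  · change f a = f b at e
    by_contra hne
    refine hv (h.fpf ((a : G)⁻¹ * b) (fun e1 => hne (Subtype.ext (inv_mul_eq_one.mp e1))) v ?_)
    rw [map_mul, End.mul_apply, hf b, ← e, ← hf a, ← End.mul_apply, ← map_mul, inv_mul_cancel, map_one]
    rfl

omit [Nontrivial V] in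
theorem FpfRep.lineStab_cyclic (h : FpfRep ρ) {v : V} (hv : v ≠ 0) : IsCyclic (lineStab ρ v) := by
  obtain ⟨χ, hχ, -⟩ := h.lineStab_char hv
  exact isCyclic_of_injective_ringHom χ hχ

omit [Nontrivial V] in
theorem FpfRep.commute_of_lineStab (h : FpfRep ρ) {v : V} (hv : v ≠ 0) {a b : G}
    (ha : a ∈ lineStab ρ v) (hb : b ∈ lineStab ρ v) : Commute a b := by
  have := h.lineStab_cyclic hv
  obtain ⟨g, hg⟩ := IsCyclic.exists_generator (α := lineStab ρ v)
  obtain ⟨i, hi⟩ := Subgroup.mem_zpowers_iff.mp (hg ⟨a, ha⟩)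
  obtain ⟨j, hj⟩ := Subgroup.mem_zpowers_iff.mp (hg ⟨b, hb⟩)
  have : Commute (⟨a, ha⟩ : lineStab ρ v) ⟨b, hb⟩ := hi ▸ hj ▸ (Commute.refl g).zpow_zpow i j
  exact congrArg Subtype.val this.eq

omit [Nontrivial V] in
theorem FpfRep.mem_zpowers_of_lineStab (h : FpfRep ρ) {v : V} (hv : v ≠ 0) {a b : G}
    (ha : a ∈ lineStab ρ v) (hb : b ∈ lineStab ρ v) (hab : b ^ orderOf a = 1) : b ∈ Subgroup.zpowers a := by
  obtain ⟨χ, hχ, -⟩ := h.lineStab_char hv
  have hprim : IsPrimitiveRoot (χ ⟨a, ha⟩) (orderOf a) := by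
    rw [← Subgroup.orderOf_mk a ha, ← orderOf_injective χ hχ]
    exact IsPrimitiveRoot.orderOf _
  have hb1 : χ ⟨b, hb⟩ ^ orderOf a = 1 := by
    rw [← map_pow, show (⟨b, hb⟩ : lineStab ρ v) ^ orderOf a = 1 from Subtype.ext hab, map_one]
  have : NeZero (orderOf a) := ⟨(orderOf_pos a).ne'⟩
  obtain ⟨i, -, hi⟩ := hprim.eq_pow_of_pow_eq_one hb1
  rw [← map_pow] at hi
  have e := congrArg Subtype.val (hχ hi)
  exact ⟨(i : ℤ), by simpa using e⟩

variable [IsAlgClosed k] [FiniteDimensional k V]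

omit [Finite G] in
/-- Commuting endomorphisms preserving a nonzero submodule have a common eigenvector in it. -/
theorem exists_joint_eigen : ∀ (L : List (End k V)) (W : Submodule k V), W ≠ ⊥ →
    (∀ f ∈ L, ∀ w ∈ W, f w ∈ W) → L.Pairwise Commute →
    ∃ v ∈ W, v ≠ 0 ∧ ∀ f ∈ L, ∃ μ : k, f v = μ • v := by
  intro L
  induction L with
  | nil =>
    intro W hW _ _
    obtain ⟨v, hv, hv0⟩ := W.exists_mem_ne_zero_of_ne_bot hW
    exact ⟨v, hv, hv0, by simp⟩
  | cons f L ih =>
    intro W hW hpres hcomm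
    have hnt : Nontrivial W := Submodule.nontrivial_iff_ne_bot.mpr hW
    obtain ⟨μ, hμ⟩ := End.exists_eigenvalue (f.restrict (hpres f (by simp)))
    set W' : Submodule k V := W ⊓ LinearMap.ker (f - μ • 1) with hW'
    have hne : W' ≠ ⊥ := by
      obtain ⟨v, hv⟩ := hμ.exists_hasEigenvector
      refine Submodule.ne_bot_iff _ |>.mpr ⟨(v : V), ⟨v.2, ?_⟩, fun e => hv.2 (Subtype.ext e)⟩
      change (f - μ • 1) (v : V) = 0
      rw [LinearMap.sub_apply, LinearMap.smul_apply, End.one_apply, sub_eq_zero]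
      exact congrArg Subtype.val hv.apply_eq_smul
    rw [List.pairwise_cons] at hcomm
    obtain ⟨v, hv, hv0, hall⟩ := ih W' hne (fun g hg w hw => ⟨hpres g (by simp [hg]) w hw.1, by
      have hw2 : (f - μ • 1) w = 0 := hw.2
      change (f - μ • 1) (g w) = 0
      rw [LinearMap.sub_apply, LinearMap.smul_apply, End.one_apply, sub_eq_zero] at hw2 ⊢
      rw [← End.mul_apply, (hcomm.1 g hg).eq, End.mul_apply, hw2, map_smul]⟩) hcomm.2
    refine ⟨v, hv.1, hv0, fun g hg => ?_⟩
    rcases List.mem_cons.mp hg with rfl | hg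
    · exact ⟨μ, by simpa [LinearMap.mem_ker, sub_eq_zero] using hv.2⟩
    · exact hall g hg

omit [Finite G] in
theorem exists_joint_eigen' (L : List (End k V)) (h : L.Pairwise Commute) :
    ∃ v : V, v ≠ 0 ∧ ∀ f ∈ L, ∃ μ : k, f v = μ • v := by
  obtain ⟨v, -, h1, h2⟩ := exists_joint_eigen L ⊤ top_ne_bot (fun _ _ _ _ => trivial) h
  exact ⟨v, h1, h2⟩

omit [Finite G] [Nontrivial V] [IsAlgClosed k] [FiniteDimensional k V] in
/-- `span {v, j v}` is preserved by `i`, `j` and by what commutes with `j` and fixes the line of `v`. -/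
theorem span_pair_invariant {i j : End k V} (hj : j * j = (-3 : k) • 1) {v : V} {μ τ : k}
    (hi : i v = μ • v) (hT : (i * j + j * i) v = τ • v) :
    (∀ w ∈ Submodule.span k ({v, j v} : Set V), i w ∈ Submodule.span k ({v, j v} : Set V)) ∧
    (∀ w ∈ Submodule.span k ({v, j v} : Set V), j w ∈ Submodule.span k ({v, j v} : Set V)) ∧
    ∀ u : End k V, Commute u j → ∀ a : k, u v = a • v →
      ∀ w ∈ Submodule.span k ({v, j v} : Set V), u w = a • w := by
  have hv : v ∈ Submodule.span k ({v, j v} : Set V) := Submodule.subset_span (by simp)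
  have hjv : j v ∈ Submodule.span k ({v, j v} : Set V) := Submodule.subset_span (by simp)
  refine ⟨fun w hw => ?_, fun w hw => ?_, fun u hu a ha w hw => ?_⟩ <;>
    obtain ⟨p, q, rfl⟩ := Submodule.mem_span_pair.mp hw
  · rw [map_add, map_smul, map_smul, hi]
    refine add_mem (Submodule.smul_mem _ _ (Submodule.smul_mem _ _ hv)) (Submodule.smul_mem _ _ ?_)
    have : i (j v) = τ • v - μ • j v := by
      rw [← hT, LinearMap.add_apply, End.mul_apply, End.mul_apply, hi, map_smul]; abel
    rw [this]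
    exact sub_mem (Submodule.smul_mem _ _ hv) (Submodule.smul_mem _ _ hjv)
  · rw [map_add, map_smul, map_smul]
    refine add_mem (Submodule.smul_mem _ _ hjv) (Submodule.smul_mem _ _ ?_)
    have : j (j v) = (-3 : k) • v := by rw [← End.mul_apply, hj]; rfl
    rw [this]; exact Submodule.smul_mem _ _ hv
  · rw [map_add, map_smul, map_smul, ha, ← End.mul_apply, hu.eq, End.mul_apply, ha, map_smul, smul_add,
      smul_comm p a, smul_comm q a]

omit [IsAlgClosed k] [FiniteDimensional k V] [Nontrivial V] in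
theorem FpfRep.finrank_pair (h : FpfRep ρ) {x y : G} (hxy : ¬ Commute x y) {v : V} (hv : v ≠ 0) {μ : k}
    (hi : imag ρ x v = μ • v) : finrank k (Submodule.span k ({v, imag ρ y v} : Set V)) = 2 := by
  have hli : LinearIndependent k ![v, imag ρ y v] := by
    rw [LinearIndependent.pair_iff' hv]
    intro a ha
    have m : ∀ (g : G) (b : k), imag ρ g v = b • v → g ∈ lineStab ρ v := fun g b hb =>
      mem_lineStab_of_scalar (a := (2 : k)⁻¹ * (b - 1)) (by
        rw [imag, LinearMap.add_apply, LinearMap.smul_apply, End.one_apply] at hb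
        rw [mul_smul, sub_smul, one_smul, ← hb, add_sub_cancel_right, smul_smul, inv_mul_cancel₀ h.two,
          one_smul])
    exact hxy (h.commute_of_lineStab hv (m x μ hi) (m y a ha.symm))
  have := finrank_span_eq_card hli
  rwa [show Set.range ![v, imag ρ y v] = {v, imag ρ y v} by simp [Matrix.range_cons, Matrix.range_empty, Set.pair_comm],
    Fintype.card_fin] at this

/-- The anticommutator of the imaginary parts of two elements of order three. -/
def anti (ρ : G →* End k V) (x y : G) : End k V := imag ρ x * imag ρ y + imag ρ y * imag ρ x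

/-- Two noncommuting elements of order three preserve a plane. -/
theorem FpfRep.exists_plane_two (h : FpfRep ρ) {x y : G} (hx : orderOf x = 3) (hy : orderOf y = 3)
    (hxy : ¬ Commute x y) :
    ∃ W : Submodule k V, finrank k W = 2 ∧ x ∈ preserver ρ W ∧ y ∈ preserver ρ W := by
  obtain ⟨v, hv, hev⟩ := exists_joint_eigen' [imag ρ x, anti ρ x y]
    (by simp [anti, (commute_anti_left (h.imag_sq hx)).symm])
  obtain ⟨μ, hμ⟩ := hev _ (List.mem_cons_self ..)
  obtain ⟨τ, hτ⟩ := hev (anti ρ x y) (by simp)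
  obtain ⟨h1, h2, -⟩ := span_pair_invariant (h.imag_sq hy) hμ hτ
  exact ⟨_, h.finrank_pair hxy hv hμ, fun w hw => h.mem_of_imag hw (h1 w hw),
    fun w hw => h.mem_of_imag hw (h2 w hw)⟩

omit [Finite G] in
theorem FpfRep.anti_sq_ne (h : FpfRep ρ) {x y : G} (hx : orderOf x = 3) (hy : orderOf y = 3)
    (hxy : ¬ Commute x y) {c : k} (hc : anti ρ x y = c • 1) : c * c - 36 ≠ 0 := by
  intro e
  set n := brk (imag ρ x) (imag ρ y) with hn
  have hnn : n * n = 0 := by rw [hn, QPair.brk_sq ⟨h.imag_sq hx, h.imag_sq hy, hc⟩, e, zero_smul]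
  obtain ⟨v, hv, hev⟩ := exists_joint_eigen' [n] (by simp)
  obtain ⟨μ, hμ⟩ := hev n (List.mem_cons_self ..)
  have hμ0 : μ = 0 := by
    have := LinearMap.congr_fun hnn v
    rw [End.mul_apply, hμ, map_smul, hμ, smul_smul, LinearMap.zero_apply, smul_eq_zero] at this
    exact mul_self_eq_zero.mp (this.resolve_right hv)
  subst hμ0
  have e4 : n = (4 : k) • (ρ x * ρ y - ρ y * ρ x) := by
    rw [hn]
    simp only [brk, imag, add_mul, mul_add, smul_mul_assoc, mul_smul_comm, one_mul, mul_one]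
    module
  rw [e4, zero_smul, LinearMap.smul_apply, smul_eq_zero] at hμ
  have h4 : (4 : k) ≠ 0 := by rw [show (4 : k) = 2 * 2 by norm_num]; exact mul_ne_zero h.two h.two
  replace hμ := hμ.resolve_left h4
  rw [LinearMap.sub_apply, sub_eq_zero, End.mul_apply, End.mul_apply, ← End.mul_apply, ← map_mul,
    ← End.mul_apply, ← map_mul] at hμ
  refine hv (h.fpf ((y * x)⁻¹ * (x * y)) (fun e1 => hxy ((inv_mul_eq_one.mp e1).symm)) v ?_)
  rw [map_mul, End.mul_apply, hμ, ← End.mul_apply, ← map_mul, inv_mul_cancel, map_one]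
  rfl

/-- Three elements of order three, two of the anticommutators being scalar, preserve a plane. -/
theorem FpfRep.exists_plane_three (h : FpfRep ρ) {x y r : G} (hx : orderOf x = 3) (hy : orderOf y = 3)
    (hr : orderOf r = 3) (hxy : ¬ Commute x y) {c c1 : k} (hc : anti ρ x y = c • 1)
    (hc1 : anti ρ x r = c1 • 1) :
    ∃ W : Submodule k V, finrank k W = 2 ∧ x ∈ preserver ρ W ∧ y ∈ preserver ρ W ∧ r ∈ preserver ρ W := by
  set i := imag ρ x with hI
  set j := imag ρ y with hJ
  set l := imag ρ r with hL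
  set T := j * l + l * j with hTdef
  have h3 : Triple i j l T c c1 := ⟨⟨h.imag_sq hx, h.imag_sq hy, hc⟩, h.imag_sq hr, hc1, rfl⟩
  obtain ⟨v, hv, hev⟩ := exists_joint_eigen' [i, T, cent i j l T c c1]
    (by simp [h3.T_i.symm, h3.cent_i.symm, h3.cent_T.symm])
  obtain ⟨μ, hμ⟩ := hev i (List.mem_cons_self ..)
  obtain ⟨τ, hτ⟩ := hev T (by simp)
  obtain ⟨a, ha⟩ := hev (cent i j l T c c1) (by simp)
  have hanti : (i * j + j * i) v = c • v := by rw [show i * j + j * i = c • 1 from hc]; rfl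
  obtain ⟨h1, h2, hsc⟩ := span_pair_invariant (h.imag_sq hy) hμ hanti
  refine ⟨_, h.finrank_pair hxy hv hμ, fun w hw => h.mem_of_imag hw (h1 w hw),
    fun w hw => h.mem_of_imag hw (h2 w hw), fun w hw => h.mem_of_imag hw ?_⟩
  set W := Submodule.span k ({v, j v} : Set V) with hW
  have hd := h.anti_sq_ne hx hy hxy hc
  have hn : ∀ w ∈ W, brk i j w ∈ W := fun w hw => by
    simp only [brk, LinearMap.sub_apply, End.mul_apply]
    exact sub_mem (h1 _ (h2 w hw)) (h2 _ (h1 w hw))
  have horth : orth i j l T c c1 w ∈ W := by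
    have e := LinearMap.congr_fun (brk_mul_cent (l := l) (T := T) (c1 := c1) h3.pair) w
    rw [End.mul_apply, hsc _ h3.cent_j a ha w hw, map_smul, LinearMap.smul_apply] at e
    rw [show orth i j l T c c1 w = (c * c - 36)⁻¹ • ((c * c - 36) • orth i j l T c c1 w) by
      rw [smul_smul, inv_mul_cancel₀ hd, one_smul], ← e]
    exact Submodule.smul_mem _ _ (Submodule.smul_mem _ _ (hn w hw))
  have hT : ∀ w ∈ W, T w ∈ W := fun w hw => by
    rw [hsc T h3.T_j τ hτ w hw]; exact Submodule.smul_mem _ _ hw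
  have e : (36 - c * c) • l w = orth i j l T c c1 w - ((6 * c1) • i w + c • T (i w) +
      ((6 : k) • T (j w) + (c * c1) • j w)) := by
    simp only [orth, LinearMap.add_apply, LinearMap.smul_apply, End.mul_apply]
    abel
  have hd' : 36 - c * c ≠ 0 := fun e' => hd (by linear_combination -e')
  change l w ∈ W
  rw [show l w = (36 - c * c)⁻¹ • ((36 - c * c) • l w) by rw [smul_smul, inv_mul_cancel₀ hd', one_smul], e]
  exact Submodule.smul_mem _ _ (sub_mem horth (add_mem (add_mem (Submodule.smul_mem _ _ (h1 w hw))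
    (Submodule.smul_mem _ _ (hT _ (h1 w hw)))) (add_mem (Submodule.smul_mem _ _ (hT _ (h2 w hw)))
    (Submodule.smul_mem _ _ (h2 w hw)))))

/-- Four elements of order three with five scalar anticommutators, and a sixth one between `r` and a
conjugate of `s` by `x ^ ±1`, preserve a plane. -/
theorem FpfRep.exists_plane_four (h : FpfRep ρ) {x y r s : G} (hx : orderOf x = 3) (hy : orderOf y = 3)
    (hr : orderOf r = 3) (hs : orderOf s = 3) (hxy : ¬ Commute x y) {c a1 a2 b1 b2 e : k}
    (hc : anti ρ x y = c • 1) (ha1 : anti ρ x r = a1 • 1) (ha2 : anti ρ y r = a2 • 1)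
    (hb1 : anti ρ x s = b1 • 1) (hb2 : anti ρ y s = b2 • 1) {g : G} (hg : g = x ∨ g = x⁻¹)
    (he : anti ρ r (g * s * g⁻¹) = e • 1) :
    ∃ W : Submodule k V, finrank k W = 2 ∧ x ∈ preserver ρ W ∧ y ∈ preserver ρ W ∧ r ∈ preserver ρ W ∧
      s ∈ preserver ρ W := by
  set i := imag ρ x with hI
  set j := imag ρ y with hJ
  set l := imag ρ r with hL
  set m := imag ρ s with hM
  have hp : QPair i j c := ⟨h.imag_sq hx, h.imag_sq hy, hc⟩
  have hl3 : Triple i j l (a2 • 1) c a1 := ⟨hp, h.imag_sq hr, ha1, ha2⟩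
  have hm3 : Triple i j m (b2 • 1) c b1 := ⟨hp, h.imag_sq hs, hb1, hb2⟩
  have hd := h.anti_sq_ne hx hy hxy hc
  set w := (c * c - 36)⁻¹ • cent i j l (a2 • 1) c a1 with hwdef
  set z := (c * c - 36)⁻¹ • cent i j m (b2 • 1) c b1 with hzdef
  have expr : ∀ (l : End k V) (a1 a2 : k), (36 - c * c) • l = (-(6 * a1 + c * a2)) • i +
      (-(6 * a2 + c * a1)) • j + brk i j * ((c * c - 36)⁻¹ • cent i j l (a2 • 1) c a1) := by
    intro l a1 a2
    rw [mul_smul_comm, brk_mul_cent hp, smul_smul, inv_mul_cancel₀ hd, one_smul, orth]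
    simp only [smul_mul_assoc, one_mul]
    module
  have hconj : ∃ ε : k, ε * ε = 1 ∧ (2 : k) • ρ g = -1 + ε • i ∧ (2 : k) • ρ g⁻¹ = -1 - ε • i := by
    rcases hg with hg | hg <;> rw [hg]
    · exact ⟨1, one_mul _, by rw [one_smul]; exact h.two_smul_eq x, by rw [one_smul]; exact h.two_smul_inv hx⟩
    · refine ⟨-1, by ring, ?_, ?_⟩
      · rw [neg_one_smul, ← sub_eq_add_neg]; exact h.two_smul_inv hx
      · rw [neg_one_smul, inv_inv, sub_neg_eq_add]; exact h.two_smul_eq x
  obtain ⟨ε, hε, hg1, hg2⟩ := hconj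
  have him : imag ρ (g * s * g⁻¹) = ρ g * m * ρ g⁻¹ := by
    simp only [hM, imag, map_mul, mul_add, add_mul, mul_smul_comm, smul_mul_assoc, mul_one]
    rw [show ρ g * ρ g⁻¹ = 1 by rw [← map_mul, mul_inv_cancel, map_one]]
  have hcomm : Commute w z :=
    commute_parts hp h.two hd hε hg1 hg2 (hl3.cent_i.smul_left _) (hl3.cent_j.smul_left _)
      (hm3.cent_i.smul_left _) (hm3.cent_j.smul_left _) (expr l a1 a2) (expr m b1 b2)
      (by rw [← him]; exact he)
  obtain ⟨v, hv, hev⟩ := exists_joint_eigen' [i, w, z]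
    (by simp [hcomm,
      hwdef ▸ (hl3.cent_i.smul_left (c * c - 36)⁻¹).symm, hzdef ▸ (hm3.cent_i.smul_left (c * c - 36)⁻¹).symm])
  obtain ⟨μ, hμ⟩ := hev i (List.mem_cons_self ..)
  obtain ⟨a, ha⟩ := hev w (by simp)
  obtain ⟨b, hb⟩ := hev z (by simp)
  have hanti : (i * j + j * i) v = c • v := by rw [show i * j + j * i = c • 1 from hc]; rfl
  obtain ⟨h1, h2, hsc⟩ := span_pair_invariant (h.imag_sq hy) hμ hanti
  set W := Submodule.span k ({v, j v} : Set V) with hW
  have hd' : 36 - c * c ≠ 0 := fun e' => hd (by linear_combination -e')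
  have pres : ∀ (f : End k V) (u : End k V) (q p1 p2 : k), (36 - c * c) • f = p1 • i + p2 • j + brk i j * u →
      Commute u j → u v = q • v → ∀ t ∈ W, f t ∈ W := by
    intro f u q p1 p2 hf hu hq t ht
    have e := LinearMap.congr_fun hf t
    simp only [LinearMap.smul_apply, LinearMap.add_apply, End.mul_apply, brk, LinearMap.sub_apply,
      hsc u hu q hq t ht, map_smul] at e
    rw [show f t = (36 - c * c)⁻¹ • ((36 - c * c) • f t) by rw [smul_smul, inv_mul_cancel₀ hd', one_smul], e]
    exact Submodule.smul_mem _ _ (add_mem (add_mem (Submodule.smul_mem _ _ (h1 t ht))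
      (Submodule.smul_mem _ _ (h2 t ht))) (Submodule.smul_mem _ _ (sub_mem (h1 _ (h2 t ht)) (h2 _ (h1 t ht)))))
  exact ⟨W, h.finrank_pair hxy hv hμ, fun t ht => h.mem_of_imag ht (h1 t ht),
    fun t ht => h.mem_of_imag ht (h2 t ht),
    fun t ht => h.mem_of_imag ht (pres l w a _ _ (expr l a1 a2) (hl3.cent_j.smul_left _) ha t ht),
    fun t ht => h.mem_of_imag ht (pres m z b _ _ (expr m b1 b2) (hm3.cent_j.smul_left _) hb t ht)⟩

end Cfsg.Agent.Grp.Zas
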