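import Mathlib
import Cfsg.Agent.Lib.Grp.Zassenhaus.Rep

/-!
# Fixed-point-free groups on a plane generated by elements of order three
-/

set_option autoImplicit false

namespace Cfsg.Agent.Grp.Zas

open Module
open scoped Pointwise

/-- The subgroups of order three. -/
def threeSubgroups (G : Type*) [Group G] : Set (Subgroup G) := {P | Nat.card P = 3}

theorem exists_zpowers_of_card_three {G : Type*} [Group G] [Finite G] {P : Subgroup G} (hP : Nat.card P = 3) :
    ∃ x : G, orderOf x = 3 ∧ P = Subgroup.zpowers x := by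
  have : Fact (Nat.Prime 3) := ⟨Nat.prime_three⟩
  obtain ⟨g, hg⟩ := exists_prime_orderOf_dvd_card' (G := P) 3 (by rw [hP])
  refine ⟨(g : G), by rw [Subgroup.orderOf_coe]; exact hg, (Subgroup.eq_of_le_of_card_ge
    (Subgroup.zpowers_le.mpr g.2) (by rw [Nat.card_zpowers, Subgroup.orderOf_coe, hg, hP])).symm⟩

theorem zpowers_mem_threeSubgroups {G : Type*} [Group G] {x : G} (hx : orderOf x = 3) :
    Subgroup.zpowers x ∈ threeSubgroups G := by
  show Nat.card (Subgroup.zpowers x) = 3
  rw [Nat.card_zpowers, hx]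

theorem orderOf_three_of_mem {G : Type*} [Group G] [Finite G] {P : Subgroup G} (hP : Nat.card P = 3)
    {g : G} (hg : g ∈ P) (h1 : g ≠ 1) : orderOf g = 3 :=
  ((Nat.dvd_prime Nat.prime_three).mp (hP ▸ Subgroup.orderOf_dvd_natCard P hg)).resolve_left
    (by rwa [orderOf_eq_one_iff])

theorem zpowers_eq_of_mem {G : Type*} [Group G] [Finite G] {x y : G} (hx : orderOf x = 3) (hy : orderOf y = 3)
    (h : y ∈ Subgroup.zpowers x) : Subgroup.zpowers y = Subgroup.zpowers x :=
  Subgroup.eq_of_le_of_card_ge (Subgroup.zpowers_le.mpr h) (by rw [Nat.card_zpowers, Nat.card_zpowers, hx, hy])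

theorem pow_three_eq_one {G : Type*} [Group G] {x : G} (hx : orderOf x = 3) : x ^ 3 = 1 :=
  hx ▸ pow_orderOf_eq_one x

/-- A conjugation stabilising a subgroup of order three by an element of order three is trivial on it. -/
theorem commute_of_normalize_three {G : Type*} [Group G] [Finite G] {x y : G} (hx : orderOf x = 3)
    (hy : orderOf y = 3) (h : x * y * x⁻¹ ∈ Subgroup.zpowers y) : Commute x y := by
  classical
  rw [mem_zpowers_iff_mem_range_orderOf, hy] at h
  simp only [Finset.mem_image, Finset.mem_range] at h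
  obtain ⟨i, hi, e⟩ := h
  interval_cases i
  · exfalso
    rw [pow_zero, eq_comm, conj_eq_one_iff] at e
    rw [e, orderOf_one] at hy; omega
  · rw [pow_one] at e
    exact mul_inv_eq_iff_eq_mul.mp e.symm
  · exfalso
    have e2 : y ^ 2 = y⁻¹ := eq_inv_of_mul_eq_one_left (by rw [← pow_succ]; exact pow_three_eq_one hy)
    rw [e2] at e
    have h2 : x * (x * y * x⁻¹) * x⁻¹ = y := by
      rw [← e, ← conj_inv, ← e, inv_inv]
    have h3 : x * (x * (x * y * x⁻¹) * x⁻¹) * x⁻¹ = y⁻¹ := by rw [h2, ← e]
    have h4 : x ^ 3 * y * (x ^ 3)⁻¹ = y⁻¹ := by rw [← h3]; simp [pow_succ, mul_assoc]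
    rw [pow_three_eq_one hx, one_mul, inv_one, mul_one] at h4
    have : y ^ 2 = 1 := by
      rw [pow_two]; nth_rewrite 1 [h4]; rw [inv_mul_cancel]
    have := Nat.le_of_dvd two_pos (orderOf_dvd_of_pow_eq_one this)
    omega

section Arith

theorem orbit_arith {N a b c na nb nc : ℕ} (ha : a * na = N) (hb : b * nb = N) (hc : c * nc = N)
    (hsum : a + b + c = N + 2) (ha3 : 3 ≤ a) (hb3 : 3 ≤ b) (hc3 : 3 ≤ c) (h2 : 2 ≤ na) (hab : na ≤ nb)
    (hbc : nb ≤ nc) : (na = 2 ∧ nb = 3) ∧ ((nc = 3 ∧ N = 12) ∨ (nc = 4 ∧ N = 24) ∨ (nc = 5 ∧ N = 60)) := by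
  have hna : na = 2 := by
    by_contra hne
    have h1 : 3 * a ≤ N := by rw [← ha, Nat.mul_comm 3]; exact Nat.mul_le_mul_left a (by omega)
    have h2 : 3 * b ≤ N := by rw [← hb, Nat.mul_comm 3]; exact Nat.mul_le_mul_left b (by omega)
    have h3 : 3 * c ≤ N := by rw [← hc, Nat.mul_comm 3]; exact Nat.mul_le_mul_left c (by omega)
    omega
  subst hna
  have hnb : nb = 3 := by
    by_contra hne
    by_cases h4 : nb = 2
    · subst h4; omega
    · have h2 : 4 * b ≤ N := by rw [← hb, Nat.mul_comm 4]; exact Nat.mul_le_mul_left b (by omega)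
      have h3 : 4 * c ≤ N := by rw [← hc, Nat.mul_comm 4]; exact Nat.mul_le_mul_left c (by omega)
      omega
  subst hnb
  refine ⟨⟨rfl, rfl⟩, ?_⟩
  have h6 : 6 * c = N + 12 := by omega
  have : nc < 6 := by
    by_contra hge
    have : 6 * c ≤ N := by rw [← hc, Nat.mul_comm 6]; exact Nat.mul_le_mul_left c (by omega)
    omega
  interval_cases nc <;> omega

theorem orbit_types {ι : Type*} [Fintype ι] {o n : ι → ℕ} {N : ℕ} (hN : ∀ i, o i * n i = N) (h3 : ∀ i, 3 ≤ o i)
    (h2 : ∀ i, 2 ≤ n i) (hsum : Fintype.card ι * N + 2 = ∑ i, o i + 2 * N) (hN1 : 1 < N) :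
    ∃ m : ℕ, ((m = 3 ∧ N = 12) ∨ (m = 4 ∧ N = 24) ∨ (m = 5 ∧ N = 60)) ∧
      (∀ i, n i = 2 ∨ n i = 3 ∨ n i = m) ∧
      (∑ i ∈ Finset.univ.filter (fun i => n i = 3), o i = if m = 5 then 20 else 8) ∧
      (∑ i ∈ Finset.univ.filter (fun i => n i = 2), o i) * 2 = N := by
  classical
  have hle : 2 * ∑ i, o i ≤ Fintype.card ι * N := by
    rw [Finset.mul_sum, ← Finset.card_univ, ← smul_eq_mul, ← Finset.sum_const]
    exact Finset.sum_le_sum fun i _ => by rw [← hN i, Nat.mul_comm]; exact Nat.mul_le_mul_left _ (h2 i)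
  have hR : Fintype.card ι ≤ 3 := by
    by_contra h
    have := Nat.mul_le_mul_right N (show 4 ≤ Fintype.card ι by omega)
    omega
  have hR3 : Fintype.card ι = 3 := by
    have hge : ∀ i, 3 * 1 ≤ o i := by simpa using h3
    have hs : 3 * Fintype.card ι ≤ ∑ i, o i := by
      rw [← Finset.card_univ, Nat.mul_comm, ← smul_eq_mul, ← Finset.sum_const]
      exact Finset.sum_le_sum fun i _ => h3 i
    interval_cases h : Fintype.card ι <;> omega
  obtain ⟨a, b, c, hab, hac, hbc, huniv⟩ := Finset.card_eq_three.mp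
    (show (Finset.univ : Finset ι).card = 3 by rw [Finset.card_univ]; exact hR3)
  have hmem : ∀ i : ι, i = a ∨ i = b ∨ i = c := fun i => by
    have := Finset.mem_univ i
    rw [huniv] at this
    simpa using this
  rw [hR3, huniv, Finset.sum_insert (by simp [hab, hac]), Finset.sum_insert (by simp [hbc]),
    Finset.sum_singleton] at hsum
  have key : ∀ a b c : ι, a ≠ b → a ≠ c → b ≠ c → (∀ i, i = a ∨ i = b ∨ i = c) →
      o a + o b + o c = N + 2 → n a ≤ n b → n b ≤ n c →
    ∃ m : ℕ, ((m = 3 ∧ N = 12) ∨ (m = 4 ∧ N = 24) ∨ (m = 5 ∧ N = 60)) ∧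
      (∀ i, n i = 2 ∨ n i = 3 ∨ n i = m) ∧
      (∑ i ∈ Finset.univ.filter (fun i => n i = 3), o i = if m = 5 then 20 else 8) ∧
      (∑ i ∈ Finset.univ.filter (fun i => n i = 2), o i) * 2 = N := by
    intro a b c hab hac hbc hmem hs h1 h4
    obtain ⟨⟨ea, eb⟩, hc⟩ := orbit_arith (hN a) (hN b) (hN c) hs (h3 a) (h3 b) (h3 c) (h2 a) h1 h4
    have hu : (Finset.univ : Finset ι) = {a, b, c} := by
      ext i; simpa using hmem i
    have hoa := hN a
    have hob := hN b
    have hoc := hN c
    rw [ea] at hoa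
    rw [eb] at hob
    refine ⟨n c, hc, fun i => ?_, ?_, ?_⟩
    · rcases hmem i with rfl | rfl | rfl <;> simp [ea, eb]
    · rcases hc with ⟨ec, eN⟩ | ⟨ec, eN⟩ | ⟨ec, eN⟩ <;> rw [hu, ec] <;>
        simp [Finset.sum_filter, hab, hac, hbc, ea, eb, ec] <;> rw [ec] at hoc <;> omega
    · rcases hc with ⟨ec, eN⟩ | ⟨ec, eN⟩ | ⟨ec, eN⟩ <;> rw [hu] <;>
        simp [Finset.sum_filter, hab, hac, hbc, ea, eb, ec] <;> rw [ec] at hoc <;> omega
  rcases le_total (n a) (n b) with h | h <;> rcases le_total (n b) (n c) with h' | h' <;>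
    rcases le_total (n a) (n c) with h'' | h''
  all_goals first
    | exact key a b c hab hac hbc hmem (by omega) h h'
    | exact key a c b hac hab hbc.symm (fun i => by rcases hmem i with e | e | e <;> tauto) (by omega) h'' h'
    | exact key b a c hab.symm hbc hac (fun i => by rcases hmem i with e | e | e <;> tauto) (by omega) h h''
    | exact key b c a hbc hab.symm hac.symm (fun i => by rcases hmem i with e | e | e <;> tauto) (by omega) h' h''
    | exact key c a b hac.symm hbc.symm hab (fun i => by rcases hmem i with e | e | e <;> tauto) (by omega) h'' h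
    | exact key c b a hbc.symm hac.symm hab.symm (fun i => by rcases hmem i with e | e | e <;> tauto) (by omega) h' h

end Arith

section Plane

variable {K k W : Type*} [Group K] [Finite K] [Field k] [IsAlgClosed k] [AddCommGroup W] [Module k W]
  [FiniteDimensional k W] [Nontrivial W] (ρ : K →* End k W)

/-- A fixed-point-free action on a plane of a noncommutative group generated by elements of order three. -/
structure PlaneGroup : Prop where
  rep : FpfRep ρ
  rank : finrank k W = 2
  gen : Subgroup.closure {x : K | orderOf x = 3} = ⊤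
  noncomm : ∃ x y : K, orderOf x = 3 ∧ orderOf y = 3 ∧ ¬ Commute x y

variable {ρ}

omit [IsAlgClosed k] [FiniteDimensional k W] in
theorem PlaneGroup.not_common_line (h : PlaneGroup ρ) {v : W} (hv : v ≠ 0) : ∃ g, g ∉ lineStab ρ v := by
  by_contra hc
  push Not at hc
  obtain ⟨x, y, -, -, hxy⟩ := h.noncomm
  exact hxy (h.rep.commute_of_lineStab hv (hc x) (hc y))

omit [IsAlgClosed k] [FiniteDimensional k W] in
theorem PlaneGroup.not_all_mem (h : PlaneGroup ρ) {v : W} (hv : v ≠ 0) :
    ∃ x : K, orderOf x = 3 ∧ x ∉ lineStab ρ v := by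
  by_contra hc
  push Not at hc
  obtain ⟨g, hg⟩ := h.not_common_line hv
  exact hg ((Subgroup.closure_le _).mpr (fun x hx => hc x hx) (h.gen ▸ Subgroup.mem_top g))

theorem PlaneGroup.scalar_of_center (h : PlaneGroup ρ) {g : K} (hg : g ∈ Subgroup.center K) :
    ∃ a : k, ρ g = a • 1 := by
  obtain ⟨v, hv, hev⟩ := exists_joint_eigen' [ρ g] (by simp)
  obtain ⟨a, ha⟩ := hev _ (List.mem_cons_self ..)
  refine ⟨a, ?_⟩
  set E : Submodule k W := LinearMap.ker (ρ g - a • 1) with hE
  have hmem : ∀ w, w ∈ E ↔ ρ g w = a • w := fun w => by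
    rw [hE, LinearMap.mem_ker, LinearMap.sub_apply, LinearMap.smul_apply, End.one_apply, sub_eq_zero]
  suffices hEtop : E = ⊤ from LinearMap.ext fun w => by
    rw [LinearMap.smul_apply, End.one_apply]; exact (hmem w).mp (hEtop ▸ Submodule.mem_top)
  have hpos : 0 < finrank k E := by
    have : Nontrivial E := Submodule.nontrivial_iff_ne_bot.mpr ((Submodule.ne_bot_iff _).mpr ⟨v, (hmem v).mpr ha, hv⟩)
    exact finrank_pos
  have hle : finrank k E ≤ 2 := h.rank ▸ E.finrank_le
  refine Submodule.eq_top_of_finrank_eq ?_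
  rw [h.rank]
  by_contra hne
  obtain ⟨s, hs⟩ := h.not_common_line hv
  refine hs fun w hw => ?_
  have hspan : (k ∙ v) = E := Submodule.eq_of_le_of_finrank_eq
    ((Submodule.span_singleton_le_iff_mem _ _).mpr ((hmem v).mpr ha)) (by rw [finrank_span_singleton hv]; omega)
  rw [hspan] at hw ⊢
  rw [hmem] at hw ⊢
  rw [← End.mul_apply, ← map_mul, ← Subgroup.mem_center_iff.mp hg s, map_mul, End.mul_apply, hw, map_smul]

omit [IsAlgClosed k] [FiniteDimensional k W] in
theorem PlaneGroup.mem_center_of_scalar (h : PlaneGroup ρ) {g : K} {a : k} (hg : ρ g = a • 1) :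
    g ∈ Subgroup.center K :=
  Subgroup.mem_center_iff.mpr fun s => h.rep.injective (by
    rw [map_mul, map_mul, hg, mul_smul_comm, smul_mul_assoc, one_mul, mul_one])

theorem PlaneGroup.not_center (h : PlaneGroup ρ) {x : K} (hx : orderOf x = 3) : x ∉ Subgroup.center K := by
  intro hc
  obtain ⟨a, ha⟩ := h.scalar_of_center hc
  obtain ⟨y, z, hy, hz, hyz⟩ := h.noncomm
  have key : ∀ y : K, orderOf y = 3 → y ∈ Subgroup.zpowers x := by
    intro y hy
    obtain ⟨v, hv, hev⟩ := exists_joint_eigen' [ρ y] (by simp)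
    obtain ⟨b, hb⟩ := hev _ (List.mem_cons_self ..)
    exact h.rep.mem_zpowers_of_lineStab hv (mem_lineStab_of_scalar (a := a) (by rw [ha]; rfl))
      (mem_lineStab_of_scalar hb) (by rw [hx]; exact pow_three_eq_one hy)
  obtain ⟨i, hi⟩ := key y hy
  obtain ⟨j, hj⟩ := key z hz
  simp only at hi hj
  exact hyz (hi ▸ hj ▸ (Commute.refl x).zpow_zpow i j)

theorem PlaneGroup.det_eq_one (h : PlaneGroup ρ) (g : K) : LinearMap.det (ρ g) = 1 := by
  suffices H : ⊤ ≤ (LinearMap.det.comp ρ : K →* k).ker by simpa using H (Subgroup.mem_top g)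
  rw [← h.gen, Subgroup.closure_le]
  intro x hx
  have hx3 : orderOf x = 3 := hx
  obtain ⟨v, hv⟩ : ∃ v : W, ∀ a : k, a • v ≠ ρ x v := by
    by_contra hc
    push Not at hc
    obtain ⟨w, hw⟩ := exists_ne (0 : W)
    obtain ⟨a, ha⟩ := hc w
    refine h.not_center hx3 (h.mem_center_of_scalar (a := a) ?_)
    ext t
    rw [LinearMap.smul_apply, End.one_apply]
    obtain ⟨c, hc'⟩ := hc t
    obtain ⟨d, hd⟩ := hc (w + t)
    rw [map_add, ← ha, ← hc', smul_add] at hd
    by_cases hli : LinearIndependent k ![w, t]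
    · have := LinearIndependent.pair_iff.mp hli (d - a) (d - c) (by
        rw [sub_smul, sub_smul, ← sub_eq_zero.mpr hd]; abel)
      rw [← hc', show c = a by rw [← sub_eq_zero.mp this.2, sub_eq_zero.mp this.1]]
    · rw [LinearIndependent.pair_iff' hw] at hli
      push Not at hli
      obtain ⟨r, rfl⟩ := hli
      rw [map_smul, ← ha, smul_comm]
  have hv0 : v ≠ 0 := fun e => hv 0 (by simp [e])
  have hli : LinearIndependent k ![v, ρ x v] := (LinearIndependent.pair_iff' hv0).mpr hv
  let b := basisOfLinearIndependentOfCardEqFinrank hli (by rw [Fintype.card_fin, h.rank])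
  have hb : ⇑b = ![v, ρ x v] := coe_basisOfLinearIndependentOfCardEqFinrank hli _
  have hxx : ρ x (ρ x v) = - v - ρ x v := by
    have := LinearMap.congr_fun (h.rep.order_three hx3) v
    simp only [LinearMap.add_apply, End.mul_apply, End.one_apply, LinearMap.zero_apply] at this
    rw [← sub_eq_zero, ← this]; abel
  have hm : LinearMap.toMatrix b b (ρ x) = !![0, -1; 1, -1] := by
    ext i j
    rw [LinearMap.toMatrix_apply]
    fin_cases j <;> simp only [hb] <;> simp only [Fin.zero_eta, Fin.mk_one, Matrix.cons_val_zero, Matrix.cons_val_one]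
    · have : ρ x v = b 1 := by rw [hb]; rfl
      rw [this, Basis.repr_self]
      fin_cases i <;> simp
    · have : ρ x (ρ x v) = - b 0 - b 1 := by rw [hxx, hb]; rfl
      rw [this, map_sub, map_neg, Basis.repr_self, Basis.repr_self]
      fin_cases i <;> simp
  change LinearMap.det (ρ x) = 1
  rw [← LinearMap.det_toMatrix b, hm, Matrix.det_fin_two]
  simp

theorem PlaneGroup.center_cases (h : PlaneGroup ρ) {g : K} (hg : g ∈ Subgroup.center K) :
    g = 1 ∨ orderOf g = 2 := by
  obtain ⟨a, ha⟩ := h.scalar_of_center hg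
  have hd := h.det_eq_one g
  rw [ha, LinearMap.det_smul, map_one, mul_one, h.rank] at hd
  have h2 : g * g = 1 := h.rep.injective (by
    rw [map_mul, ha, smul_mul_assoc, one_mul, smul_smul, ← pow_two, hd, one_smul, map_one])
  by_cases h1 : g = 1
  · exact .inl h1
  · exact .inr (orderOf_eq_prime (by rw [pow_two, h2]) h1)

/-- A nontrivial element outside the centre fixes exactly two lines. -/
theorem PlaneGroup.exists_two_lines (h : PlaneGroup ρ) {g : K} (hg : g ∉ Subgroup.center K) :
    ∃ v w : W, v ≠ 0 ∧ w ≠ 0 ∧ (k ∙ v) ≠ (k ∙ w) ∧ g ∈ lineStab ρ v ∧ g ∈ lineStab ρ w ∧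
      ∀ u : W, u ≠ 0 → g ∈ lineStab ρ u → (k ∙ u) = (k ∙ v) ∨ (k ∙ u) = (k ∙ w) := by
  obtain ⟨v, hv, hev⟩ := exists_joint_eigen' [ρ g] (by simp)
  obtain ⟨a, ha⟩ := hev _ (List.mem_cons_self ..)
  obtain ⟨u, hu⟩ := exists_linearIndependent_pair_of_one_lt_finrank (R := k) (by rw [h.rank]; norm_num) hv
  have hspan : Submodule.span k (Set.range ![v, u]) = ⊤ :=
    hu.span_eq_top_of_card_eq_finrank (by rw [Fintype.card_fin, h.rank])
  have hdec : ∀ t : W, ∃ p q : k, p • v + q • u = t := fun t => by
    have ht : t ∈ Submodule.span k ({v, u} : Set W) := by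
      rw [show ({v, u} : Set W) = Set.range ![v, u] by simp [Matrix.range_cons, Matrix.range_empty, Set.pair_comm],
        hspan]; trivial
    exact Submodule.mem_span_pair.mp ht
  obtain ⟨e, b, hb⟩ := hdec (ρ g u)
  have hab : a ≠ b := by
    rintro rfl
    have hn : ∀ n : ℕ, ρ (g ^ n) v = a ^ n • v ∧ ρ (g ^ (n+1)) u = a ^ (n+1) • u + (((n+1 : ℕ) : k) * a ^ n * e) • v := by
      intro n
      induction n with
      | zero => exact ⟨by simp, by simp [← hb, add_comm]⟩
      | succ n ih =>
        refine ⟨by rw [pow_succ', map_mul, End.mul_apply, ih.1, map_smul, ha, smul_smul, ← pow_succ], ?_⟩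
        rw [pow_succ' g (n+1), map_mul, End.mul_apply, ih.2, map_add, map_smul, map_smul, ← hb, ha]
        push_cast
        module
    obtain ⟨m, hm⟩ : ∃ m, orderOf g = m + 1 := ⟨orderOf g - 1, by have := orderOf_pos g; omega⟩
    have h1 := (hn (orderOf g)).1
    rw [pow_orderOf_eq_one, map_one, End.one_apply] at h1
    have han : a ^ orderOf g = 1 := (smul_left_injective k hv (by simpa using h1.symm))
    have h2 := (hn m).2
    rw [← hm, pow_orderOf_eq_one, map_one, End.one_apply, han, one_smul, left_eq_add, smul_eq_zero] at h2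
    have ha0 : a ≠ 0 := fun e0 => by rw [e0, zero_pow (orderOf_pos g).ne'] at han; exact zero_ne_one han
    have he : e = 0 := by simpa [hv, ha0, h.rep.orderOf_ne g] using h2
    subst he
    refine hg (h.mem_center_of_scalar (a := a) (LinearMap.ext_on hspan ?_))
    rintro _ ⟨i, rfl⟩
    fin_cases i
    · simp [ha]
    · simp [← hb]
  set w := e • v + (b - a) • u with hw
  have hw0 : w ≠ 0 := fun e0 => by
    have := (LinearIndependent.pair_iff.mp hu e (b - a) e0).2
    exact hab (sub_eq_zero.mp this).symm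
  have hgw : ρ g w = b • w := by
    rw [hw, map_add, map_smul, map_smul, ha, ← hb]; module
  have hne : (k ∙ v) ≠ (k ∙ w) := fun e0 => by
    obtain ⟨r, hr⟩ := Submodule.mem_span_singleton.mp (e0 ▸ Submodule.mem_span_singleton_self w)
    have := LinearIndependent.pair_iff.mp hu (r - e) (-(b - a)) (by
      rw [sub_smul, neg_smul, hr, hw]; abel)
    exact hab (sub_eq_zero.mp (neg_eq_zero.mp this.2)).symm
  refine ⟨v, w, hv, hw0, hne, mem_lineStab_of_scalar ha, mem_lineStab_of_scalar hgw, fun t ht0 ht => ?_⟩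
  obtain ⟨c, hc⟩ := exists_scalar_of_mem_lineStab ht
  obtain ⟨p, q, rfl⟩ := hdec t
  have eq1 := hc
  rw [map_add, map_smul, map_smul, ha, ← hb] at eq1
  have := LinearIndependent.pair_iff.mp hu (p * a + q * e - c * p) (q * b - c * q) (by
    rw [← sub_eq_zero] at eq1; rw [← eq1]; module)
  by_cases hq : q = 0
  · left
    subst hq
    rw [zero_smul, add_zero] at ht0 ⊢
    exact Submodule.span_singleton_smul_eq (isUnit_iff_ne_zero.mpr fun e0 => ht0 (by simp [e0])) v
  · right
    have hcb : c = b := mul_left_cancel₀ hq (by linear_combination -this.2)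
    have hp : p * (b - a) = q * e := by linear_combination -this.1 - p * hcb
    have : p • v + q • u = (q / (b - a)) • w := by
      have hba : b - a ≠ 0 := sub_ne_zero.mpr hab.symm
      rw [hw, smul_add, smul_smul, smul_smul, div_mul_cancel₀ q hba, div_mul_eq_mul_div, ← hp,
        mul_div_cancel_right₀ p hba]
    rw [this]
    exact Submodule.span_singleton_smul_eq (isUnit_iff_ne_zero.mpr
      (div_ne_zero hq (sub_ne_zero.mpr hab.symm))) w

/-- Lines fixed by some noncentral element. -/
def Lines (ρ : K →* End k W) : Type _ :=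
  {L : Submodule k W // ∃ v : W, v ≠ 0 ∧ (k ∙ v) = L ∧ ∃ g, g ∉ Subgroup.center K ∧ g ∈ lineStab ρ v}

theorem map_span (g : K) (v : W) : (k ∙ v).map (ρ g) = (k ∙ ρ g v) := by
  rw [Submodule.map_span, Set.image_singleton]

theorem lineStab_conj {g h : K} {v : W} (hh : h ∈ lineStab ρ v) : g * h * g⁻¹ ∈ lineStab ρ (ρ g v) := by
  obtain ⟨a, ha⟩ := exists_scalar_of_mem_lineStab hh
  refine mem_lineStab_of_scalar (a := a) ?_
  rw [← End.mul_apply, ← map_mul, inv_mul_cancel_right, map_mul, End.mul_apply, ha, map_smul]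

theorem ne_zero_map (g : K) {v : W} (hv : v ≠ 0) : ρ g v ≠ 0 := fun e => hv (by
  have := congrArg (ρ g⁻¹) e
  rwa [← End.mul_apply, ← map_mul, inv_mul_cancel, map_one, End.one_apply, map_zero] at this)

instance : MulAction K (Lines ρ) where
  smul g L := ⟨L.1.map (ρ g), by
    obtain ⟨v, hv, e, h, hh, hhv⟩ := L.2
    exact ⟨ρ g v, ne_zero_map g hv, by rw [← e, map_span], g * h * g⁻¹, fun hc => hh (by
      have := (inferInstance : (Subgroup.center K).Normal).conj_mem _ hc g⁻¹
      rwa [show g⁻¹ * (g * h * g⁻¹) * g⁻¹⁻¹ = h by group] at this), lineStab_conj hhv⟩⟩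
  one_smul L := Subtype.ext (by show L.1.map (ρ 1) = L.1; rw [map_one]; exact Submodule.map_id L.1)
  mul_smul a b L := Subtype.ext (by
    show L.1.map (ρ (a * b)) = (L.1.map (ρ b)).map (ρ a)
    rw [map_mul, ← Submodule.map_comp]; rfl)

theorem smul_eq_iff {g : K} {L : Lines ρ} {v : W} (hv : v ≠ 0) (e : (k ∙ v) = L.1) :
    g • L = L ↔ g ∈ lineStab ρ v := by
  constructor
  · intro h
    have h1 : L.1.map (ρ g) = L.1 := congrArg Subtype.val h
    rw [← e, map_span] at h1
    obtain ⟨a, ha⟩ := Submodule.mem_span_singleton.mp (h1 ▸ Submodule.mem_span_singleton_self (ρ g v))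
    exact mem_lineStab_of_scalar ha.symm
  · intro h
    obtain ⟨a, ha⟩ := exists_scalar_of_mem_lineStab h
    refine Subtype.ext ?_
    show L.1.map (ρ g) = L.1
    rw [← e, map_span, ha]
    refine Submodule.span_singleton_smul_eq (isUnit_iff_ne_zero.mpr fun a0 => ?_) v
    exact ne_zero_map (ρ := ρ) g hv (by rw [ha, a0, zero_smul])

theorem PlaneGroup.fixedBy_center (h : PlaneGroup ρ) {g : K} (hg : g ∈ Subgroup.center K) (L : Lines ρ) :
    g • L = L := by
  obtain ⟨v, hv, e, -⟩ := L.2
  obtain ⟨a, ha⟩ := h.scalar_of_center hg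
  exact (smul_eq_iff hv e).mpr (mem_lineStab_of_scalar (a := a) (by rw [ha]; rfl))

theorem PlaneGroup.card_fixedBy (h : PlaneGroup ρ) {g : K} (hg : g ∉ Subgroup.center K) :
    Nat.card (MulAction.fixedBy (Lines ρ) g) = 2 := by
  obtain ⟨v, w, hv, hw, hne, hgv, hgw, hall⟩ := h.exists_two_lines hg
  let Lv : Lines ρ := ⟨k ∙ v, v, hv, rfl, g, hg, hgv⟩
  let Lw : Lines ρ := ⟨k ∙ w, w, hw, rfl, g, hg, hgw⟩
  have hset : MulAction.fixedBy (Lines ρ) g = {Lv, Lw} := by
    ext L
    constructor
    · intro hL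
      obtain ⟨u, hu, e, -⟩ := L.2
      rcases hall u hu ((smul_eq_iff hu e).mp hL) with h1 | h1
      · exact .inl (Subtype.ext (e ▸ h1))
      · exact .inr (Subtype.ext (e ▸ h1))
    · rintro (rfl | rfl)
      · exact (smul_eq_iff hv rfl).mpr hgv
      · exact (smul_eq_iff hw rfl).mpr hgw
  rw [hset, Nat.card_coe_set_eq, Set.ncard_pair]
  exact fun e => hne (congrArg Subtype.val e)

theorem PlaneGroup.finite_lines (h : PlaneGroup ρ) : Finite (Lines ρ) := by
  have hall : (Set.univ : Set (Lines ρ)) ⊆ ⋃ g ∈ {g : K | g ∉ Subgroup.center K}, MulAction.fixedBy (Lines ρ) g := by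
    intro L _
    obtain ⟨v, hv, e, g, hg, hgv⟩ := L.2
    exact Set.mem_biUnion hg ((smul_eq_iff hv e).mpr hgv)
  refine Set.finite_univ_iff.mp (Set.Finite.subset (Set.Finite.biUnion (Set.toFinite _) fun g hg => ?_) hall)
  exact Set.finite_of_ncard_pos (by rw [← Nat.card_coe_set_eq, h.card_fixedBy hg]; norm_num)

/-- The order of the stabiliser of a line. -/
noncomputable def stabCard (L : Lines ρ) : ℕ := Nat.card (MulAction.stabilizer K L)

theorem PlaneGroup.center_le_stabilizer (h : PlaneGroup ρ) (L : Lines ρ) :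
    Subgroup.center K ≤ MulAction.stabilizer K L := fun g hg => h.fixedBy_center hg L

theorem PlaneGroup.stabilizer_cyclic (h : PlaneGroup ρ) (L : Lines ρ) : IsCyclic (MulAction.stabilizer K L) := by
  obtain ⟨v, hv, e, -⟩ := L.2
  have hst : MulAction.stabilizer K L = lineStab ρ v := by
    ext g; exact smul_eq_iff hv e
  rw [hst]; exact h.rep.lineStab_cyclic hv

theorem PlaneGroup.stabilizer_ne_top (h : PlaneGroup ρ) (L : Lines ρ) : MulAction.stabilizer K L ≠ ⊤ := by
  intro ht
  obtain ⟨v, hv, e, -⟩ := L.2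
  obtain ⟨g, hg⟩ := h.not_common_line hv
  exact hg ((smul_eq_iff hv e).mp (show g • L = L from (ht ▸ Subgroup.mem_top g : g ∈ MulAction.stabilizer K L)))

/-- The orbit structure of a plane group on its lines. -/
theorem PlaneGroup.structure_lines (h : PlaneGroup ρ) :
    Nat.card (Subgroup.center K) = 2 ∧ ∃ m, ((m = 3 ∧ Nat.card K = 24) ∨ (m = 4 ∧ Nat.card K = 48) ∨
      (m = 5 ∧ Nat.card K = 120)) ∧ (∀ L : Lines ρ, stabCard L = 4 ∨ stabCard L = 6 ∨ stabCard L = 2 * m) ∧
      (Nat.card {L : Lines ρ // stabCard L = 6} = if m = 5 then 20 else 8) ∧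
      Nat.card {L : Lines ρ // stabCard L = 4} * 4 = Nat.card K := by
  classical
  have := Fintype.ofFinite K
  have : Finite (Lines ρ) := h.finite_lines
  have := Fintype.ofFinite (Lines ρ)
  set Z := Subgroup.center K with hZ
  set zc := Nat.card Z with hzc
  set N := Z.index with hN
  have hcard : zc * N = Nat.card K := Subgroup.card_mul_index Z
  have hz0 : 0 < zc := Nat.card_pos
  let Ω := MulAction.orbitRel.Quotient K (Lines ρ)
  let o : Ω → ℕ := fun w => Nat.card (MulAction.orbit K w.out)
  let n : Ω → ℕ := fun w => (Z.subgroupOf (MulAction.stabilizer K w.out)).index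
  have hstab : ∀ L : Lines ρ, stabCard L = zc * (Z.subgroupOf (MulAction.stabilizer K L)).index := fun L => by
    rw [stabCard, ← Subgroup.card_mul_index (Z.subgroupOf (MulAction.stabilizer K L)),
      Nat.card_congr (Subgroup.subgroupOfEquivOfLe (h.center_le_stabilizer L)).toEquiv]
  have hon : ∀ w, o w * n w = N := fun w => by
    have e : o w * stabCard w.out = Nat.card K := by
      have := MulAction.card_orbit_mul_card_stabilizer_eq_card_group (G := K) (w.out : Lines ρ)
      simpa only [o, stabCard, ← Nat.card_eq_fintype_card] using this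
    rw [hstab, ← hcard] at e
    exact Nat.eq_of_mul_eq_mul_left hz0 (by rw [← e]; ring)
  have hn2 : ∀ w, 2 ≤ n w := fun w => by
    obtain ⟨v, hv, e, g, hg, hgv⟩ := (w.out : Lines ρ).2
    by_contra hlt
    have h0 : n w ≠ 0 := Subgroup.index_ne_zero_of_finite
    have h1 : n w = 1 := by omega
    have := Subgroup.subgroupOf_eq_top.mp (Subgroup.index_eq_one.mp h1)
    exact hg (this ((smul_eq_iff hv e).mpr hgv))
  have ho3 : ∀ w, 3 ≤ o w := fun w => by
    set S := MulAction.stabilizer K (w.out : Lines ρ) with hS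
    have hidx : S.index = o w := by
      rw [MulAction.index_stabilizer]; rfl
    have h0 : S.index ≠ 0 := Subgroup.index_ne_zero_of_finite
    have h1 : S.index ≠ 1 := fun e => h.stabilizer_ne_top _ (Subgroup.index_eq_one.mp e)
    have h2 : S.index ≠ 2 := fun e => h.stabilizer_ne_top _ (by
      rw [eq_top_iff, ← h.gen, Subgroup.closure_le]
      intro x hx
      have hx' : orderOf x = 3 := hx
      have := Subgroup.normal_of_index_eq_two e
      have hsq : x ^ 2 ∈ S := Subgroup.sq_mem_of_index_two e x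
      have := pow_mem hsq 2
      rwa [← pow_mul, show x ^ (2 * 2) = x by rw [show 2 * 2 = 3 + 1 by rfl, pow_succ, pow_three_eq_one hx', one_mul]] at this)
    omega
  have hcount : ∀ P : ℕ → Prop, Nat.card {L : Lines ρ // P (stabCard L)} =
      ∑ w ∈ Finset.univ.filter (fun w => P (zc * n w)), o w := by
    intro P
    rw [Nat.card_eq_fintype_card, Fintype.card_subtype,
      Finset.card_eq_sum_card_fiberwise (f := fun L => (⟦L⟧ : Ω)) (t := Finset.univ) (fun L _ => Finset.mem_univ _),
      Finset.sum_filter]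
    refine Finset.sum_congr rfl fun w _ => ?_
    have hconst : ∀ L : Lines ρ, (⟦L⟧ : Ω) = w → stabCard L = zc * n w := fun L e => by
      rw [← hstab]
      obtain ⟨g, hg⟩ : L ∈ MulAction.orbit K (w.out : Lines ρ) :=
        MulAction.orbitRel_apply.mp (Quotient.exact (e.trans (Quotient.out_eq w).symm))
      rw [← hg]
      exact Nat.card_congr (MulAction.stabilizerEquivStabilizer (g := g) rfl).symm.toEquiv
    split_ifs with hP
    · simp only [o, Nat.card_eq_fintype_card]
      rw [← Set.toFinset_card]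
      congr 1
      ext L
      simp only [Finset.mem_filter, Finset.mem_univ, true_and, Set.mem_toFinset]
      constructor
      · rintro ⟨-, e⟩
        exact MulAction.orbitRel_apply.mp (Quotient.exact (e.trans (Quotient.out_eq w).symm))
      · intro hL
        have e : (⟦L⟧ : Ω) = w := (Quotient.sound (MulAction.orbitRel_apply.mpr hL)).trans (Quotient.out_eq w)
        exact ⟨hconst L e ▸ hP, e⟩
    · rw [Finset.card_eq_zero, Finset.filter_eq_empty_iff]
      intro L hL e
      simp only [Finset.mem_filter, Finset.mem_univ, true_and] at hL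
      exact hP (hconst L e ▸ hL)
  have hX : Fintype.card (Lines ρ) = ∑ w, o w := by
    have := hcount (fun _ => True)
    simpa using this
  have hburn := MulAction.sum_card_fixedBy_eq_card_orbits_mul_card_group K (Lines ρ)
  rw [← Finset.sum_filter_add_sum_filter_not Finset.univ (fun g => g ∈ Z)] at hburn
  have hA : ∑ g ∈ Finset.univ.filter (fun g => g ∈ Z), Fintype.card (MulAction.fixedBy (Lines ρ) g) =
      zc * Fintype.card (Lines ρ) := by
    rw [Finset.sum_congr rfl (g := fun _ => Fintype.card (Lines ρ)) fun g hg => by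
      refine Fintype.card_congr (Equiv.subtypeUnivEquiv fun L => h.fixedBy_center ?_ L)
      simpa using hg]
    simp [hzc, Nat.card_eq_fintype_card, Fintype.card_subtype]
  have hB : ∑ g ∈ Finset.univ.filter (fun g => g ∉ Z), Fintype.card (MulAction.fixedBy (Lines ρ) g) =
      2 * (Nat.card K - zc) := by
    rw [Finset.sum_congr rfl (g := fun _ => 2) fun g hg => by
      rw [← Nat.card_eq_fintype_card]; exact h.card_fixedBy (by simpa using hg)]
    rw [Finset.sum_const, smul_eq_mul, Nat.mul_comm, Finset.filter_not,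
      Finset.card_sdiff_of_subset (Finset.filter_subset _ _), Finset.card_univ, hzc]
    simp [Nat.card_eq_fintype_card, Fintype.card_subtype]
  rw [hA, hB, hX, ← Nat.card_eq_fintype_card (α := K), ← hcard] at hburn
  obtain ⟨x, y, hx, hy, hxy⟩ := h.noncomm
  have hN1 : 1 < N := by
    have h0 : N ≠ 0 := Subgroup.index_ne_zero_of_finite
    have h1 : N ≠ 1 := fun e => h.not_center hx ((Subgroup.index_eq_one.mp e).ge (Subgroup.mem_top x))
    omega
  have hsum : Fintype.card Ω * N + 2 = ∑ w, o w + 2 * N := by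
    have e1 : zc * (∑ w, o w) + 2 * (zc * N - zc) = zc * (Fintype.card Ω * N) := by rw [hburn]; ring
    have e2 : zc * N - zc = zc * (N - 1) := by rw [Nat.mul_sub_one]
    rw [e2] at e1
    have e3 : (∑ w, o w) + 2 * (N - 1) = Fintype.card Ω * N :=
      Nat.eq_of_mul_eq_mul_left hz0 (by rw [← e1]; ring)
    omega
  obtain ⟨m, hm, hall, h3, h2⟩ := orbit_types hon ho3 hn2 hsum hN1
  have hev : 2 ∣ Nat.card K := by
    rw [← hcard]
    refine dvd_mul_of_dvd_right ?_ _
    rcases hm with ⟨-, e⟩ | ⟨-, e⟩ | ⟨-, e⟩ <;> rw [e] <;> norm_num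
  have hz2 : zc = 2 := by
    have : Fact (Nat.Prime 2) := ⟨Nat.prime_two⟩
    obtain ⟨z, hz⟩ := exists_prime_orderOf_dvd_card' 2 hev
    have hzZ : z ∈ Z := Subgroup.mem_center_iff.mpr fun g => h.rep.involution_central hz g
    have hset : (Z : Set K) = {1, z} := by
      ext g
      constructor
      · intro hg
        rcases h.center_cases hg with e | e
        · exact .inl e
        · exact .inr (h.rep.involution_unique e hz)
      · rintro (rfl | rfl)
        exacts [Z.one_mem, hzZ]
    rw [hzc, ← SetLike.coe_sort_coe, Nat.card_coe_set_eq, hset, Set.ncard_pair]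
    rintro rfl; simp at hz
  refine ⟨hz2, m, ?_, fun L => ?_, ?_, ?_⟩
  · rw [← hcard, hz2]; omega
  · have hL : stabCard L = zc * n (⟦L⟧ : Ω) := by
      rw [← hstab]
      obtain ⟨g, hg⟩ : L ∈ MulAction.orbit K ((⟦L⟧ : Ω).out : Lines ρ) :=
        MulAction.orbitRel_apply.mp (Quotient.exact (Quotient.out_eq (⟦L⟧ : Ω)).symm)
      conv_lhs => rw [← hg]
      exact Nat.card_congr (MulAction.stabilizerEquivStabilizer (g := g) rfl).symm.toEquiv
    rcases hall (⟦L⟧ : Ω) with e | e | e <;> rw [hL, hz2, e] <;> omega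
  · rw [hcount (fun t => t = 6)]
    refine (Finset.sum_congr ?_ fun _ _ => rfl).trans h3
    ext w
    simp only [Finset.mem_filter, hz2]
    exact and_congr_right fun _ => ⟨fun e => by omega, fun e => by omega⟩
  · rw [hcount (fun t => t = 4), ← hcard, hz2, ← h2]
    have : ∀ F G : Finset Ω, F = G → (∑ w ∈ F, o w) * 4 = 2 * ((∑ w ∈ G, o w) * 2) := by
      rintro F G rfl; ring
    refine this _ _ ?_
    ext w
    simp only [Finset.mem_filter]
    exact and_congr_right fun _ => ⟨fun e => by omega, fun e => by omega⟩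

/-- In a cyclic group of order six there is just one subgroup of order three. -/
theorem existsUnique_three_of_six {S : Type*} [Group S] [Finite S] [IsCyclic S] (hS : 3 ∣ Nat.card S) :
    ∀ P Q : Subgroup S, Nat.card P = 3 → Nat.card Q = 3 → P = Q := by
  intro P Q hP hQ
  exact Subgroup.ext fun g => by
    constructor <;> intro hg
    · exact eq_of_card (S := S) hP hQ hS hg
    · exact eq_of_card (S := S) hQ hP hS hg
where
  eq_of_card {S : Type _} [Group S] [Finite S] [IsCyclic S] {P Q : Subgroup S} (hP : Nat.card P = 3)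
      (hQ : Nat.card Q = 3) (_hS : 3 ∣ Nat.card S) {g : S} (hg : g ∈ P) : g ∈ Q := by
    classical
    have := Fintype.ofFinite S
    have hle := IsCyclic.card_pow_eq_one_le (α := S) (n := 3) (by norm_num)
    have h1 : ∀ (R : Subgroup S), Nat.card R = 3 → ∀ t ∈ R, t ^ 3 = 1 := fun R hR t ht => by
      rw [← hR]; exact congrArg Subtype.val (pow_card_eq_one' (x := (⟨t, ht⟩ : R)))
    have hsub : (Q : Set S).toFinset = Finset.univ.filter (fun t => t ^ 3 = 1) := by
      refine Finset.eq_of_subset_of_card_le (fun t ht => by simpa using h1 Q hQ t (by simpa using ht)) ?_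
      rw [Set.toFinset_card]
      refine hle.trans_eq ?_
      rw [← Nat.card_eq_fintype_card]; exact hQ.symm
    have : g ∈ (Q : Set S).toFinset := by rw [hsub]; simpa using h1 P hP g hg
    simpa using this

theorem PlaneGroup.unique_three_in_stab (h : PlaneGroup ρ) (L : Lines ρ) {P Q : Subgroup K}
    (hP : Nat.card P = 3) (hQ : Nat.card Q = 3) (hPL : P ≤ MulAction.stabilizer K L)
    (hQL : Q ≤ MulAction.stabilizer K L) : P = Q := by
  have := h.stabilizer_cyclic L
  set S := MulAction.stabilizer K L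
  have e : P.subgroupOf S = Q.subgroupOf S := existsUnique_three_of_six
    (hP ▸ Subgroup.card_dvd_of_le hPL) _ _
    (by rw [Nat.card_congr (Subgroup.subgroupOfEquivOfLe hPL).toEquiv, hP])
    (by rw [Nat.card_congr (Subgroup.subgroupOfEquivOfLe hQL).toEquiv, hQ])
  have := congrArg (Subgroup.map S.subtype) e
  rwa [Subgroup.map_subgroupOf_eq_of_le hPL, Subgroup.map_subgroupOf_eq_of_le hQL] at this

/-- The number of subgroups of order three. -/
theorem PlaneGroup.card_threeSubgroups (h : PlaneGroup ρ) :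
    2 * (threeSubgroups K).ncard = Nat.card {L : Lines ρ // stabCard L = 6} := by
  classical
  have := Fintype.ofFinite K
  have : Finite (Lines ρ) := h.finite_lines
  have := Fintype.ofFinite (Lines ρ)
  obtain ⟨hz, m, hm, hall, -, -⟩ := h.structure_lines
  have : Fintype (Subgroup K) := Fintype.ofFinite _
  rw [Set.ncard_eq_toFinset_card', Nat.card_eq_fintype_card, Fintype.card_subtype]
  set X := Finset.univ.filter (fun L : Lines ρ => stabCard L = 6)
  set Y := (threeSubgroups K).toFinset
  have hdc := Finset.sum_card_bipartiteAbove_eq_sum_card_bipartiteBelow (s := Y) (t := X)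
    (fun (P : Subgroup K) (L : Lines ρ) => P ≤ MulAction.stabilizer K L)
  have hX1 : ∀ L ∈ X, (Y.bipartiteBelow (fun (P : Subgroup K) (L : Lines ρ) => P ≤ MulAction.stabilizer K L) L).card = 1 := by
    intro L hL
    have hL6 : Nat.card (MulAction.stabilizer K L) = 6 := (Finset.mem_filter.mp hL).2
    have : Fact (Nat.Prime 3) := ⟨Nat.prime_three⟩
    obtain ⟨g, hg⟩ := exists_prime_orderOf_dvd_card' (G := MulAction.stabilizer K L) 3 (by rw [hL6]; norm_num)
    rw [← Subgroup.orderOf_coe] at hg
    refine Finset.card_eq_one.mpr ⟨Subgroup.zpowers (g : K), Finset.eq_singleton_iff_unique_mem.mpr ⟨?_, ?_⟩⟩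
    · simp only [Finset.mem_bipartiteBelow, Y, Set.mem_toFinset]
      exact ⟨zpowers_mem_threeSubgroups hg, Subgroup.zpowers_le.mpr g.2⟩
    · intro Q hQ
      simp only [Finset.mem_bipartiteBelow, Y, Set.mem_toFinset] at hQ
      exact h.unique_three_in_stab L hQ.1 (zpowers_mem_threeSubgroups hg) hQ.2 (Subgroup.zpowers_le.mpr g.2)
  have hY2 : ∀ P ∈ Y, (X.bipartiteAbove (fun (P : Subgroup K) (L : Lines ρ) => P ≤ MulAction.stabilizer K L) P).card = 2 := by
    intro P hP
    obtain ⟨x, hx, rfl⟩ := exists_zpowers_of_card_three ((Set.mem_toFinset.mp hP : P ∈ threeSubgroups K) : Nat.card P = 3)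
    rw [← h.card_fixedBy (h.not_center hx), Nat.card_eq_fintype_card, ← Set.toFinset_card]
    congr 1
    ext L
    simp only [Finset.mem_bipartiteAbove, Subgroup.zpowers_le, MulAction.mem_stabilizer_iff, Set.mem_toFinset,
      MulAction.mem_fixedBy, and_iff_right_iff_imp]
    intro hL
    have h3 : 3 ∣ stabCard L := by
      rw [← hx]; exact Subgroup.orderOf_dvd_natCard _ hL
    simp only [X, Finset.mem_filter, Finset.mem_univ, true_and]
    rcases hall L with e | e | e <;> rw [e] at h3 <;> omega
  rw [Finset.sum_congr rfl hY2, Finset.sum_congr rfl hX1, Finset.sum_const, Finset.sum_const, smul_eq_mul,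
    smul_eq_mul, Nat.mul_one] at hdc
  rw [← hdc, Nat.mul_comm]

theorem PlaneGroup.exists_involution (h : PlaneGroup ρ) : ∃ z : K, orderOf z = 2 ∧ ∀ g, g ∈ Subgroup.center K ↔ g = 1 ∨ g = z := by
  obtain ⟨hz, -⟩ := h.structure_lines
  have : Fact (Nat.Prime 2) := ⟨Nat.prime_two⟩
  obtain ⟨z, hzo⟩ := exists_prime_orderOf_dvd_card' (G := K) 2 (hz ▸ Subgroup.card_subgroup_dvd_card _)
  refine ⟨z, hzo, fun g => ⟨fun hg => (h.center_cases hg).imp id fun e => h.rep.involution_unique e hzo, ?_⟩⟩
  rintro (rfl | rfl)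
  · exact Subgroup.one_mem _
  · exact Subgroup.mem_center_iff.mpr fun g => h.rep.involution_central hzo g

theorem sign_eq_one_of_pow_three {α : Type*} [Fintype α] [DecidableEq α] {σ : Equiv.Perm α} (hσ : σ ^ 3 = 1) :
    Equiv.Perm.sign σ = 1 := by
  have h1 := congrArg Equiv.Perm.sign hσ
  rw [map_pow, map_one] at h1
  rcases Int.units_eq_one_or (Equiv.Perm.sign σ) with e | e
  · exact e
  · rw [e] at h1; exact absurd h1 (by decide)

theorem range_le_alternating {α : Type*} [Fintype α] [DecidableEq α] (f : K →* Equiv.Perm α)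
    (hgen : Subgroup.closure {x : K | orderOf x = 3} = ⊤) : f.range ≤ alternatingGroup α := by
  rw [MonoidHom.range_eq_map, ← hgen, MonoidHom.map_closure, Subgroup.closure_le]
  rintro _ ⟨x, hx, rfl⟩
  exact sign_eq_one_of_pow_three (by rw [← map_pow, pow_three_eq_one hx, map_one])

theorem card_range_mul_card_ker {α : Type*} (f : K →* Equiv.Perm α) :
    Nat.card f.ker * Nat.card f.range = Nat.card K := by
  rw [← Subgroup.index_ker f]; exact Subgroup.card_mul_index _

/-- Small plane groups: four subgroups of order three, all orders divide four or six. -/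
theorem PlaneGroup.small (h : PlaneGroup ρ) (h4 : (threeSubgroups K).ncard = 4) :
    Nat.card K = 24 ∧ ∀ g : K, g ^ 4 = 1 ∨ g ^ 6 = 1 := by
  classical
  obtain ⟨hz, m, hm, hall, h6, -⟩ := h.structure_lines
  rw [← h.card_threeSubgroups, h4] at h6
  suffices hle : Nat.card K ≤ 24 by
    have hm3 : m = 3 ∧ Nat.card K = 24 := by
      rcases hm with e | e | e
      · exact e
      all_goals omega
    refine ⟨hm3.2, fun g => ?_⟩
    by_cases hg : g ∈ Subgroup.center K
    · left
      rcases h.center_cases hg with rfl | e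
      · exact one_pow 4
      · rw [show 4 = 2 * 2 from rfl, pow_mul, show g ^ 2 = 1 by rw [← e]; exact pow_orderOf_eq_one g, one_pow]
    · obtain ⟨v, -, hv, -, -, hgv, -, -⟩ := h.exists_two_lines hg
      let L : Lines ρ := ⟨k ∙ v, v, hv, rfl, g, hg, hgv⟩
      have hd : orderOf g ∣ stabCard L := Subgroup.orderOf_dvd_natCard _ ((smul_eq_iff hv rfl).mpr hgv)
      rcases hall L with e | e | e <;> rw [e] at hd
      · exact .inl (orderOf_dvd_iff_pow_eq_one.mp hd)
      · exact .inr (orderOf_dvd_iff_pow_eq_one.mp hd)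
      · rw [hm3.1] at hd; exact .inr (orderOf_dvd_iff_pow_eq_one.mp hd)
  -- the action on the four subgroups
  let α := {P : Subgroup K // P ∈ threeSubgroups K}
  letI act : MulAction K α :=
    { smul := fun g P => ⟨P.1.map (MulAut.conj g).toMonoidHom, by
        show Nat.card _ = 3
        rw [Subgroup.card_map_of_injective (MulAut.conj g).injective]; exact P.2⟩
      one_smul := fun P => Subtype.ext (by
        show P.1.map (MulAut.conj (1 : K)).toMonoidHom = P.1
        rw [map_one]; exact Subgroup.map_id _)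
      mul_smul := fun a b P => Subtype.ext (by
        show P.1.map (MulAut.conj (a * b)).toMonoidHom = (P.1.map _).map _
        rw [Subgroup.map_map, map_mul]; rfl) }
  have := Fintype.ofFinite α
  have hα : Fintype.card α = 4 := by
    rw [← Nat.card_eq_fintype_card]; exact (Nat.card_coe_set_eq _).trans h4
  set f := MulAction.toPermHom K α
  have hker : f.ker ≤ Subgroup.center K := by
    intro g hg
    have hfix : ∀ g ∈ f.ker, ∀ x : K, orderOf x = 3 → g * x * g⁻¹ ∈ Subgroup.zpowers x := by
      intro g hg x hx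
      have e := congrArg (fun σ : Equiv.Perm α => σ ⟨_, zpowers_mem_threeSubgroups hx⟩) (MonoidHom.mem_ker.mp hg)
      have e' : (Subgroup.zpowers x).map (MulAut.conj g).toMonoidHom = Subgroup.zpowers x := congrArg Subtype.val e
      exact e' ▸ Subgroup.mem_map_of_mem _ (Subgroup.mem_zpowers x)
    have hgen : Subgroup.centralizer {g} = ⊤ := by
      rw [eq_top_iff, ← h.gen, Subgroup.closure_le]
      intro x hx
      have hx' : orderOf x = 3 := hx
      rw [SetLike.mem_coe, Subgroup.mem_centralizer_singleton_iff]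
      have hmem := hfix g hg x hx'
      rw [mem_zpowers_iff_mem_range_orderOf, hx'] at hmem
      simp only [Finset.mem_image, Finset.mem_range] at hmem
      obtain ⟨i, hi, e⟩ := hmem
      interval_cases i
      · exfalso
        rw [pow_zero, eq_comm, conj_eq_one_iff] at e
        rw [e, orderOf_one] at hx'; omega
      · rw [pow_one] at e
        exact (mul_inv_eq_iff_eq_mul.mp e.symm).symm
      · exfalso
        have hxk : x ∈ f.ker := by
          have h1 : g * (x * g⁻¹ * x⁻¹) ∈ f.ker :=
            mul_mem hg (f.normal_ker.conj_mem _ (inv_mem hg) x)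
          rwa [← mul_assoc, ← mul_assoc, ← e, pow_two, mul_inv_cancel_right] at h1
        obtain ⟨y, z, hy, hz', hyz⟩ := h.noncomm
        have key : ∀ y : K, orderOf y = 3 → Commute x y := fun y hy =>
          commute_of_normalize_three hx' hy (hfix x hxk y hy)
        refine h.not_center hx' (Subgroup.mem_center_iff.mpr fun s => ?_)
        have : ⊤ ≤ Subgroup.centralizer {x} := by
          rw [← h.gen, Subgroup.closure_le]
          exact fun y hy => Subgroup.mem_centralizer_singleton_iff.mpr (key y hy).symm.eq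
        exact Subgroup.mem_centralizer_singleton_iff.mp (this (Subgroup.mem_top s))
    exact Subgroup.mem_center_iff.mpr fun s =>
      Subgroup.mem_centralizer_singleton_iff.mp (hgen ▸ Subgroup.mem_top s : s ∈ Subgroup.centralizer {g})
  have h1 := Subgroup.card_le_of_le hker
  rw [hz] at h1
  have h2 : Nat.card f.range ≤ 12 := by
    refine (Subgroup.card_le_of_le (range_le_alternating f h.gen)).trans ?_
    have hnt : Nontrivial α := Fintype.one_lt_card_iff_nontrivial.mp (by omega)
    rw [nat_card_alternatingGroup, Nat.card_eq_fintype_card, hα]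
    decide
  rw [← card_range_mul_card_ker f]
  calc Nat.card f.ker * Nat.card f.range ≤ 2 * 12 := Nat.mul_le_mul h1 h2
    _ = 24 := rfl

/-- Plane groups have four or ten subgroups of order three. -/
theorem PlaneGroup.four_or_ten (h : PlaneGroup ρ) :
    (threeSubgroups K).ncard = 4 ∨ ((threeSubgroups K).ncard = 10 ∧ Nat.card K = 120) := by
  obtain ⟨-, m, hm, -, h6, -⟩ := h.structure_lines
  rw [← h.card_threeSubgroups] at h6
  rcases hm with ⟨rfl, -⟩ | ⟨rfl, -⟩ | ⟨rfl, e⟩ <;> norm_num at h6
  · left; omega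
  · left; omega
  · right; exact ⟨by omega, e⟩

theorem PlaneGroup.no_order_eight (h : PlaneGroup ρ) (h120 : Nat.card K = 120) (g : K) : orderOf g ≠ 8 := by
  intro hg
  obtain ⟨-, m, hm, hall, -, -⟩ := h.structure_lines
  have hc : g ∉ Subgroup.center K := fun hc => by
    rcases h.center_cases hc with e | e
    · rw [e, orderOf_one] at hg; omega
    · omega
  obtain ⟨v, -, hv, -, -, hgv, -, -⟩ := h.exists_two_lines hc
  let L : Lines ρ := ⟨k ∙ v, v, hv, rfl, g, hc, hgv⟩
  have hd : orderOf g ∣ stabCard L := Subgroup.orderOf_dvd_natCard _ ((smul_eq_iff hv rfl).mpr hgv)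
  rw [hg] at hd
  rcases hall L with e | e | e <;> rw [e] at hd <;> omega

theorem PlaneGroup.card_order_four (h : PlaneGroup ρ) (h120 : Nat.card K = 120) :
    Nat.card {g : K // orderOf g = 4} = 30 := by
  classical
  have := Fintype.ofFinite K
  have : Finite (Lines ρ) := h.finite_lines
  have := Fintype.ofFinite (Lines ρ)
  obtain ⟨-, m, hm, hall, -, h4⟩ := h.structure_lines
  rw [h120, Nat.card_eq_fintype_card, Fintype.card_subtype] at h4
  rw [Nat.card_eq_fintype_card, Fintype.card_subtype]
  set X := Finset.univ.filter (fun L : Lines ρ => stabCard L = 4)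
  set Y := Finset.univ.filter (fun g : K => orderOf g = 4)
  have hdc := Finset.sum_card_bipartiteAbove_eq_sum_card_bipartiteBelow (s := Y) (t := X)
    (fun (g : K) (L : Lines ρ) => g • L = L)
  have hX1 : ∀ L ∈ X, (Y.bipartiteBelow (fun (g : K) (L : Lines ρ) => g • L = L) L).card = 2 := by
    intro L hL
    have hL4 : Nat.card (MulAction.stabilizer K L) = 4 := (Finset.mem_filter.mp hL).2
    have := h.stabilizer_cyclic L
    have htot := IsCyclic.card_orderOf_eq_totient (α := MulAction.stabilizer K L) (d := 4)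
      (by rw [← Nat.card_eq_fintype_card, hL4])
    rw [show Nat.totient 4 = 2 from rfl] at htot
    rw [← htot]
    refine Finset.card_bij (fun g hg => ⟨g, (Finset.mem_bipartiteBelow _).mp hg |>.2⟩) (fun g hg => ?_)
      (fun a _ b _ e => congrArg Subtype.val e) (fun b hb => ⟨(b : K), ?_, rfl⟩)
    · simp only [Finset.mem_filter, Finset.mem_univ, true_and]
      rw [← Subgroup.orderOf_coe]
      exact (Finset.mem_filter.mp ((Finset.mem_bipartiteBelow _).mp hg).1).2
    · simp only [Finset.mem_filter, Finset.mem_univ, true_and] at hb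
      refine (Finset.mem_bipartiteBelow _).mpr ⟨by simp [Y, hb], b.2⟩
  have hY2 : ∀ g ∈ Y, (X.bipartiteAbove (fun (g : K) (L : Lines ρ) => g • L = L) g).card = 2 := by
    intro g hg
    have hg4 : orderOf g = 4 := (Finset.mem_filter.mp hg).2
    have hc : g ∉ Subgroup.center K := fun hc => by
      rcases h.center_cases hc with e | e
      · rw [e, orderOf_one] at hg4; omega
      · omega
    rw [← h.card_fixedBy hc, Nat.card_eq_fintype_card, ← Set.toFinset_card]
    congr 1
    ext L
    simp only [Finset.mem_bipartiteAbove, Set.mem_toFinset, MulAction.mem_fixedBy, and_iff_right_iff_imp]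
    intro hL
    have hd : orderOf g ∣ stabCard L := Subgroup.orderOf_dvd_natCard _ hL
    rw [hg4] at hd
    simp only [X, Finset.mem_filter, Finset.mem_univ, true_and]
    rcases hall L with e | e | e <;> rw [e] at hd <;> omega
  rw [Finset.sum_congr rfl hY2, Finset.sum_congr rfl hX1, Finset.sum_const, Finset.sum_const, smul_eq_mul,
    smul_eq_mul] at hdc
  omega

theorem PlaneGroup.sylow_two (h : PlaneGroup ρ) (h120 : Nat.card K = 120) :
    Nat.card (Sylow 2 K) = 5 ∧ ∀ g : K, orderOf g = 4 → ∀ Q Q' : Sylow 2 K, g ∈ (Q : Subgroup K) →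
      g ∈ (Q' : Subgroup K) → Q = Q' := by
  classical
  have := Fintype.ofFinite K
  have : Fact (Nat.Prime 2) := ⟨Nat.prime_two⟩
  have h8 : ∀ Q : Sylow 2 K, Nat.card (Q : Subgroup K) = 8 := fun Q => by
    rw [Sylow.card_eq_multiplicity, h120]
    rw [show (120 : ℕ) = 2 ^ 3 * 15 from rfl, Nat.factorization_mul_apply_of_coprime (by norm_num),
      Nat.Prime.factorization_pow Nat.prime_two, Finsupp.single_eq_same,
      Nat.factorization_eq_zero_of_not_dvd (by norm_num : ¬ 2 ∣ 15)]
    norm_num
  obtain ⟨z, hz, hzc⟩ := h.exists_involution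
  obtain ⟨-, m, hm, hall, -, -⟩ := h.structure_lines
  have huniq : ∀ g : K, orderOf g = 4 → ∀ Q Q' : Sylow 2 K, g ∈ (Q : Subgroup K) →
      g ∈ (Q' : Subgroup K) → Q = Q' := by
    intro g hg Q Q' hgQ hgQ'
    have hgc : g ∉ Subgroup.center K := fun hc => by
      rcases h.center_cases hc with e | e
      · rw [e, orderOf_one] at hg; omega
      · omega
    set C := Subgroup.zpowers g
    have hle : ∀ Q : Sylow 2 K, g ∈ (Q : Subgroup K) → (Q : Subgroup K) ≤ Subgroup.normalizer (C : Set K) := by
      intro Q hgQ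
      have hC : C ≤ (Q : Subgroup K) := Subgroup.zpowers_le.mpr hgQ
      have hidx : (C.subgroupOf (Q : Subgroup K)).index = 2 := by
        have := Subgroup.card_mul_index (C.subgroupOf (Q : Subgroup K))
        rw [Nat.card_congr (Subgroup.subgroupOfEquivOfLe hC).toEquiv, Nat.card_zpowers, hg, h8] at this
        omega
      have := Subgroup.normal_of_index_eq_two hidx
      exact Subgroup.le_normalizer_of_normal_subgroupOf hC
    obtain ⟨v, w, hv, hw, hne, hgv, hgw, hlines⟩ := h.exists_two_lines hgc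
    let L1 : Lines ρ := ⟨k ∙ v, v, hv, rfl, g, hgc, hgv⟩
    set N := Subgroup.normalizer (C : Set K) with hN
    have hfix : ∀ h' ∈ N, g • (h' • L1) = h' • L1 := by
      intro h' hh'
      have h1 : h'⁻¹ * g * h' ∈ MulAction.stabilizer K L1 := by
        have hC : C ≤ MulAction.stabilizer K L1 := Subgroup.zpowers_le.mpr ((smul_eq_iff hv rfl).mpr hgv)
        refine hC ?_
        have := (Subgroup.mem_normalizer_iff.mp (inv_mem hh') g).mp (Subgroup.mem_zpowers g)
        simpa using this
      have h2 : (h'⁻¹ * g * h') • L1 = L1 := h1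
      calc g • (h' • L1) = h' • ((h'⁻¹ * g * h') • L1) := by
            rw [← mul_smul, ← mul_smul]; congr 1; group
        _ = h' • L1 := by rw [h2]
    have hN8 : Nat.card N ≤ 8 := by
      have : Finite (Lines ρ) := h.finite_lines
      have := Fintype.ofFinite (Lines ρ)
      have e := MulAction.card_orbit_mul_card_stabilizer_eq_card_group (G := N) L1
      have ho : Fintype.card (MulAction.orbit N L1) ≤ 2 := by
        rw [← Nat.card_eq_fintype_card, Nat.card_coe_set_eq, ← h.card_fixedBy hgc, Nat.card_coe_set_eq]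
        refine Set.ncard_le_ncard ?_ (Set.toFinite _)
        rintro _ ⟨h', rfl⟩
        exact hfix h' h'.2
      have hs : Fintype.card (MulAction.stabilizer N L1) ≤ 4 := by
        have hd : 4 ∣ stabCard L1 := by
          rw [← hg]; exact Subgroup.orderOf_dvd_natCard _ ((smul_eq_iff hv rfl).mpr hgv)
        have h4 : stabCard L1 = 4 := by
          rcases hm with ⟨e', -⟩ | ⟨-, e'⟩ | ⟨e', -⟩
          · rcases hall L1 with e | e | e <;> rw [e] at hd ⊢ <;> omega
          · omega
          · rcases hall L1 with e | e | e <;> rw [e] at hd ⊢ <;> omega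
        rw [← h4, ← Nat.card_eq_fintype_card]
        exact Nat.card_le_card_of_injective (fun s => (⟨((s : N) : K), s.2⟩ : MulAction.stabilizer K L1))
          fun a b hab => Subtype.ext (Subtype.ext (congrArg Subtype.val hab :))
      rw [Nat.card_eq_fintype_card, ← e]
      calc _ ≤ 2 * 4 := Nat.mul_le_mul ho hs
        _ = 8 := rfl
    refine Sylow.ext ?_
    rw [Subgroup.eq_of_le_of_card_ge (hle Q hgQ) (hN8.trans_eq (h8 Q).symm),
      Subgroup.eq_of_le_of_card_ge (hle Q' hgQ') (hN8.trans_eq (h8 Q').symm)]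
  refine ⟨?_, huniq⟩
  have hcount : ∀ Q : Sylow 2 K, Nat.card {g : K // orderOf g = 4 ∧ g ∈ (Q : Subgroup K)} = 6 := by
    intro Q
    have hset : {g : K | orderOf g = 4 ∧ g ∈ (Q : Subgroup K)} = ((Q : Subgroup K) : Set K) \ {1, z} := by
      ext g
      simp only [Set.mem_setOf_eq, Set.mem_diff, SetLike.mem_coe, Set.mem_insert_iff, Set.mem_singleton_iff]
      constructor
      · rintro ⟨hg, hgQ⟩
        refine ⟨hgQ, ?_⟩
        rintro (rfl | rfl)
        · rw [orderOf_one] at hg; omega
        · omega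
      · rintro ⟨hgQ, hne⟩
        refine ⟨?_, hgQ⟩
        have hd : orderOf g ∣ 2 ^ 3 := by
          rw [show (2 : ℕ) ^ 3 = 8 from rfl, ← h8 Q]; exact Subgroup.orderOf_dvd_natCard _ hgQ
        obtain ⟨i, hi, e⟩ := (Nat.dvd_prime_pow Nat.prime_two).mp hd
        interval_cases i
        · rw [pow_zero, orderOf_eq_one_iff] at e; exact absurd (Or.inl e) hne
        · rw [pow_one] at e; exact absurd (Or.inr (h.rep.involution_unique e hz)) hne
        · rw [e]; rfl
        · exact absurd e (h.no_order_eight h120 g)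
    have hzQ : z ∈ (Q : Subgroup K) := by
      obtain ⟨t, ht⟩ := exists_prime_orderOf_dvd_card' (G := (Q : Subgroup K)) 2 (by rw [h8]; norm_num)
      rw [← Subgroup.orderOf_coe] at ht
      rw [h.rep.involution_unique hz ht]; exact t.2
    rw [show Nat.card {g : K // orderOf g = 4 ∧ g ∈ (Q : Subgroup K)} =
      Set.ncard {g : K | orderOf g = 4 ∧ g ∈ (Q : Subgroup K)} from rfl, hset,
      Set.ncard_sdiff (by rintro a (rfl | rfl); exacts [Subgroup.one_mem _, hzQ]) (Set.toFinite _),
      Set.ncard_pair (by rintro rfl; simp at hz), ← Nat.card_coe_set_eq]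
    show Nat.card (Q : Subgroup K) - 2 = 6
    rw [h8]
  have hbij : Function.Bijective (fun x : Σ Q : Sylow 2 K, {g : K // orderOf g = 4 ∧ g ∈ (Q : Subgroup K)} =>
      (⟨x.2.1, x.2.2.1⟩ : {g : K // orderOf g = 4})) := by
    constructor
    · rintro ⟨Q, g, hg, hgQ⟩ ⟨Q', g', hg', hgQ'⟩ e
      obtain rfl : g = g' := congrArg Subtype.val e
      obtain rfl := huniq g hg Q Q' hgQ hgQ'
      rfl
    · rintro ⟨g, hg⟩
      have hp : IsPGroup 2 (Subgroup.zpowers g) := IsPGroup.of_card (n := 2) (by rw [Nat.card_zpowers, hg]; rfl)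
      obtain ⟨Q, hQ⟩ := hp.exists_le_sylow
      exact ⟨⟨Q, g, hg, hQ (Subgroup.mem_zpowers g)⟩, rfl⟩
  have hS : Fintype (Sylow 2 K) := Fintype.ofFinite _
  have := Nat.card_eq_of_bijective _ hbij
  rw [h.card_order_four h120, Nat.card_sigma, Finset.sum_congr rfl (fun Q _ => hcount Q), Finset.sum_const,
    smul_eq_mul, Finset.card_univ] at this
  rw [Nat.card_eq_fintype_card]
  omega

/-- A plane group of order 120 covers the alternating group of degree five with kernel its centre. -/
theorem PlaneGroup.exists_alternating_five (h : PlaneGroup ρ) (h120 : Nat.card K = 120) :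
    ∃ f : K →* alternatingGroup (Fin 5), Function.Surjective f ∧ f.ker = Subgroup.center K := by
  classical
  have : Fact (Nat.Prime 2) := ⟨Nat.prime_two⟩
  obtain ⟨h5, huniq⟩ := h.sylow_two h120
  have := Fintype.ofFinite (Sylow 2 K)
  set f := MulAction.toPermHom K (Sylow 2 K) with hf
  have hrange := range_le_alternating f h.gen
  obtain ⟨z, hz, hzc⟩ := h.exists_involution
  have hcz : Subgroup.center K ≤ f.ker := fun g hg => MonoidHom.mem_ker.mpr (Equiv.ext fun Q => by
    show g • Q = Q
    rw [Sylow.smul_eq_iff_mem_normalizer]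
    refine Subgroup.mem_normalizer_iff.mpr fun n => ?_
    rw [← Subgroup.mem_center_iff.mp hg n, mul_inv_cancel_right])
  have hno4 : ∀ g ∈ f.ker, orderOf g ≠ 4 := by
    intro g hg h4
    have hmem : ∀ Q : Sylow 2 K, g ∈ (Q : Subgroup K) := fun Q => by
      have hn : g ∈ Subgroup.normalizer ((Q : Subgroup K) : Set K) :=
        Sylow.smul_eq_iff_mem_normalizer.mp (Equiv.ext_iff.mp (MonoidHom.mem_ker.mp hg) Q)
      have hp : IsPGroup 2 (Subgroup.zpowers g) := IsPGroup.of_card (n := 2) (by rw [Nat.card_zpowers, h4]; rfl)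
      have hsup := hp.to_sup_of_normal_right' Q.isPGroup' (Subgroup.zpowers_le.mpr hn)
      exact (Q.is_maximal' hsup le_sup_right) ▸ Subgroup.mem_sup_left (Subgroup.mem_zpowers g)
    obtain ⟨Q, Q', hQQ'⟩ : ∃ Q Q' : Sylow 2 K, Q ≠ Q' := by
      by_contra hc
      push Not at hc
      have : Subsingleton (Sylow 2 K) := ⟨hc⟩
      have := Finite.card_le_one_iff_subsingleton.mpr this
      omega
    exact hQQ' (huniq g h4 Q Q' (hmem Q) (hmem Q'))
  have hprod := card_range_mul_card_ker f
  rw [h120] at hprod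
  have h5r : 5 ∣ Nat.card f.range := by
    obtain ⟨Q⟩ : Nonempty (Sylow 2 K) := inferInstance
    rw [← h5]
    refine ⟨Nat.card (MulAction.stabilizer f.range Q), ?_⟩
    have : MulAction.IsPretransitive f.range (Sylow 2 K) := ⟨fun a b => by
      obtain ⟨g, hg⟩ := MulAction.exists_smul_eq K a b
      exact ⟨⟨f g, g, rfl⟩, hg⟩⟩
    rw [← Subgroup.index_mul_card (MulAction.stabilizer f.range Q),
      MulAction.index_stabilizer_of_transitive]
  have h60 : Nat.card f.range ∣ 60 := by
    refine (Subgroup.card_dvd_of_le hrange).trans ?_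
    have : Nontrivial (Sylow 2 K) := Fintype.one_lt_card_iff_nontrivial.mp (by rw [← Nat.card_eq_fintype_card]; omega)
    rw [nat_card_alternatingGroup, h5]
    rfl
  have h3 : ¬ 3 ∣ Nat.card f.ker := fun h3 => by
    have : Fact (Nat.Prime 3) := ⟨Nat.prime_three⟩
    obtain ⟨x, hx⟩ := exists_prime_orderOf_dvd_card' (G := f.ker) 3 h3
    rw [← Subgroup.orderOf_coe] at hx
    have htop : f.ker = ⊤ := by
      rw [eq_top_iff, ← h.gen, Subgroup.closure_le]
      intro y hy
      have hy' : orderOf y = 3 := hy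
      obtain ⟨P, hP⟩ := (IsPGroup.of_card (p := 3) (n := 1) (G := Subgroup.zpowers (x : K))
        (by rw [Nat.card_zpowers, hx, pow_one])).exists_le_sylow
      obtain ⟨P', hP'⟩ := (IsPGroup.of_card (p := 3) (n := 1) (G := Subgroup.zpowers y)
        (by rw [Nat.card_zpowers, hy', pow_one])).exists_le_sylow
      obtain ⟨c, hc⟩ := MulAction.exists_smul_eq K P P'
      have hP3 : Nat.card (P : Subgroup K) = 3 := by
        rw [Sylow.card_eq_multiplicity, h120, show (120 : ℕ) = 3 ^ 1 * 40 from rfl,
          Nat.factorization_mul_apply_of_coprime (by norm_num), Nat.Prime.factorization_pow Nat.prime_three,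
          Finsupp.single_eq_same, Nat.factorization_eq_zero_of_not_dvd (by norm_num : ¬ 3 ∣ 40)]
        rfl
      have hPe : (P : Subgroup K) = Subgroup.zpowers (x : K) :=
        (Subgroup.eq_of_le_of_card_ge hP (by rw [hP3, Nat.card_zpowers, hx])).symm
      have hym : y ∈ (P' : Subgroup K) := hP' (Subgroup.mem_zpowers y)
      rw [← hc, Sylow.coe_subgroup_smul, hPe, Subgroup.mem_pointwise_smul_iff_inv_smul_mem] at hym
      have h1 : (MulAut.conj c)⁻¹ • y ∈ f.ker := (Subgroup.zpowers_le.mpr x.2) hym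
      rw [MulAut.smul_def, MulAut.conj_inv_apply] at h1
      have := f.normal_ker.conj_mem _ h1 c
      rw [show c * (c⁻¹ * y * c) * c⁻¹ = y by group] at this
      exact this
    rw [htop] at hprod
    rw [Subgroup.card_top, h120] at hprod
    omega
  have h4ker : ¬ 4 ∣ Nat.card f.ker := fun h4 => by
    obtain ⟨R, hR⟩ := Sylow.exists_subgroup_card_pow_prime 2 (n := 2) (show 2 ^ 2 ∣ Nat.card f.ker from h4)
    have hall : ∀ t : R, orderOf t ∣ 2 ^ 2 := fun t => hR ▸ orderOf_dvd_natCard t
    have hinj : ∀ t : R, orderOf t ≠ 4 := fun t e => hno4 _ ((t : f.ker).2) (by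
      rw [Subgroup.orderOf_coe, Subgroup.orderOf_coe, e])
    have : Fintype R := Fintype.ofFinite _
    have hle : (Finset.univ : Finset R).card ≤ 2 := by
      obtain ⟨t, ht⟩ := exists_prime_orderOf_dvd_card' (G := R) 2 (by rw [hR]; norm_num)
      refine (Finset.card_le_card (t := {1, t}) fun s _ => ?_).trans Finset.card_le_two
      obtain ⟨i, hi, e⟩ := (Nat.dvd_prime_pow Nat.prime_two).mp (hall s)
      interval_cases i
      · rw [pow_zero, orderOf_eq_one_iff] at e; simp [e]
      · rw [pow_one] at e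
        have := h.rep.involution_unique (y := ((s : f.ker) : K)) (z := ((t : f.ker) : K))
          (by rw [Subgroup.orderOf_coe, Subgroup.orderOf_coe, e]) (by rw [Subgroup.orderOf_coe, Subgroup.orderOf_coe, ht])
        simp [Subtype.ext (Subtype.ext this : (s : f.ker) = (t : f.ker))]
      · exact absurd e (hinj s)
    rw [Finset.card_univ, ← Nat.card_eq_fintype_card, hR] at hle
    omega
  have h2ker : 2 ∣ Nat.card f.ker := by
    have := Subgroup.card_dvd_of_le hcz
    rwa [h.structure_lines.1] at this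
  have hk2 : Nat.card f.ker = 2 ∧ Nat.card f.range = 60 := by
    have hr : Nat.card f.range ∈ Nat.divisors 60 := Nat.mem_divisors.mpr ⟨h60, by norm_num⟩
    rw [show Nat.divisors 60 = {1, 2, 3, 4, 5, 6, 10, 12, 15, 20, 30, 60} by decide] at hr
    simp only [Finset.mem_insert, Finset.mem_singleton] at hr
    rcases hr with e | e | e | e | e | e | e | e | e | e | e | e <;> rw [e] at hprod h5r <;> omega
  have heq : f.range = alternatingGroup (Sylow 2 K) := Subgroup.eq_of_le_of_card_ge hrange (by
    have : Nontrivial (Sylow 2 K) := Fintype.one_lt_card_iff_nontrivial.mp (by rw [← Nat.card_eq_fintype_card]; omega)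
    rw [nat_card_alternatingGroup, h5, hk2.2]; rfl)
  let e5 : alternatingGroup (Sylow 2 K) ≃* alternatingGroup (Fin 5) :=
    Equiv.altCongrHom (Fintype.equivFinOfCardEq (by rw [← Nat.card_eq_fintype_card, h5]))
  refine ⟨e5.toMonoidHom.comp ((MulEquiv.subgroupCongr heq).toMonoidHom.comp f.rangeRestrict),
    e5.surjective.comp ((MulEquiv.subgroupCongr heq).surjective.comp f.rangeRestrict_surjective), ?_⟩
  rw [show Subgroup.center K = f.ker from Subgroup.eq_of_le_of_card_ge hcz (by rw [hk2.1, h.structure_lines.1])]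
  ext g
  simp only [MonoidHom.mem_ker, MonoidHom.coe_comp, MulEquiv.coe_toMonoidHom, Function.comp_apply,
    MulEquiv.map_eq_one_iff]
  exact ⟨fun e => congrArg Subtype.val e, fun e => Subtype.ext e⟩

/-- Points fixed by the image of a subgroup. -/
noncomputable def fixLabel (f : K →* alternatingGroup (Fin 5)) (P : Subgroup K) : Finset (Fin 5) := by
  classical exact Finset.univ.filter (fun i => ∀ g ∈ P, (f g : Equiv.Perm (Fin 5)) i = i)

theorem mem_fixLabel {f : K →* alternatingGroup (Fin 5)} {P : Subgroup K} {i : Fin 5} :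
    i ∈ fixLabel f P ↔ ∀ g ∈ P, (f g : Equiv.Perm (Fin 5)) i = i := by
  simp [fixLabel]

theorem fixLabel_zpowers (f : K →* alternatingGroup (Fin 5)) (x : K) :
    fixLabel f (Subgroup.zpowers x) = Finset.univ.filter (fun i => (f x : Equiv.Perm (Fin 5)) i = i) := by
  ext i
  rw [mem_fixLabel, Finset.mem_filter]
  refine ⟨fun h => ⟨Finset.mem_univ _, h x (Subgroup.mem_zpowers x)⟩, fun h g hg => ?_⟩
  obtain ⟨n, rfl⟩ := hg
  have hs : (f x : Equiv.Perm (Fin 5)) ∈ MulAction.stabilizer (Equiv.Perm (Fin 5)) i := h.2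
  have := Subgroup.zpow_mem _ hs n
  simpa using this

theorem exists_three_cycle_fixing : ∀ s : Finset (Fin 5), s.card = 2 →
    ∃ a : alternatingGroup (Fin 5), a * a * a = 1 ∧ a ≠ 1 ∧
      Finset.univ.filter (fun i => (a : Equiv.Perm (Fin 5)) i = i) = s := by
  decide +kernel

/-- A plane group of order 120: its subgroups of order three behave like two-element subsets. -/
theorem PlaneGroup.exists_labelling (h : PlaneGroup ρ) (h10 : (threeSubgroups K).ncard = 10)
    (h120 : Nat.card K = 120) :
    ∃ lab : Subgroup K → Finset (Fin 5), Set.BijOn lab (threeSubgroups K) {s | s.card = 2} ∧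
      (∀ P Q R : Subgroup K, ∀ i, i ∈ lab P → i ∈ lab Q → R ≤ P ⊔ Q → i ∈ lab R) ∧
      (∀ P ∈ threeSubgroups K, ∀ Q ∈ threeSubgroups K, Disjoint (lab P) (lab Q) →
        5 ≤ {R ∈ threeSubgroups K | R ≤ P ⊔ Q}.ncard) := by
  classical
  obtain ⟨f, hsurj, hker⟩ := h.exists_alternating_five h120
  have hfin : (threeSubgroups K).Finite := Set.toFinite _
  have hsur : Set.SurjOn (fixLabel f) (threeSubgroups K) {s | s.card = 2} := by
    intro s hs
    obtain ⟨a, ha3, ha1, has⟩ := exists_three_cycle_fixing s hs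
    obtain ⟨g, rfl⟩ := hsurj a
    have hc : g * g * g ∈ Subgroup.center K := by
      rw [← hker, MonoidHom.mem_ker, map_mul, map_mul, ha3]
    have hx : orderOf (g * g) = 3 := by
      have : Fact (Nat.Prime 3) := ⟨Nat.prime_three⟩
      refine orderOf_eq_prime ?_ fun e => ha1 ?_
      · have hz : (g * g * g) * (g * g * g) = 1 := by
          rcases h.center_cases hc with e | e
          · rw [e, one_mul]
          · rw [← pow_two, ← e, pow_orderOf_eq_one]
        rw [← hz]; simp [pow_succ, mul_assoc]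
      · have : f g * f g = 1 := by rw [← map_mul, e, map_one]
        rw [← ha3, this, one_mul]
    refine ⟨_, zpowers_mem_threeSubgroups hx, ?_⟩
    rw [fixLabel_zpowers, ← has]
    refine Finset.filter_congr fun i _ => ?_
    rw [map_mul, Subgroup.coe_mul, Equiv.Perm.mul_apply]
    constructor
    · intro e
      have h3 := congrArg (fun a : alternatingGroup (Fin 5) => (a : Equiv.Perm (Fin 5)) i) ha3
      simp only [Subgroup.coe_mul, Equiv.Perm.mul_apply, Subgroup.coe_one, Equiv.Perm.one_apply] at h3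
      calc (f g : Equiv.Perm (Fin 5)) i = (f g : Equiv.Perm (Fin 5)) ((f g : Equiv.Perm (Fin 5)) ((f g : Equiv.Perm (Fin 5)) i)) := by rw [e]
        _ = i := h3
    · intro e; rw [e, e]
  have h10' : {s : Finset (Fin 5) | s.card = 2}.ncard = 10 := by
    rw [Set.ncard_eq_toFinset_card']
    decide
  have hmaps : Set.MapsTo (fixLabel f) (threeSubgroups K) {s | s.card = 2} := by
    have himg : {s : Finset (Fin 5) | s.card = 2} ⊆ fixLabel f '' threeSubgroups K := hsur
    have heq : fixLabel f '' threeSubgroups K = {s : Finset (Fin 5) | s.card = 2} :=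
      (Set.eq_of_subset_of_ncard_le himg (by rw [h10']; exact (Set.ncard_image_le hfin).trans h10.le)
        (hfin.image _)).symm
    exact fun P hP => heq ▸ Set.mem_image_of_mem _ hP
  have hinj : Set.InjOn (fixLabel f) (threeSubgroups K) := by
    refine Set.injOn_of_ncard_image_eq ?_ hfin
    rw [show fixLabel f '' threeSubgroups K = {s | s.card = 2} from
      Set.Subset.antisymm (Set.image_subset_iff.mpr hmaps) hsur, h10', h10]
  refine ⟨fixLabel f, ⟨hmaps, hinj, hsur⟩, fun P Q R i hP hQ hR => ?_, fun P hP Q hQ hd => ?_⟩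
  · have hle : P ⊔ Q ≤ ((MulAction.stabilizer (Equiv.Perm (Fin 5)) i).comap
        ((alternatingGroup (Fin 5)).subtype.comp f)) :=
      sup_le (fun g hg => mem_fixLabel.mp hP g hg) (fun g hg => mem_fixLabel.mp hQ g hg)
    exact mem_fixLabel.mpr fun g hg => hle (hR hg)
  obtain ⟨x, hx, rfl⟩ := exists_zpowers_of_card_three hP
  obtain ⟨y, hy, rfl⟩ := exists_zpowers_of_card_three hQ
  have hmove : ∀ (g u : K), orderOf u = 3 → fixLabel f (Subgroup.zpowers (g * u * g⁻¹)) =
      (fixLabel f (Subgroup.zpowers u)).image (f g : Equiv.Perm (Fin 5)) := by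
    intro g u _
    ext i
    simp only [fixLabel_zpowers, Finset.mem_filter, Finset.mem_univ, true_and, Finset.mem_image, map_mul, map_inv,
      Subgroup.coe_mul, Subgroup.coe_inv, Equiv.Perm.mul_apply]
    constructor
    · intro e
      exact ⟨(f g : Equiv.Perm (Fin 5))⁻¹ i, (f g : Equiv.Perm (Fin 5)).injective (by rw [e]; simp), by simp⟩
    · rintro ⟨j, hj, rfl⟩; simp [hj]
  have hdisj : ∀ (g u : K), orderOf u = 3 →
      Disjoint (fixLabel f (Subgroup.zpowers g)) (fixLabel f (Subgroup.zpowers u)) →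
      Disjoint (fixLabel f (Subgroup.zpowers g)) (fixLabel f (Subgroup.zpowers (g * u * g⁻¹))) := by
    intro g u hu hd
    rw [hmove g u hu, Finset.disjoint_left]
    intro i hi hi'
    obtain ⟨j, hj, rfl⟩ := Finset.mem_image.mp hi'
    have e1 : (f g : Equiv.Perm (Fin 5)) ((f g : Equiv.Perm (Fin 5)) j) = (f g : Equiv.Perm (Fin 5)) j := by
      simpa [fixLabel_zpowers] using hi
    exact Finset.disjoint_left.mp hd (by simpa [fixLabel_zpowers] using (f g : Equiv.Perm (Fin 5)).injective e1) hj
  have hne : Subgroup.zpowers x ≠ Subgroup.zpowers y := fun e => by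
    rw [e, disjoint_self, Finset.bot_eq_empty] at hd
    have := hmaps (zpowers_mem_threeSubgroups hy)
    rw [Set.mem_setOf_eq, hd] at this; simp at this
  have hxy : ¬ Commute x y := by
    intro hc
    obtain ⟨v, hv, hev⟩ := exists_joint_eigen' [ρ x, ρ y] (by simp [hc.map ρ])
    obtain ⟨a, ha⟩ := hev _ (List.mem_cons_self ..)
    obtain ⟨b, hb⟩ := hev (ρ y) (by simp)
    exact hne (zpowers_eq_of_mem hx hy (h.rep.mem_zpowers_of_lineStab hv (mem_lineStab_of_scalar ha)
      (mem_lineStab_of_scalar hb) (by rw [hx]; exact pow_three_eq_one hy))).symm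
  have hord : ∀ g u : K, orderOf u = 3 → orderOf (g * u * g⁻¹) = 3 := fun g u hu => by
    rw [← hu]; exact orderOf_injective (MulAut.conj g).toMonoidHom (MulAut.conj g).injective u
  set A := Subgroup.zpowers (x * y * x⁻¹)
  set B := Subgroup.zpowers (x⁻¹ * y * x⁻¹⁻¹)
  set C := Subgroup.zpowers (y * x * y⁻¹)
  have hxi : orderOf x⁻¹ = 3 := by rw [orderOf_inv, hx]
  have hA : A ≠ Subgroup.zpowers y := fun e => hxy (commute_of_normalize_three hx hy (e ▸ Subgroup.mem_zpowers _))
  have hB : B ≠ Subgroup.zpowers y := fun e => hxy (by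
    have := commute_of_normalize_three hxi hy (e ▸ Subgroup.mem_zpowers _)
    exact Commute.inv_left_iff.mp this)
  have hC : C ≠ Subgroup.zpowers x := fun e => hxy (commute_of_normalize_three hy hx (e ▸ Subgroup.mem_zpowers _)).symm
  have hAB : A ≠ B := fun e => hxy (by
    have e1 : x⁻¹ = x * x := by
      rw [inv_eq_of_mul_eq_one_right]; rw [← pow_three_eq_one hx]; simp [pow_succ, mul_assoc]
    have e2 : x * (x * y * x⁻¹) * x⁻¹ = x⁻¹ * y * x⁻¹⁻¹ := by
      rw [show x * (x * y * x⁻¹) * x⁻¹ = x * x * y * (x⁻¹ * x⁻¹) by group]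
      conv_rhs => rw [e1, mul_inv_rev]
    have h1 := commute_of_normalize_three hx (hord x y hy) (by rw [e2]; show _ ∈ A; rw [e]; exact Subgroup.mem_zpowers _)
    have h2 : x * (x * y * x⁻¹) = (x * y * x⁻¹) * x := h1
    rw [inv_mul_cancel_right] at h2
    exact mul_inv_eq_iff_eq_mul.mp (mul_left_cancel h2))
  have hlabQ : ∀ R, R = Subgroup.zpowers y ∨ R = A ∨ R = B → Disjoint (fixLabel f (Subgroup.zpowers x)) (fixLabel f R) := by
    have hxinv : fixLabel f (Subgroup.zpowers x⁻¹) = fixLabel f (Subgroup.zpowers x) := by rw [Subgroup.zpowers_inv]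
    rintro R (rfl | rfl | rfl)
    · exact hd
    · exact hdisj x y hy hd
    · rw [← hxinv]; exact hdisj x⁻¹ y hy (hxinv ▸ hd)
  have hlabP : ∀ R, R = Subgroup.zpowers x ∨ R = C → Disjoint (fixLabel f (Subgroup.zpowers y)) (fixLabel f R) := by
    rintro R (rfl | rfl)
    · exact hd.symm
    · exact hdisj y x hx hd.symm
  have hne' : ∀ R S, (R = Subgroup.zpowers y ∨ R = A ∨ R = B) → (S = Subgroup.zpowers x ∨ S = C) →
      R ∈ threeSubgroups K → R ≠ S := by
    intro R S hR hS hR3 e
    subst e
    have hc2 : (fixLabel f R).card = 2 := hmaps hR3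
    have hx2 : (fixLabel f (Subgroup.zpowers x)).card = 2 := hmaps (zpowers_mem_threeSubgroups hx)
    have hy2 : (fixLabel f (Subgroup.zpowers y)).card = 2 := hmaps (zpowers_mem_threeSubgroups hy)
    have h3 : Disjoint (fixLabel f (Subgroup.zpowers x) ∪ fixLabel f (Subgroup.zpowers y)) (fixLabel f R) :=
      Finset.disjoint_union_left.mpr ⟨hlabQ R hR, hlabP R hS⟩
    have := Finset.card_le_univ (fixLabel f (Subgroup.zpowers x) ∪ fixLabel f (Subgroup.zpowers y) ∪ fixLabel f R)
    rw [Finset.card_union_of_disjoint h3, Finset.card_union_of_disjoint hd, Fintype.card_fin] at this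
    omega
  have hA3 : A ∈ threeSubgroups K := zpowers_mem_threeSubgroups (hord x y hy)
  have hB3 : B ∈ threeSubgroups K := zpowers_mem_threeSubgroups (hord x⁻¹ y hy)
  have hC3 : C ∈ threeSubgroups K := zpowers_mem_threeSubgroups (hord y x hx)
  have hy3 := zpowers_mem_threeSubgroups hy
  have hsub : (({Subgroup.zpowers y, A, B, Subgroup.zpowers x, C} : Finset (Subgroup K)) : Set (Subgroup K)) ⊆
      {R ∈ threeSubgroups K | R ≤ Subgroup.zpowers x ⊔ Subgroup.zpowers y} := by
    have hxm : x ∈ Subgroup.zpowers x ⊔ Subgroup.zpowers y := Subgroup.mem_sup_left (Subgroup.mem_zpowers x)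
    have hym : y ∈ Subgroup.zpowers x ⊔ Subgroup.zpowers y := Subgroup.mem_sup_right (Subgroup.mem_zpowers y)
    intro R hR
    simp only [Finset.coe_insert, Finset.coe_singleton, Set.mem_insert_iff, Set.mem_singleton_iff] at hR
    rcases hR with rfl | rfl | rfl | rfl | rfl
    · exact ⟨hy3, le_sup_right⟩
    · exact ⟨hA3, Subgroup.zpowers_le.mpr (mul_mem (mul_mem hxm hym) (inv_mem hxm))⟩
    · exact ⟨hB3, Subgroup.zpowers_le.mpr (mul_mem (mul_mem (inv_mem hxm) hym) (inv_mem (inv_mem hxm)))⟩
    · exact ⟨hP, le_sup_left⟩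
    · exact ⟨hC3, Subgroup.zpowers_le.mpr (mul_mem (mul_mem hym hxm) (inv_mem hym))⟩
  refine le_trans ?_ (Set.ncard_le_ncard hsub (Set.toFinite _))
  rw [Set.ncard_coe_finset]
  rw [Finset.card_insert_of_notMem, Finset.card_insert_of_notMem, Finset.card_insert_of_notMem,
    Finset.card_insert_of_notMem, Finset.card_singleton]
  · simp only [Finset.mem_singleton]; exact hC.symm
  · simp only [Finset.mem_insert, Finset.mem_singleton, not_or]
    exact ⟨hne' B _ (by simp) (by simp) hB3, hne' B _ (by simp) (by simp) hB3⟩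
  · simp only [Finset.mem_insert, Finset.mem_singleton, not_or]
    exact ⟨hAB, hne' A _ (by simp) (by simp) hA3, hne' A _ (by simp) (by simp) hA3⟩
  · simp only [Finset.mem_insert, Finset.mem_singleton, not_or]
    exact ⟨hA.symm, hB.symm, hne' _ _ (by simp) (by simp) hy3, hne' _ _ (by simp) (by simp) hy3⟩

end Plane

end Cfsg.Agent.Grp.Zas
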