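import Mathlib
import Cfsg.Agent.Lib.Grp.Zassenhaus.Plane

/-!
# Pairs and triples of subgroups of order three in a fixed-point-free group
-/

set_option autoImplicit false

namespace Cfsg.Agent.Grp.Zas

open Module

variable {G k V : Type*} [Group G] [Finite G] [Field k] [IsAlgClosed k] [AddCommGroup V] [Module k V]
  [FiniteDimensional k V] [Nontrivial V] {ρ : G →* End k V}

/-- The subgroups of order three contained in `H`. -/
noncomputable def ptsIn (H : Subgroup G) : Finset (Subgroup G) :=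
  (Set.toFinite {P : Subgroup G | Nat.card P = 3 ∧ P ≤ H}).toFinset

omit [Field k] [IsAlgClosed k] [AddCommGroup V] [Module k V] [FiniteDimensional k V] [Nontrivial V] in
theorem mem_ptsIn {H P : Subgroup G} : P ∈ ptsIn H ↔ Nat.card P = 3 ∧ P ≤ H := by simp [ptsIn]

theorem ptsIn_mono {H H' : Subgroup G} (h : H ≤ H') : ptsIn H ⊆ ptsIn H' := fun _ hP =>
  mem_ptsIn.mpr ⟨(mem_ptsIn.mp hP).1, (mem_ptsIn.mp hP).2.trans h⟩

/-- The restriction of a representation to a subgroup and an invariant submodule. -/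
def restrictRep (ρ : G →* End k V) (W : Submodule k V) {H : Subgroup G} (hH : H ≤ preserver ρ W) :
    H →* End k W where
  toFun g := (ρ g).restrict fun w hw => hH g.2 w hw
  map_one' := by ext w; simp
  map_mul' a b := by ext w; simp

theorem exists_planeGroup (h : FpfRep ρ) {W : Submodule k V} (hW : finrank k W = 2) {S : Set G}
    (hS : ∀ s ∈ S, orderOf s = 3 ∧ s ∈ preserver ρ W) (hnc : ∃ x ∈ S, ∃ y ∈ S, ¬ Commute x y) :
    ∃ ρ' : Subgroup.closure S →* End k W, Nontrivial W ∧ PlaneGroup ρ' := by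
  have hH : Subgroup.closure S ≤ preserver ρ W := (Subgroup.closure_le _).mpr fun s hs => (hS s hs).2
  have : Nontrivial W := nontrivial_of_finrank_eq_succ hW
  refine ⟨restrictRep ρ W hH, this, ⟨⟨fun g hg w hw => ?_, ?_, h.two⟩, hW, ?_, ?_⟩⟩
  · refine Subtype.ext (h.fpf (g : G) (fun e => hg (Subtype.ext e)) (w : V) ?_)
    exact congrArg Subtype.val hw
  · intro e
    obtain ⟨t, ht⟩ := Subgroup.card_subgroup_dvd_card (Subgroup.closure S)
    exact h.card_ne (by rw [ht, Nat.cast_mul, e, zero_mul])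
  · apply Subgroup.map_injective (Subgroup.closure S).subtype_injective
    rw [MonoidHom.map_closure, ← MonoidHom.range_eq_map, Subgroup.range_subtype]
    refine le_antisymm ((Subgroup.closure_le _).mpr ?_) ((Subgroup.closure_le _).mpr ?_)
    · rintro _ ⟨x, -, rfl⟩; exact x.2
    · intro s hs
      refine Subgroup.subset_closure ⟨⟨s, Subgroup.subset_closure hs⟩, ?_, rfl⟩
      show orderOf (⟨s, _⟩ : Subgroup.closure S) = 3
      rw [Subgroup.orderOf_mk]; exact (hS s hs).1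
  · obtain ⟨x, hx, y, hy, hxy⟩ := hnc
    exact ⟨⟨x, Subgroup.subset_closure hx⟩, ⟨y, Subgroup.subset_closure hy⟩,
      by rw [Subgroup.orderOf_mk]; exact (hS x hx).1, by rw [Subgroup.orderOf_mk]; exact (hS y hy).1,
      fun hc => hxy (hc.map (Subgroup.closure S).subtype)⟩

omit [Field k] [IsAlgClosed k] [AddCommGroup V] [Module k V] [FiniteDimensional k V] [Nontrivial V] in
theorem map_threeSubgroups (H : Subgroup G) :
    (fun P : Subgroup H => P.map H.subtype) '' threeSubgroups H = (ptsIn H : Set (Subgroup G)) := by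
  ext P
  simp only [Set.mem_image, Finset.mem_coe, mem_ptsIn]
  constructor
  · rintro ⟨P', hP', rfl⟩
    exact ⟨by rw [Subgroup.card_map_of_injective H.subtype_injective]; exact hP', Subgroup.map_subtype_le _⟩
  · rintro ⟨hP, hle⟩
    refine ⟨P.subgroupOf H, ?_, Subgroup.map_subgroupOf_eq_of_le hle⟩
    show Nat.card _ = 3
    rw [Nat.card_congr (Subgroup.subgroupOfEquivOfLe hle).toEquiv, hP]

omit [Field k] [IsAlgClosed k] [AddCommGroup V] [Module k V] [FiniteDimensional k V] [Nontrivial V] in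
theorem card_ptsIn (H : Subgroup G) : (ptsIn H).card = (threeSubgroups H).ncard := by
  rw [← Set.ncard_coe_finset, ← map_threeSubgroups,
    Set.ncard_image_of_injective _ (Subgroup.map_injective H.subtype_injective)]

/-- Labels of ten subgroups of order three by two-element subsets of a five-element set. -/
structure TenLabel (T : Finset (Subgroup G)) (lab : Subgroup G → Finset (Fin 5)) : Prop where
  bij : Set.BijOn lab T {s | s.card = 2}
  share : ∀ P ∈ T, ∀ Q ∈ T, ∀ R ∈ T, ∀ i, i ∈ lab P → i ∈ lab Q → R ≤ P ⊔ Q → i ∈ lab R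
  far : ∀ P ∈ T, ∀ Q ∈ T, Disjoint (lab P) (lab Q) → 5 ≤ (ptsIn (P ⊔ Q)).card

theorem plane_dichotomy (h : FpfRep ρ) {W : Submodule k V} (hW : finrank k W = 2) {S : Set G}
    (hS : ∀ s ∈ S, orderOf s = 3 ∧ s ∈ preserver ρ W) (hnc : ∃ x ∈ S, ∃ y ∈ S, ¬ Commute x y) :
    ((ptsIn (Subgroup.closure S)).card = 4 ∧ Nat.card (Subgroup.closure S) = 24 ∧
      ∀ g ∈ Subgroup.closure S, g ^ 4 = 1 ∨ g ^ 6 = 1) ∨
    ((ptsIn (Subgroup.closure S)).card = 10 ∧ Nat.card (Subgroup.closure S) = 120 ∧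
      ∃ lab, TenLabel (ptsIn (Subgroup.closure S)) lab) := by
  set H := Subgroup.closure S with hH
  obtain ⟨ρ', hnt, hp⟩ := exists_planeGroup h hW hS hnc
  rcases hp.four_or_ten with h4 | ⟨h10, h120⟩
  · obtain ⟨h24, hpow⟩ := hp.small h4
    refine .inl ⟨by rw [card_ptsIn]; exact h4, h24, fun g hg => ?_⟩
    exact (hpow ⟨g, hg⟩).imp (fun e => congrArg Subtype.val e) (fun e => congrArg Subtype.val e)
  · refine .inr ⟨by rw [card_ptsIn]; exact h10, h120, ?_⟩
    obtain ⟨lab, hbij, hshare, hfar⟩ := hp.exists_labelling h10 h120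
    refine ⟨fun P => lab (P.subgroupOf H), ?_, ?_, ?_⟩
    · have hb : Set.BijOn (fun P : Subgroup G => P.subgroupOf H) (ptsIn H) (threeSubgroups H) := by
        refine ⟨fun P hP => ?_, fun P hP Q hQ e => ?_, fun P hP => ⟨P.map H.subtype, ?_, ?_⟩⟩
        · obtain ⟨h3, hle⟩ := mem_ptsIn.mp hP
          show Nat.card _ = 3
          rw [Nat.card_congr (Subgroup.subgroupOfEquivOfLe hle).toEquiv, h3]
        · have := congrArg (Subgroup.map H.subtype) e
          rwa [Subgroup.map_subgroupOf_eq_of_le (mem_ptsIn.mp hP).2,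
            Subgroup.map_subgroupOf_eq_of_le (mem_ptsIn.mp hQ).2] at this
        · rw [← map_threeSubgroups]; exact Set.mem_image_of_mem _ hP
        · exact Subgroup.comap_map_eq_self_of_injective H.subtype_injective P
      exact hbij.comp hb
    · intro P hP Q hQ R hR i hiP hiQ hle
      refine hshare _ _ _ i hiP hiQ ?_
      rw [← Subgroup.map_le_map_iff_of_injective H.subtype_injective, Subgroup.map_sup,
        Subgroup.map_subgroupOf_eq_of_le (mem_ptsIn.mp hP).2, Subgroup.map_subgroupOf_eq_of_le (mem_ptsIn.mp hQ).2,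
        Subgroup.map_subgroupOf_eq_of_le (mem_ptsIn.mp hR).2]
      exact hle
    · intro P hP Q hQ hd
      have hm : ∀ {P}, P ∈ ptsIn H → P.subgroupOf H ∈ threeSubgroups H := fun {P} hP => by
        obtain ⟨h3, hle⟩ := mem_ptsIn.mp hP
        show Nat.card _ = 3
        rw [Nat.card_congr (Subgroup.subgroupOfEquivOfLe hle).toEquiv, h3]
      refine (hfar _ (hm hP) _ (hm hQ) hd).trans ?_
      rw [← Set.ncard_coe_finset]
      refine Set.ncard_le_ncard_of_injOn (fun R : Subgroup H => R.map H.subtype) ?_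
        (Subgroup.map_injective H.subtype_injective).injOn (Set.toFinite _)
      rintro R ⟨hR3, hRle⟩
      refine Finset.mem_coe.mpr (mem_ptsIn.mpr ⟨by rw [Subgroup.card_map_of_injective H.subtype_injective]; exact hR3, ?_⟩)
      have := Subgroup.map_mono (f := H.subtype) hRle
      rwa [Subgroup.map_sup, Subgroup.map_subgroupOf_eq_of_le (mem_ptsIn.mp hP).2,
        Subgroup.map_subgroupOf_eq_of_le (mem_ptsIn.mp hQ).2] at this

omit [IsAlgClosed k] [FiniteDimensional k V] in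
/-- For `g` of order dividing four or six, `g + g⁻¹` is a scalar. -/
theorem FpfRep.sum_inv_scalar (h : FpfRep ρ) {g : G} (hg : g ^ 4 = 1 ∨ g ^ 6 = 1) :
    ∃ t : k, ρ g + ρ g⁻¹ = t • 1 := by
  by_cases h1 : g = 1
  · exact ⟨2, by rw [h1, inv_one, map_one, two_smul]⟩
  by_cases h2 : g ^ 2 = 1
  · refine ⟨-2, ?_⟩
    have hz := h.involution (orderOf_eq_prime h2 h1 : orderOf g = 2)
    rw [inv_eq_of_mul_eq_one_right (show g * g = 1 by rw [← pow_two]; exact h2), hz, neg_smul, two_smul]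
    abel
  rcases hg with h4 | h6
  · refine ⟨0, ?_⟩
    have hz : ρ (g ^ 2) = -1 := h.involution (orderOf_eq_prime (by rw [← pow_mul]; exact h4) h2)
    have : g⁻¹ = g * g ^ 2 := by
      rw [inv_eq_of_mul_eq_one_right]; rw [← h4]; simp [pow_succ, mul_assoc]
    rw [this, map_mul, hz, mul_neg, mul_one, add_neg_cancel, zero_smul]
  · by_cases h3 : g ^ 3 = 1
    · refine ⟨-1, ?_⟩
      have h' := h.order_three (orderOf_eq_prime (p := 3) h3 h1)
      have : g⁻¹ = g * g := by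
        rw [inv_eq_of_mul_eq_one_right]; rw [← h3]; simp [pow_succ, mul_assoc]
      rw [this, map_mul, neg_smul, one_smul, ← sub_eq_zero, sub_neg_eq_add, ← h']
      abel
    · refine ⟨1, ?_⟩
      have hz : ρ (g ^ 3) = -1 := h.involution (orderOf_eq_prime (by rw [← pow_mul]; exact h6) h3)
      have h' := h.order_three (orderOf_eq_prime (p := 3) (by rw [← pow_mul]; exact h6) h2)
      have e4 : ρ (g ^ 2) * ρ (g ^ 2) = - ρ g := by
        rw [← map_mul, show g ^ 2 * g ^ 2 = g * g ^ 3 by simp [pow_succ, mul_assoc], map_mul, hz, mul_neg, mul_one]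
      have : g⁻¹ = g ^ 2 * g ^ 3 := by
        rw [inv_eq_of_mul_eq_one_right]; rw [← h6]; simp [pow_succ, mul_assoc]
      rw [this, map_mul, hz, mul_neg, mul_one, one_smul]
      rw [e4] at h'
      linear_combination (norm := abel) -h'

omit [IsAlgClosed k] [FiniteDimensional k V] [Nontrivial V] [Finite G] in
theorem FpfRep.anti_eq (h : FpfRep ρ) {x y : G} (hx : orderOf x = 3) (hy : orderOf y = 3) :
    anti ρ x y = (4 : k) • (ρ (x * y) + ρ (x * y)⁻¹) - (2 : k) • 1 := by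
  have ex : ∀ {x : G}, orderOf x = 3 → ρ x⁻¹ = -1 - ρ x := fun {x} hx => by
    have e : x⁻¹ = x * x := by
      rw [inv_eq_of_mul_eq_one_right]; rw [← pow_three_eq_one hx]; simp [pow_succ, mul_assoc]
    rw [e, map_mul, ← sub_eq_zero, ← h.order_three hx]; abel
  rw [mul_inv_rev, map_mul, map_mul, ex hx, ex hy]
  simp only [anti, imag, add_mul, mul_add, smul_mul_assoc, mul_smul_comm, one_mul, mul_one, sub_mul, mul_sub,
    neg_mul, mul_neg]
  module

/-- Two subgroups of order three generating a group with just four of them. -/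
def Edge (P Q : Subgroup G) : Prop :=
  Nat.card P = 3 ∧ Nat.card Q = 3 ∧ P ≠ Q ∧ (ptsIn (P ⊔ Q)).card = 4

omit [Field k] [IsAlgClosed k] [AddCommGroup V] [Module k V] [FiniteDimensional k V] [Nontrivial V] in
theorem Edge.symm {P Q : Subgroup G} (e : Edge P Q) : Edge Q P :=
  ⟨e.2.1, e.1, e.2.2.1.symm, by rw [sup_comm]; exact e.2.2.2⟩

omit [Field k] [IsAlgClosed k] [AddCommGroup V] [Module k V] [FiniteDimensional k V] [Nontrivial V] in
theorem closure_pair_eq (x y : G) : Subgroup.closure ({x, y} : Set G) = Subgroup.zpowers x ⊔ Subgroup.zpowers y := by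
  rw [Set.insert_eq, Subgroup.closure_union, Subgroup.zpowers_eq_closure, Subgroup.zpowers_eq_closure]

theorem FpfRep.not_commute (h : FpfRep ρ) {x y : G} (hx : orderOf x = 3) (hy : orderOf y = 3)
    (hne : Subgroup.zpowers x ≠ Subgroup.zpowers y) : ¬ Commute x y := by
  intro hc
  obtain ⟨v, hv, hev⟩ := exists_joint_eigen' [ρ x, ρ y] (by simp [hc.map ρ])
  obtain ⟨a, ha⟩ := hev _ (List.mem_cons_self ..)
  obtain ⟨b, hb⟩ := hev (ρ y) (by simp)
  exact hne (zpowers_eq_of_mem hx hy (h.mem_zpowers_of_lineStab hv (mem_lineStab_of_scalar ha)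
    (mem_lineStab_of_scalar hb) (by rw [hx]; exact pow_three_eq_one hy))).symm

theorem FpfRep.pair_dichotomy (h : FpfRep ρ) {P Q : Subgroup G} (hP : Nat.card P = 3) (hQ : Nat.card Q = 3)
    (hne : P ≠ Q) : ((ptsIn (P ⊔ Q)).card = 4 ∧ Nat.card ↥(P ⊔ Q) = 24) ∨
      ((ptsIn (P ⊔ Q)).card = 10 ∧ Nat.card ↥(P ⊔ Q) = 120 ∧ ∃ lab, TenLabel (ptsIn (P ⊔ Q)) lab) := by
  obtain ⟨x, hx, rfl⟩ := exists_zpowers_of_card_three hP
  obtain ⟨y, hy, rfl⟩ := exists_zpowers_of_card_three hQ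
  have hxy := h.not_commute hx hy hne
  obtain ⟨W, hW, hxW, hyW⟩ := h.exists_plane_two hx hy hxy
  rw [← closure_pair_eq]
  refine (plane_dichotomy h hW (S := {x, y}) ?_ ⟨x, by simp, y, by simp, hxy⟩).imp (fun e => ⟨e.1, e.2.1⟩) id
  rintro s (rfl | rfl) <;> exact ⟨by assumption, by assumption⟩

theorem FpfRep.four_le_pair (h : FpfRep ρ) {P Q : Subgroup G} (hP : Nat.card P = 3) (hQ : Nat.card Q = 3)
    (hne : P ≠ Q) : 4 ≤ (ptsIn (P ⊔ Q)).card := by
  rcases h.pair_dichotomy hP hQ hne with e | e <;> omega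

theorem FpfRep.edge_of_le_four (h : FpfRep ρ) {P Q : Subgroup G} (hP : Nat.card P = 3) (hQ : Nat.card Q = 3)
    (hne : P ≠ Q) (hle : (ptsIn (P ⊔ Q)).card ≤ 4) : Edge P Q :=
  ⟨hP, hQ, hne, le_antisymm hle (h.four_le_pair hP hQ hne)⟩

theorem FpfRep.edge_scalar (h : FpfRep ρ) {x y : G} (hx : orderOf x = 3) (hy : orderOf y = 3)
    (he : Edge (Subgroup.zpowers x) (Subgroup.zpowers y)) : ∃ c : k, anti ρ x y = c • 1 := by
  obtain ⟨-, -, hne, h4⟩ := he
  have hxy := h.not_commute hx hy hne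
  obtain ⟨W, hW, hxW, hyW⟩ := h.exists_plane_two hx hy hxy
  rw [← closure_pair_eq] at h4
  rcases plane_dichotomy h hW (S := {x, y}) (by rintro s (rfl | rfl) <;> exact ⟨by assumption, by assumption⟩)
    ⟨x, by simp, y, by simp, hxy⟩ with ⟨-, -, hall⟩ | ⟨e, -⟩
  · obtain ⟨t, ht⟩ := h.sum_inv_scalar (hall (x * y)
      (mul_mem (Subgroup.subset_closure (by simp)) (Subgroup.subset_closure (by simp))))
    refine ⟨4 * t - 2, ?_⟩
    rw [h.anti_eq hx hy, ht]
    module
  · omega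

theorem FpfRep.blk_eq (h : FpfRep ρ) {P Q P' Q' : Subgroup G} (e : Edge P Q) (hP' : P' ∈ ptsIn (P ⊔ Q))
    (hQ' : Q' ∈ ptsIn (P ⊔ Q)) (hne : P' ≠ Q') : Edge P' Q' ∧ ptsIn (P' ⊔ Q') = ptsIn (P ⊔ Q) := by
  have hsub : ptsIn (P' ⊔ Q') ⊆ ptsIn (P ⊔ Q) :=
    ptsIn_mono (sup_le (mem_ptsIn.mp hP').2 (mem_ptsIn.mp hQ').2)
  have he : Edge P' Q' := h.edge_of_le_four (mem_ptsIn.mp hP').1 (mem_ptsIn.mp hQ').1 hne
    (e.2.2.2 ▸ Finset.card_le_card hsub)
  exact ⟨he, Finset.eq_of_subset_of_card_le hsub (by rw [he.2.2.2, e.2.2.2])⟩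

omit [Field k] [IsAlgClosed k] [AddCommGroup V] [Module k V] [FiniteDimensional k V] [Nontrivial V] in
theorem left_mem_blk {P Q : Subgroup G} (hP : Nat.card P = 3) : P ∈ ptsIn (P ⊔ Q) :=
  mem_ptsIn.mpr ⟨hP, le_sup_left⟩

omit [Field k] [IsAlgClosed k] [AddCommGroup V] [Module k V] [FiniteDimensional k V] [Nontrivial V] in
theorem right_mem_blk {P Q : Subgroup G} (hQ : Nat.card Q = 3) : Q ∈ ptsIn (P ⊔ Q) :=
  mem_ptsIn.mpr ⟨hQ, le_sup_right⟩

theorem FpfRep.edge_iff_share (h : FpfRep ρ) {H : Subgroup G} {lab : Subgroup G → Finset (Fin 5)}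
    (hl : TenLabel (ptsIn H) lab) {P Q : Subgroup G} (hP : P ∈ ptsIn H) (hQ : Q ∈ ptsIn H) (hne : P ≠ Q) :
    (Edge P Q ↔ ¬ Disjoint (lab P) (lab Q)) ∧
      ∀ i, i ∈ lab P → i ∈ lab Q → ∀ R, R ∈ ptsIn (P ⊔ Q) ↔ R ∈ ptsIn H ∧ i ∈ lab R := by
  classical
  have key : ∀ i, i ∈ lab P → i ∈ lab Q → Edge P Q ∧ ptsIn (P ⊔ Q) = (ptsIn H).filter (fun R => i ∈ lab R) := by
    intro i hi hi'
    have hcard : ((ptsIn H).filter (fun R => i ∈ lab R)).card = 4 := by
      rw [Finset.card_bij (t := Finset.univ.filter (fun s : Finset (Fin 5) => s.card = 2 ∧ i ∈ s)) (fun R _ => lab R)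
        (fun R hR => by
          rw [Finset.mem_filter] at hR
          simpa using ⟨hl.bij.mapsTo hR.1, hR.2⟩)
        (fun a ha b hb e => hl.bij.injOn (Finset.mem_filter.mp ha).1 (Finset.mem_filter.mp hb).1 e)
        (fun s hs => by
          simp only [Finset.mem_filter, Finset.mem_univ, true_and] at hs
          obtain ⟨R, hR, rfl⟩ := hl.bij.surjOn hs.1
          exact ⟨R, Finset.mem_filter.mpr ⟨hR, hs.2⟩, rfl⟩)]
      clear hi hi'; revert i; decide
    have hsub : ptsIn (P ⊔ Q) ⊆ (ptsIn H).filter (fun R => i ∈ lab R) := fun R hR => by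
      have hRH : R ∈ ptsIn H := ptsIn_mono (sup_le (mem_ptsIn.mp hP).2 (mem_ptsIn.mp hQ).2) hR
      exact Finset.mem_filter.mpr ⟨hRH, hl.share P hP Q hQ R hRH i hi hi' (mem_ptsIn.mp hR).2⟩
    have he : Edge P Q := h.edge_of_le_four (mem_ptsIn.mp hP).1 (mem_ptsIn.mp hQ).1 hne
      (hcard ▸ Finset.card_le_card hsub)
    exact ⟨he, Finset.eq_of_subset_of_card_le hsub (by rw [he.2.2.2, hcard])⟩
  refine ⟨⟨fun e hd => ?_, fun hnd => ?_⟩, fun i hi hi' R => ?_⟩
  · have := hl.far P hP Q hQ hd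
    have := e.2.2.2
    omega
  · rw [Finset.not_disjoint_iff] at hnd
    obtain ⟨i, hi, hi'⟩ := hnd
    exact (key i hi hi').1
  · rw [(key i hi hi').2, Finset.mem_filter]

end Cfsg.Agent.Grp.Zas
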