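import Mathlib
import Cfsg.Agent.Lib.Grp.Zassenhaus.Edges

/-!
# A fixed-point-free group has at most ten subgroups of order three
-/

set_option autoImplicit false

namespace Cfsg.Agent.Grp.Zas

open Module

variable {G k V : Type*} [Group G] [Finite G] [Field k] [IsAlgClosed k] [AddCommGroup V] [Module k V]
  [FiniteDimensional k V] [Nontrivial V] {ρ : G →* End k V}

theorem FpfRep.triple_ten (h : FpfRep ρ) {P s r : Subgroup G} (es : Edge P s) (er : Edge P r)
    (hr : r ∉ ptsIn (P ⊔ s)) :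
    (ptsIn (P ⊔ s ⊔ r)).card = 10 ∧ Nat.card ↥(P ⊔ s ⊔ r) = 120 ∧ ∃ lab, TenLabel (ptsIn (P ⊔ s ⊔ r)) lab := by
  classical
  obtain ⟨x, hx, rfl⟩ := exists_zpowers_of_card_three es.1
  obtain ⟨y, hy, rfl⟩ := exists_zpowers_of_card_three es.2.1
  obtain ⟨z, hz, rfl⟩ := exists_zpowers_of_card_three er.2.1
  obtain ⟨c, hc⟩ := h.edge_scalar hx hy es
  obtain ⟨c1, hc1⟩ := h.edge_scalar hx hz er
  have hxy := h.not_commute hx hy es.2.2.1
  obtain ⟨W, hW, hxW, hyW, hzW⟩ := h.exists_plane_three hx hy hz hxy hc hc1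
  have e : Subgroup.closure ({x, y, z} : Set G) = Subgroup.zpowers x ⊔ Subgroup.zpowers y ⊔ Subgroup.zpowers z := by
    rw [Set.insert_eq, Subgroup.closure_union, closure_pair_eq, ← Subgroup.zpowers_eq_closure, sup_assoc]
  rw [← e]
  rcases plane_dichotomy h hW (S := {x, y, z})
    (by rintro s (rfl | rfl | rfl) <;> exact ⟨by assumption, by assumption⟩) ⟨x, by simp, y, by simp, hxy⟩ with
    ⟨h4, -⟩ | h10
  · exfalso
    rw [e] at h4
    have hsub : ptsIn (Subgroup.zpowers x ⊔ Subgroup.zpowers y) ⊆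
        ptsIn (Subgroup.zpowers x ⊔ Subgroup.zpowers y ⊔ Subgroup.zpowers z) := ptsIn_mono le_sup_left
    exact hr ((Finset.eq_of_subset_of_card_le hsub (by rw [h4, es.2.2.2])).symm ▸ right_mem_blk er.2.1)
  · exact h10

/-- The neighbours of a subgroup of order three. -/
noncomputable def nbrs (P : Subgroup G) : Finset (Subgroup G) :=
  (Set.toFinite {Q : Subgroup G | Edge P Q}).toFinset

omit [Field k] [IsAlgClosed k] [AddCommGroup V] [Module k V] [FiniteDimensional k V] [Nontrivial V] in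
theorem mem_nbrs {P Q : Subgroup G} : Q ∈ nbrs P ↔ Edge P Q := by simp [nbrs]

/-- The blocks through a subgroup of order three. -/
noncomputable def blocksAt (P : Subgroup G) : Finset (Finset (Subgroup G)) := by
  classical exact (nbrs P).image (fun Q => ptsIn (P ⊔ Q))

omit [Field k] [IsAlgClosed k] [AddCommGroup V] [Module k V] [FiniteDimensional k V] [Nontrivial V] in
theorem mem_blocksAt {P : Subgroup G} {B : Finset (Subgroup G)} :
    B ∈ blocksAt P ↔ ∃ Q, Edge P Q ∧ ptsIn (P ⊔ Q) = B := by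
  classical
  simp [blocksAt, mem_nbrs]

theorem FpfRep.block_facts (h : FpfRep ρ) {P : Subgroup G} {B : Finset (Subgroup G)} (hB : B ∈ blocksAt P) :
    B.card = 4 ∧ P ∈ B ∧ (∀ Q ∈ B, Q ≠ P → Edge P Q ∧ ptsIn (P ⊔ Q) = B) ∧
      ∀ Q ∈ B, ∀ R ∈ B, Q ≠ R → Edge Q R ∧ ptsIn (Q ⊔ R) = B := by
  obtain ⟨Q, e, rfl⟩ := mem_blocksAt.mp hB
  exact ⟨e.2.2.2, left_mem_blk e.1, fun R hR hne => h.blk_eq e (left_mem_blk e.1) hR hne.symm,
    fun R hR S hS hne => h.blk_eq e hR hS hne⟩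

theorem FpfRep.block_at_mem (h : FpfRep ρ) {P Q : Subgroup G} {B : Finset (Subgroup G)} (hB : B ∈ blocksAt P)
    (hQ : Q ∈ B) : B ∈ blocksAt Q := by
  classical
  obtain ⟨hc, hPB, hP, hall⟩ := h.block_facts hB
  obtain ⟨R, hR, hne⟩ := Finset.exists_mem_ne (by omega : 1 < B.card) Q
  exact mem_blocksAt.mpr ⟨R, hall Q hQ R hR hne.symm⟩

theorem FpfRep.blocks_meet (h : FpfRep ρ) {P Q : Subgroup G} {B B' : Finset (Subgroup G)} (hB : B ∈ blocksAt P)
    (hB' : B' ∈ blocksAt P) (hQ : Q ∈ B) (hQ' : Q ∈ B') (hne : Q ≠ P) : B = B' := by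
  obtain ⟨-, -, h1, -⟩ := h.block_facts hB
  obtain ⟨-, -, h2, -⟩ := h.block_facts hB'
  rw [← (h1 Q hQ hne).2, (h2 Q hQ' hne).2]

/-- Facts about the ten subgroups of order three in a group spanned by two blocks. -/
theorem FpfRep.ten_facts (h : FpfRep ρ) {P : Subgroup G} {H : Subgroup G}
    (hT : ∃ lab, TenLabel (ptsIn H) lab) (hP : P ∈ ptsIn H) :
    ∃ B1 ∈ blocksAt P, ∃ B2 ∈ blocksAt P, B1 ≠ B2 ∧ B1 ⊆ ptsIn H ∧ B2 ⊆ ptsIn H ∧
      (∀ Q ∈ ptsIn H, Edge P Q → Q ∈ B1 ∨ Q ∈ B2) ∧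
      (∀ Q ∈ B1, Q ≠ P → ∃! R, R ∈ B2 ∧ R ≠ P ∧ Edge Q R) ∧
      (∀ Q ∈ B2, Q ≠ P → ∃! R, R ∈ B1 ∧ R ≠ P ∧ Edge Q R) ∧
      ∃ N : Finset (Subgroup G), N.card = 3 ∧ ∀ Q, Q ∈ N ↔ Q ∈ ptsIn H ∧ Q ≠ P ∧ ¬ Edge P Q := by
  classical
  obtain ⟨lab, hl⟩ := hT
  have hlab : ∀ R ∈ ptsIn H, (lab R).card = 2 := fun R hR => hl.bij.mapsTo hR
  obtain ⟨a, b, hab, hPab⟩ := Finset.card_eq_two.mp (hlab P hP)
  obtain ⟨c, hca, hcb⟩ : ∃ c : Fin 5, c ≠ a ∧ c ≠ b := by clear hab hPab; revert a b; decide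
  obtain ⟨s, hs, hsl⟩ := hl.bij.surjOn (show ({a, c} : Finset (Fin 5)).card = 2 from Finset.card_pair hca.symm)
  obtain ⟨r, hr, hrl⟩ := hl.bij.surjOn (show ({b, c} : Finset (Fin 5)).card = 2 from Finset.card_pair hcb.symm)
  have hsP : P ≠ s := fun e => by
    subst e; rw [hPab] at hsl
    have : b ∈ ({a, c} : Finset (Fin 5)) := hsl ▸ by simp
    simp at this; tauto
  have hrP : P ≠ r := fun e => by
    subst e; rw [hPab] at hrl
    have : a ∈ ({b, c} : Finset (Fin 5)) := hrl ▸ by simp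
    simp at this; tauto
  obtain ⟨hes, hblks⟩ := h.edge_iff_share hl hP hs hsP
  obtain ⟨her, hblkr⟩ := h.edge_iff_share hl hP hr hrP
  have esP : Edge P s := hes.mpr (Finset.not_disjoint_iff.mpr ⟨a, by simp [hPab], by simp [hsl]⟩)
  have erP : Edge P r := her.mpr (Finset.not_disjoint_iff.mpr ⟨b, by simp [hPab], by simp [hrl]⟩)
  have m1 : ∀ R, R ∈ ptsIn (P ⊔ s) ↔ R ∈ ptsIn H ∧ a ∈ lab R := hblks a (by simp [hPab]) (by simp [hsl])
  have m2 : ∀ R, R ∈ ptsIn (P ⊔ r) ↔ R ∈ ptsIn H ∧ b ∈ lab R := hblkr b (by simp [hPab]) (by simp [hrl])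
  have hpartner : ∀ (a b : Fin 5) (B1 B2 : Finset (Subgroup G)), a ≠ b → lab P = {a, b} →
      (∀ R, R ∈ B1 ↔ R ∈ ptsIn H ∧ a ∈ lab R) → (∀ R, R ∈ B2 ↔ R ∈ ptsIn H ∧ b ∈ lab R) →
      ∀ Q ∈ B1, Q ≠ P → ∃! R, R ∈ B2 ∧ R ≠ P ∧ Edge Q R := by
    intro a b B1 B2 hab hPab m1 m2 Q hQ hQP
    obtain ⟨hQH, haQ⟩ := (m1 Q).mp hQ
    obtain ⟨d, hd⟩ : ∃ d, lab Q = {a, d} ∧ d ≠ a := by
      obtain ⟨p, q, hpq, e⟩ := Finset.card_eq_two.mp (hlab Q hQH)
      rw [e] at haQ; simp only [Finset.mem_insert, Finset.mem_singleton] at haQ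
      rcases haQ with rfl | rfl
      · exact ⟨q, e, hpq.symm⟩
      · exact ⟨p, by rw [e, Finset.pair_comm], hpq⟩
    have hdb : d ≠ b := fun e => hQP (hl.bij.injOn hQH hP (by rw [hd.1, hPab, e]))
    obtain ⟨R, hR, hRl⟩ := hl.bij.surjOn (show ({b, d} : Finset (Fin 5)).card = 2 from Finset.card_pair hdb.symm)
    have hRP : R ≠ P := fun e => by
      subst e; rw [hPab] at hRl
      have : a ∈ ({b, d} : Finset (Fin 5)) := hRl ▸ by simp
      simp at this; tauto
    have hRQ : Q ≠ R := fun e => by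
      subst e; rw [hd.1] at hRl
      have : a ∈ ({b, d} : Finset (Fin 5)) := hRl ▸ by simp
      simp at this; tauto
    refine ⟨R, ⟨(m2 R).mpr ⟨hR, by simp [hRl]⟩, hRP,
      (h.edge_iff_share hl hQH hR hRQ).1.mpr (Finset.not_disjoint_iff.mpr ⟨d, by simp [hd.1], by simp [hRl]⟩)⟩, ?_⟩
    rintro S ⟨hS, hSP, eS⟩
    obtain ⟨hSH, hbS⟩ := (m2 S).mp hS
    have hsh := (h.edge_iff_share hl hQH hSH eS.2.2.1).1.mp eS
    refine hl.bij.injOn hSH hR ?_
    rw [hRl]
    have hS2 := hlab S hSH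
    rw [hd.1, Finset.not_disjoint_iff] at hsh
    obtain ⟨i, hi, hi'⟩ := hsh
    simp only [Finset.mem_insert, Finset.mem_singleton] at hi
    rcases hi with rfl | rfl
    · exfalso
      refine hSP (hl.bij.injOn hSH hP ?_)
      rw [hPab]
      exact (Finset.eq_of_subset_of_card_le (by
        intro t ht; simp only [Finset.mem_insert, Finset.mem_singleton] at ht
        rcases ht with rfl | rfl <;> assumption) (by rw [hS2, Finset.card_pair hab])).symm
    · exact (Finset.eq_of_subset_of_card_le (by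
        intro t ht; simp only [Finset.mem_insert, Finset.mem_singleton] at ht
        rcases ht with rfl | rfl <;> assumption) (by rw [hS2, Finset.card_pair hdb.symm])).symm
  refine ⟨_, mem_blocksAt.mpr ⟨s, esP, rfl⟩, _, mem_blocksAt.mpr ⟨r, erP, rfl⟩, fun e => ?_,
    fun R hR => ((m1 R).mp hR).1, fun R hR => ((m2 R).mp hR).1, fun Q hQ eQ => ?_, fun Q hQ hQP => ?_,
    fun Q hQ hQP => ?_, ?_⟩
  · have : a ∈ lab r := ((m1 r).mp (e ▸ right_mem_blk erP.2.1)).2
    rw [hrl] at this; simp at this; tauto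
  · have := (h.edge_iff_share hl hP hQ eQ.2.2.1).1.mp eQ
    rw [hPab, Finset.not_disjoint_iff] at this
    obtain ⟨i, hi, hi'⟩ := this
    simp only [Finset.mem_insert, Finset.mem_singleton] at hi
    rcases hi with rfl | rfl
    · exact .inl ((m1 Q).mpr ⟨hQ, hi'⟩)
    · exact .inr ((m2 Q).mpr ⟨hQ, hi'⟩)
  · exact hpartner a b _ _ hab hPab m1 m2 Q hQ hQP
  · exact hpartner b a _ _ hab.symm (by rw [hPab, Finset.pair_comm]) m2 m1 Q hQ hQP
  · refine ⟨(ptsIn H).filter (fun Q => Disjoint (lab P) (lab Q)), ?_, fun Q => ?_⟩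
    · rw [Finset.card_bij (t := Finset.univ.filter (fun s : Finset (Fin 5) => s.card = 2 ∧ Disjoint (lab P) s))
        (fun R _ => lab R)
        (fun R hR => by
          rw [Finset.mem_filter] at hR
          simpa using ⟨hl.bij.mapsTo hR.1, hR.2⟩)
        (fun a ha b hb e => hl.bij.injOn (Finset.mem_filter.mp ha).1 (Finset.mem_filter.mp hb).1 e)
        (fun s hs => by
          simp only [Finset.mem_filter, Finset.mem_univ, true_and] at hs
          obtain ⟨R, hR, rfl⟩ := hl.bij.surjOn hs.1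
          exact ⟨R, Finset.mem_filter.mpr ⟨hR, hs.2⟩, rfl⟩)]
      rw [hPab]
      clear hca hcb hsl hrl m1 m2 hblks hblkr hPab hpartner
      revert a b; decide
    · rw [Finset.mem_filter]
      constructor
      · rintro ⟨hQ, hd⟩
        have hne : P ≠ Q := fun e => by
          rw [← e, disjoint_self, Finset.bot_eq_empty, hPab] at hd; simp at hd
        exact ⟨hQ, hne.symm, fun e => (h.edge_iff_share hl hP hQ hne).1.mp e hd⟩
      · rintro ⟨hQ, hne, hno⟩
        exact ⟨hQ, not_not.mp fun hd => hno ((h.edge_iff_share hl hP hQ hne.symm).1.mpr hd)⟩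

/-- The group spanned by two blocks at `P`, and its uniqueness. -/
theorem FpfRep.two_blocks (h : FpfRep ρ) {P : Subgroup G} {B B' : Finset (Subgroup G)} (hB : B ∈ blocksAt P)
    (hB' : B' ∈ blocksAt P) (hne : B ≠ B') :
    ∃ H : Subgroup G, (ptsIn H).card = 10 ∧ (∃ lab, TenLabel (ptsIn H) lab) ∧ B ⊆ ptsIn H ∧ B' ⊆ ptsIn H ∧
      P ∈ ptsIn H ∧ ∀ H' : Subgroup G, B ⊆ ptsIn H' → B' ⊆ ptsIn H' → (ptsIn H').card = 10 → ptsIn H' = ptsIn H := by
  obtain ⟨s, es, rfl⟩ := mem_blocksAt.mp hB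
  obtain ⟨r, er, rfl⟩ := mem_blocksAt.mp hB'
  have hr : r ∉ ptsIn (P ⊔ s) := fun hr => hne (h.blocks_meet hB hB' hr (right_mem_blk er.2.1) er.2.2.1.symm)
  obtain ⟨h10, -, hl⟩ := h.triple_ten es er hr
  refine ⟨P ⊔ s ⊔ r, h10, hl, ptsIn_mono le_sup_left, ptsIn_mono (sup_le (le_sup_left.trans le_sup_left) le_sup_right),
    mem_ptsIn.mpr ⟨es.1, le_sup_left.trans le_sup_left⟩, fun H' hBH hB'H hH' => ?_⟩
  refine (Finset.eq_of_subset_of_card_le (ptsIn_mono (sup_le (sup_le ?_ ?_) ?_)) (by omega)).symm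
  · exact (mem_ptsIn.mp (hBH (left_mem_blk es.1))).2
  · exact (mem_ptsIn.mp (hBH (right_mem_blk es.2.1))).2
  · exact (mem_ptsIn.mp (hB'H (right_mem_blk er.2.1))).2

theorem FpfRep.partner (h : FpfRep ρ) {P Q : Subgroup G} {B B' : Finset (Subgroup G)} (hB : B ∈ blocksAt P)
    (hB' : B' ∈ blocksAt P) (hne : B ≠ B') (hQ : Q ∈ B) (hQP : Q ≠ P) :
    ∃! R, R ∈ B' ∧ R ≠ P ∧ Edge Q R := by
  obtain ⟨H, -, hl, hBH, hB'H, hPH, -⟩ := h.two_blocks hB hB' hne
  obtain ⟨C1, hC1, C2, hC2, hCne, -, -, hnb, huniq, huniq2, -⟩ := h.ten_facts hl hPH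
  have key : ∀ C, C ∈ blocksAt P → C ⊆ ptsIn H → C = C1 ∨ C = C2 := by
    intro C hC hCH
    obtain ⟨R, e, rfl⟩ := mem_blocksAt.mp hC
    have hR := right_mem_blk (P := P) e.2.1
    rcases hnb R (hCH hR) e with h1 | h1
    · exact .inl (h.blocks_meet hC hC1 hR h1 e.2.2.1.symm)
    · exact .inr (h.blocks_meet hC hC2 hR h1 e.2.2.1.symm)
  rcases key B hB hBH with rfl | rfl <;> rcases key B' hB' hB'H with rfl | rfl
  · exact absurd rfl hne
  · exact huniq Q hQ hQP
  · exact huniq2 Q hQ hQP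
  · exact absurd rfl hne

/-- All subgroups of order three. -/
noncomputable def allPts (G : Type*) [Group G] [Finite G] : Finset (Subgroup G) := ptsIn ⊤

omit [Field k] [IsAlgClosed k] [AddCommGroup V] [Module k V] [FiniteDimensional k V] [Nontrivial V] in
theorem mem_allPts {P : Subgroup G} : P ∈ allPts G ↔ Nat.card P = 3 := by simp [allPts, mem_ptsIn]

theorem FpfRep.card_nbrs (h : FpfRep ρ) (P : Subgroup G) : (nbrs P).card = 3 * (blocksAt P).card := by
  classical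
  rw [Finset.card_eq_sum_card_fiberwise (f := fun Q => ptsIn (P ⊔ Q)) (t := blocksAt P)
    (fun Q hQ => mem_blocksAt.mpr ⟨Q, mem_nbrs.mp hQ, rfl⟩), Nat.mul_comm, ← smul_eq_mul, ← Finset.sum_const]
  refine Finset.sum_congr rfl fun B hB => ?_
  obtain ⟨h4, hPB, hP, -⟩ := h.block_facts hB
  rw [show (nbrs P).filter (fun Q => ptsIn (P ⊔ Q) = B) = B.erase P from ?_, Finset.card_erase_of_mem hPB, h4]
  ext Q
  simp only [Finset.mem_filter, mem_nbrs, Finset.mem_erase]
  constructor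
  · rintro ⟨e, rfl⟩; exact ⟨e.2.2.1.symm, right_mem_blk e.2.1⟩
  · rintro ⟨hne, hQ⟩; exact hP Q hQ hne

/-- The number of subgroups of order three in terms of the number of blocks through one of them. -/
theorem FpfRep.card_allPts (h : FpfRep ρ) {P : Subgroup G} (hP : Nat.card P = 3) :
    (allPts G).card = 1 + 3 * (blocksAt P).card + 3 * ((blocksAt P).card).choose 2 := by
  classical
  set NN := ((allPts G).erase P).filter (fun Q => ¬ Edge P Q) with hNN
  have hsplit : ((allPts G).erase P).card = (nbrs P).card + NN.card := by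
    rw [← Finset.card_filter_add_card_filter_not (p := fun Q => Edge P Q)]
    congr 2
    ext Q
    simp only [Finset.mem_filter, Finset.mem_erase, mem_allPts, mem_nbrs]
    exact ⟨fun e => e.2, fun e => ⟨⟨e.2.2.1.symm, e.2.1⟩, e⟩⟩
  have h1 : (allPts G).card = 1 + ((allPts G).erase P).card := by
    rw [Finset.card_erase_of_mem (mem_allPts.mpr hP)]
    have := Finset.card_pos.mpr ⟨P, mem_allPts.mpr hP⟩
    omega
  suffices hNNc : NN.card = 3 * ((blocksAt P).card).choose 2 by rw [h1, hsplit, h.card_nbrs, hNNc, Nat.add_assoc]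
  have hQ : ∀ Q ∈ NN, Nat.card Q = 3 ∧ Q ≠ P ∧ ¬ Edge P Q ∧ (ptsIn (P ⊔ Q)).card = 10 ∧
      ∃ lab, TenLabel (ptsIn (P ⊔ Q)) lab := by
    intro Q hQ
    simp only [hNN, Finset.mem_filter, Finset.mem_erase, mem_allPts] at hQ
    refine ⟨hQ.1.2, hQ.1.1, hQ.2, ?_⟩
    rcases h.pair_dichotomy hP hQ.1.2 hQ.1.1.symm with ⟨h4, -⟩ | ⟨h10, -, hl⟩
    · exact absurd ⟨hP, hQ.1.2, hQ.1.1.symm, h4⟩ hQ.2
    · exact ⟨h10, hl⟩
  rw [Finset.card_eq_sum_card_fiberwise (f := fun Q => (blocksAt P).filter (fun B => B ⊆ ptsIn (P ⊔ Q)))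
    (t := (blocksAt P).powersetCard 2) ?_, ← Finset.card_powersetCard 2 (blocksAt P), Nat.mul_comm, ← smul_eq_mul,
    ← Finset.sum_const]
  · refine Finset.sum_congr rfl fun pr hpr => ?_
    obtain ⟨hsub, hc⟩ := Finset.mem_powersetCard.mp hpr
    obtain ⟨B, B', hne, rfl⟩ := Finset.card_eq_two.mp hc
    have hB : B ∈ blocksAt P := hsub (by simp)
    have hB' : B' ∈ blocksAt P := hsub (by simp)
    obtain ⟨H, hH10, hl, hBH, hB'H, hPH, huniq⟩ := h.two_blocks hB hB' hne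
    obtain ⟨C1, hC1, C2, hC2, hCne, hC1H, hC2H, hnb, -, -, N, hN, hNmem⟩ := h.ten_facts hl hPH
    rw [← hN]
    congr 1
    ext Q
    rw [Finset.mem_filter, hNmem]
    constructor
    · rintro ⟨hQN, e⟩
      obtain ⟨h3, hne', hno, h10, -⟩ := hQ Q hQN
      have hB1 : B ⊆ ptsIn (P ⊔ Q) := (Finset.mem_filter.mp (e.symm ▸ (by simp) :
        B ∈ (blocksAt P).filter (fun B => B ⊆ ptsIn (P ⊔ Q)))).2
      have hB2 : B' ⊆ ptsIn (P ⊔ Q) := (Finset.mem_filter.mp (e.symm ▸ (by simp) :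
        B' ∈ (blocksAt P).filter (fun B => B ⊆ ptsIn (P ⊔ Q)))).2
      exact ⟨huniq _ hB1 hB2 h10 ▸ right_mem_blk h3, hne', hno⟩
    · rintro ⟨hQH, hne', hno⟩
      have h3 := (mem_ptsIn.mp hQH).1
      have hQN : Q ∈ NN := by
        simp only [hNN, Finset.mem_filter, Finset.mem_erase, mem_allPts]
        exact ⟨⟨hne', h3⟩, hno⟩
      obtain ⟨-, -, -, h10, hl'⟩ := hQ Q hQN
      refine ⟨hQN, ?_⟩
      have heq : ptsIn (P ⊔ Q) = ptsIn H := Finset.eq_of_subset_of_card_le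
        (ptsIn_mono (sup_le (mem_ptsIn.mp hPH).2 (mem_ptsIn.mp hQH).2)) (by omega)
      simp only [heq]
      have hin : ∀ C ∈ blocksAt P, C ⊆ ptsIn H → C = C1 ∨ C = C2 := by
        intro C hC hCH
        obtain ⟨R, e, rfl⟩ := mem_blocksAt.mp hC
        have hR := right_mem_blk (P := P) e.2.1
        rcases hnb R (hCH hR) e with h1 | h1
        · exact .inl (h.blocks_meet hC hC1 hR h1 e.2.2.1.symm)
        · exact .inr (h.blocks_meet hC hC2 hR h1 e.2.2.1.symm)
      have hpair : ({B, B'} : Finset (Finset (Subgroup G))) = {C1, C2} := by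
        rcases hin B hB hBH with rfl | rfl <;> rcases hin B' hB' hB'H with rfl | rfl
        · exact absurd rfl hne
        · rfl
        · exact Finset.pair_comm _ _
        · exact absurd rfl hne
      rw [hpair]
      ext C
      simp only [Finset.mem_filter, Finset.mem_insert, Finset.mem_singleton]
      exact ⟨fun e => hin C e.1 e.2, by rintro (rfl | rfl); exacts [⟨hC1, hC1H⟩, ⟨hC2, hC2H⟩]⟩
  · intro Q hQN
    obtain ⟨h3, hne', hno, h10, hl⟩ := hQ Q hQN
    obtain ⟨C1, hC1, C2, hC2, hCne, hC1H, hC2H, hnb, -⟩ := h.ten_facts hl (left_mem_blk hP)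
    refine Finset.mem_powersetCard.mpr ⟨Finset.filter_subset _ _, ?_⟩
    dsimp only
    rw [show (blocksAt P).filter (fun B => B ⊆ ptsIn (P ⊔ Q)) = {C1, C2} from ?_, Finset.card_pair hCne]
    ext C
    simp only [Finset.mem_filter, Finset.mem_insert, Finset.mem_singleton]
    refine ⟨fun ⟨hC, hCH⟩ => ?_, by rintro (rfl | rfl); exacts [⟨hC1, hC1H⟩, ⟨hC2, hC2H⟩]⟩
    obtain ⟨R, e, rfl⟩ := mem_blocksAt.mp hC
    have hR := right_mem_blk (P := P) e.2.1
    rcases hnb R (hCH hR) e with h1 | h1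
    · exact .inl (h.blocks_meet hC hC1 hR h1 e.2.2.1.symm)
    · exact .inr (h.blocks_meet hC hC2 hR h1 e.2.2.1.symm)

theorem choose_two_mul (a : ℕ) : 2 * a.choose 2 + a = a * a := by
  induction a with
  | zero => rfl
  | succ n ih => rw [Nat.choose_succ_succ, Nat.choose_one_right]; ring_nf; ring_nf at ih; omega

theorem FpfRep.blocks_const (h : FpfRep ρ) {P Q : Subgroup G} (hP : Nat.card P = 3) (hQ : Nat.card Q = 3) :
    (blocksAt P).card = (blocksAt Q).card := by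
  have e1 := h.card_allPts hP
  have e2 := h.card_allPts hQ
  have f1 := choose_two_mul (blocksAt P).card
  have f2 := choose_two_mul (blocksAt Q).card
  rcases lt_trichotomy (blocksAt P).card (blocksAt Q).card with hlt | he | hlt
  · have := Nat.choose_le_choose 2 hlt.le; omega
  · exact he
  · have := Nat.choose_le_choose 2 hlt.le; omega

theorem conj_cases (h : FpfRep ρ) {P : Subgroup G} {x : G} (hx : orderOf x = 3) (hP : P = Subgroup.zpowers x)
    {B : Finset (Subgroup G)} (hB : B ∈ blocksAt P) {R S : Subgroup G} (hR : R ∈ B) (hS : S ∈ B) (hRP : R ≠ P)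
    (hSP : S ≠ P) (hne : S ≠ R) :
    ∃ g, (g = x ∨ g = x⁻¹) ∧ ∀ u : G, R = Subgroup.zpowers u → S = Subgroup.zpowers (g * u * g⁻¹) := by
  classical
  obtain ⟨h4, hPB, hblk, -⟩ := h.block_facts hB
  have hR3 := ((hblk R hR hRP).1).2.1
  obtain ⟨y, hy, hRy⟩ := exists_zpowers_of_card_three hR3
  have hxy := h.not_commute hx hy (by rw [← hP, ← hRy]; exact hRP.symm)
  have hxi : orderOf x⁻¹ = 3 := by rw [orderOf_inv, hx]
  have hord : ∀ g : G, orderOf (g * y * g⁻¹) = 3 := fun g => by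
    rw [← hy]; exact orderOf_injective (MulAut.conj g).toMonoidHom (MulAut.conj g).injective y
  set A := Subgroup.zpowers (x * y * x⁻¹)
  set C := Subgroup.zpowers (x⁻¹ * y * x⁻¹⁻¹)
  have hxm : x ∈ P ⊔ R := Subgroup.mem_sup_left (hP ▸ Subgroup.mem_zpowers x)
  have hym : y ∈ P ⊔ R := Subgroup.mem_sup_right (hRy ▸ Subgroup.mem_zpowers y)
  have hmem : ∀ g : G, g ∈ P ⊔ R → Subgroup.zpowers (g * y * g⁻¹) ∈ B := fun g hg => by
    rw [← (hblk R hR hRP).2]
    exact mem_ptsIn.mpr ⟨zpowers_mem_threeSubgroups (hord g),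
      Subgroup.zpowers_le.mpr (mul_mem (mul_mem hg hym) (inv_mem hg))⟩
  have hA : A ≠ R := fun e => hxy (commute_of_normalize_three hx hy (hRy ▸ e ▸ Subgroup.mem_zpowers _))
  have hC : C ≠ R := fun e => hxy (by
    exact Commute.inv_left_iff.mp (commute_of_normalize_three hxi hy (hRy ▸ e ▸ Subgroup.mem_zpowers _)))
  have hnP : ∀ g : G, g = x ∨ g = x⁻¹ → Subgroup.zpowers (g * y * g⁻¹) ≠ P := by
    intro g hg e
    refine hxy ?_
    have hgm : g ∈ Subgroup.zpowers x := by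
      rcases hg with rfl | rfl
      exacts [Subgroup.mem_zpowers _, inv_mem (Subgroup.mem_zpowers _)]
    have h1 : g * y * g⁻¹ ∈ Subgroup.zpowers x := hP ▸ e ▸ Subgroup.mem_zpowers _
    have h2 := mul_mem (mul_mem (inv_mem hgm) h1) hgm
    rw [show g⁻¹ * (g * y * g⁻¹) * g = y by group] at h2
    obtain ⟨n, rfl⟩ := h2
    exact (Commute.refl x).zpow_right n
  have hAC : A ≠ C := fun e => hxy (by
    have e1 : x⁻¹ = x * x := by
      rw [inv_eq_of_mul_eq_one_right]; rw [← pow_three_eq_one hx]; simp [pow_succ, mul_assoc]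
    have e2 : x * (x * y * x⁻¹) * x⁻¹ = x⁻¹ * y * x⁻¹⁻¹ := by
      rw [show x * (x * y * x⁻¹) * x⁻¹ = x * x * y * (x⁻¹ * x⁻¹) by group]
      conv_rhs => rw [e1, mul_inv_rev]
    have h1 := commute_of_normalize_three hx (hord x) (by rw [e2]; show _ ∈ A; rw [e]; exact Subgroup.mem_zpowers _)
    have h2 : x * (x * y * x⁻¹) = (x * y * x⁻¹) * x := h1
    rw [inv_mul_cancel_right] at h2
    exact mul_inv_eq_iff_eq_mul.mp (mul_left_cancel h2))
  have hsub : ({P, R, A, C} : Finset (Subgroup G)) ⊆ B := by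
    intro T hT
    simp only [Finset.mem_insert, Finset.mem_singleton] at hT
    rcases hT with rfl | rfl | rfl | rfl
    exacts [hPB, hR, hmem x hxm, hmem x⁻¹ (inv_mem hxm)]
  have hcard : ({P, R, A, C} : Finset (Subgroup G)).card = 4 := by
    rw [Finset.card_insert_of_notMem, Finset.card_insert_of_notMem, Finset.card_pair hAC]
    · simp only [Finset.mem_insert, Finset.mem_singleton, not_or]; exact ⟨hA.symm, hC.symm⟩
    · simp only [Finset.mem_insert, Finset.mem_singleton, not_or]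
      exact ⟨hRP.symm, (hnP x (.inl rfl)).symm, (hnP x⁻¹ (.inr rfl)).symm⟩
  have heq := Finset.eq_of_subset_of_card_le hsub (by omega)
  rw [← heq] at hS
  simp only [Finset.mem_insert, Finset.mem_singleton] at hS
  have hu : ∀ g u : G, R = Subgroup.zpowers u → Subgroup.zpowers (g * y * g⁻¹) = Subgroup.zpowers (g * u * g⁻¹) := by
    intro g u e
    have := congrArg (Subgroup.map (MulAut.conj g).toMonoidHom) (hRy.symm.trans e)
    simpa [MonoidHom.map_zpowers] using this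
  rcases hS with e | e | e | e
  · exact absurd e hSP
  · exact absurd e hne
  · exact ⟨x, .inl rfl, fun u hu' => e.trans (hu x u hu')⟩
  · exact ⟨x⁻¹, .inr rfl, fun u hu' => e.trans (hu x⁻¹ u hu')⟩

/-- Two partners of one point in different blocks are adjacent. -/
theorem FpfRep.partners_edge (h : FpfRep ρ) {P Q R R' : Subgroup G} {B0 B1 B2 : Finset (Subgroup G)}
    (h0 : B0 ∈ blocksAt P) (h1 : B1 ∈ blocksAt P) (h2 : B2 ∈ blocksAt P) (h01 : B0 ≠ B1) (h02 : B0 ≠ B2)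
    (h12 : B1 ≠ B2) (hQ : Q ∈ B0) (hR : R ∈ B1) (hR' : R' ∈ B2) (hQP : Q ≠ P) (hRP : R ≠ P) (hR'P : R' ≠ P)
    (eR : Edge Q R) (eR' : Edge Q R') : Edge R R' := by
  classical
  by_contra hno
  have eQ := ((h.block_facts h0).2.2.1 Q hQ hQP).1
  have e1 := ((h.block_facts h1).2.2.1 R hR hRP).1
  have e2 := ((h.block_facts h2).2.2.1 R' hR' hR'P).1
  obtain ⟨R'', ⟨hR''B, hR''P, eR''⟩, -⟩ := h.partner h1 h2 h12 hR hRP
  have hne : R'' ≠ R' := fun e => hno (e ▸ eR'')
  obtain ⟨x, hx, hPx⟩ := exists_zpowers_of_card_three eQ.1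
  obtain ⟨y, hy, hQy⟩ := exists_zpowers_of_card_three eQ.2.1
  obtain ⟨r, hr, hRr⟩ := exists_zpowers_of_card_three e1.2.1
  obtain ⟨s, hs, hRs⟩ := exists_zpowers_of_card_three e2.2.1
  obtain ⟨g, hg, hconj⟩ := conj_cases h hx hPx h2 hR' hR''B hR'P hR''P hne
  have hgs : orderOf (g * s * g⁻¹) = 3 := by
    rw [← hs]; exact orderOf_injective (MulAut.conj g).toMonoidHom (MulAut.conj g).injective s
  obtain ⟨c, hc⟩ := h.edge_scalar hx hy (hPx ▸ hQy ▸ eQ)
  obtain ⟨a1, ha1⟩ := h.edge_scalar hx hr (hPx ▸ hRr ▸ e1)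
  obtain ⟨a2, ha2⟩ := h.edge_scalar hy hr (hQy ▸ hRr ▸ eR)
  obtain ⟨b1, hb1⟩ := h.edge_scalar hx hs (hPx ▸ hRs ▸ e2)
  obtain ⟨b2, hb2⟩ := h.edge_scalar hy hs (hQy ▸ hRs ▸ eR')
  obtain ⟨e, he⟩ := h.edge_scalar hr hgs (hRr ▸ (hconj s hRs) ▸ eR'')
  have hxy := h.not_commute hx hy (hPx ▸ hQy ▸ eQ.2.2.1)
  obtain ⟨W, hW, hxW, hyW, hrW, hsW⟩ := h.exists_plane_four hx hy hr hs hxy hc ha1 ha2 hb1 hb2 hg he
  set H := Subgroup.closure ({x, y, r, s} : Set G) with hH
  have hd := plane_dichotomy h hW (S := {x, y, r, s})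
    (by rintro t (rfl | rfl | rfl | rfl) <;> exact ⟨by assumption, by assumption⟩) ⟨x, by simp, y, by simp, hxy⟩
  have hle : ∀ t ∈ ({x, y, r, s} : Set G), Subgroup.zpowers t ≤ H := fun t ht =>
    Subgroup.zpowers_le.mpr (Subgroup.subset_closure ht)
  have hPH : P ≤ H := hPx ▸ hle x (by simp)
  have hsub : ∀ (B : Finset (Subgroup G)) (T : Subgroup G), B ∈ blocksAt P → T ∈ B → T ≠ P → T ≤ H →
      B ⊆ ptsIn H := by
    intro B T hB hT hTP hTH
    rw [← ((h.block_facts hB).2.2.1 T hT hTP).2]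
    exact ptsIn_mono (sup_le hPH hTH)
  have s0 := hsub B0 Q h0 hQ hQP (hQy ▸ hle y (by simp))
  have s1 := hsub B1 R h1 hR hRP (hRr ▸ hle r (by simp))
  have s2 := hsub B2 R' h2 hR' hR'P (hRs ▸ hle s (by simp))
  rcases hd with ⟨h4, -⟩ | ⟨-, -, hl⟩
  · exact h01 ((Finset.eq_of_subset_of_card_le s0 (by rw [h4, (h.block_facts h0).1])).trans
      (Finset.eq_of_subset_of_card_le s1 (by rw [h4, (h.block_facts h1).1])).symm)
  · obtain ⟨C1, hC1, C2, hC2, -, -, -, hnb, -⟩ := h.ten_facts hl (mem_ptsIn.mpr ⟨eQ.1, hPH⟩)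
    have key : ∀ (B : Finset (Subgroup G)) (T : Subgroup G), B ∈ blocksAt P → T ∈ B → T ≠ P → B ⊆ ptsIn H →
        B = C1 ∨ B = C2 := by
      intro B T hB hT hTP hBH
      rcases hnb T (hBH hT) ((h.block_facts hB).2.2.1 T hT hTP).1 with h1' | h1'
      · exact .inl (h.blocks_meet hB hC1 hT h1' hTP)
      · exact .inr (h.blocks_meet hB hC2 hT h1' hTP)
    rcases key B0 Q h0 hQ hQP s0 with rfl | rfl <;> rcases key B1 R h1 hR hRP s1 with rfl | rfl <;>
      rcases key B2 R' h2 hR' hR'P s2 with rfl | rfl <;> simp at h01 h02 h12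

/-- A line: `A + 1` pairwise adjacent points, no three in a block. -/
def IsLine (A : ℕ) (L : Finset (Subgroup G)) : Prop :=
  L.card = A + 1 ∧ (∀ P ∈ L, ∀ Q ∈ L, P ≠ Q → Edge P Q) ∧
    ∀ P ∈ L, ∀ Q ∈ L, ∀ R ∈ L, P ≠ Q → R ≠ P → R ≠ Q → R ∉ ptsIn (P ⊔ Q)

theorem FpfRep.lines_through (h : FpfRep ρ) {P : Subgroup G} {A : ℕ} (hA : (blocksAt P).card = A) (hA2 : 2 ≤ A) :
    {L : Finset (Subgroup G) | IsLine A L ∧ P ∈ L}.ncard = 3 := by
  classical
  obtain ⟨B0, hB0⟩ := Finset.card_pos.mp (show 0 < (blocksAt P).card by omega)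
  obtain ⟨h4, hPB, hblk0, -⟩ := h.block_facts hB0
  have meet : ∀ L, IsLine A L ∧ P ∈ L → ∀ B ∈ blocksAt P, ∃! Q, Q ∈ L ∧ Q ≠ P ∧ Q ∈ B := by
    rintro L ⟨⟨hc, hedge, hno⟩, hPL⟩ B hB
    have hinj : Set.InjOn (fun Q => ptsIn (P ⊔ Q)) (L.erase P : Finset (Subgroup G)) := by
      intro Q hQ R hR e
      simp only [Finset.coe_erase, Set.mem_diff, Finset.mem_coe, Set.mem_singleton_iff] at hQ hR
      by_contra hne
      have e' : ptsIn (P ⊔ Q) = ptsIn (P ⊔ R) := e
      exact hno P hPL Q hQ.1 R hR.1 (Ne.symm hQ.2) hR.2 (Ne.symm hne)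
        (e' ▸ right_mem_blk (hedge P hPL R hR.1 (Ne.symm hR.2)).2.1)
    have himg : (L.erase P).image (fun Q => ptsIn (P ⊔ Q)) = blocksAt P := by
      refine Finset.eq_of_subset_of_card_le ?_ ?_
      · intro C hC
        obtain ⟨Q, hQ, rfl⟩ := Finset.mem_image.mp hC
        rw [Finset.mem_erase] at hQ
        exact mem_blocksAt.mpr ⟨Q, hedge P hPL Q hQ.2 hQ.1.symm, rfl⟩
      · rw [Finset.card_image_of_injOn hinj, Finset.card_erase_of_mem hPL]; omega
    rw [← himg, Finset.mem_image] at hB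
    obtain ⟨Q, hQ, rfl⟩ := hB
    have hQ' := Finset.mem_erase.mp hQ
    refine ⟨Q, ⟨hQ'.2, hQ'.1, right_mem_blk (hedge P hPL Q hQ'.2 hQ'.1.symm).2.1⟩, fun R hR => ?_⟩
    by_contra hne
    exact hno P hPL Q hQ'.2 R hR.1 hQ'.1.symm hR.2.1 hne hR.2.2
  have hchoice : ∀ L, ∃ Q, IsLine A L ∧ P ∈ L → Q ∈ L ∧ Q ≠ P ∧ Q ∈ B0 := fun L => by
    by_cases hL : IsLine A L ∧ P ∈ L
    · obtain ⟨Q, hQ, -⟩ := meet L hL B0 hB0; exact ⟨Q, fun _ => hQ⟩
    · exact ⟨P, fun e => absurd e hL⟩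
  choose φ hφ using hchoice
  have hbij : Set.BijOn φ {L | IsLine A L ∧ P ∈ L} (B0.erase P : Finset (Subgroup G)) := by
    refine ⟨fun L hL => by simpa [and_comm] using (hφ L hL).2, fun L hL L' hL' e => ?_, fun Q hQ => ?_⟩
    · refine Finset.eq_of_subset_of_card_le (fun R hR => ?_) (by rw [hL.1.1, hL'.1.1])
      by_cases hRP : R = P
      · exact hRP ▸ hL'.2
      by_cases hRQ : R = φ L
      · rw [hRQ, e]; exact (hφ L' hL').1
      obtain ⟨hQL, hQP, hQB⟩ := hφ L hL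
      have eR := hL.1.2.1 P hL.2 R hR (Ne.symm hRP)
      have hB : ptsIn (P ⊔ R) ∈ blocksAt P := mem_blocksAt.mpr ⟨R, eR, rfl⟩
      have hne : B0 ≠ ptsIn (P ⊔ R) := fun e' =>
        hL.1.2.2 P hL.2 R hR (φ L) hQL (Ne.symm hRP) hQP (Ne.symm hRQ) (e' ▸ hQB)
      obtain ⟨R', ⟨hR'L, hR'P, hR'B⟩, -⟩ := meet L' hL' _ hB
      obtain ⟨hQL', -, -⟩ := hφ L' hL'
      have hR'Q : φ L ≠ R' := fun e' => by
        have := h.blocks_meet hB0 hB hQB (e'.symm ▸ hR'B) hQP
        exact hne this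
      have h1 := (h.partner hB0 hB hne hQB hQP).unique
        ⟨right_mem_blk eR.2.1, hRP, hL.1.2.1 _ hQL R hR (Ne.symm hRQ)⟩
        ⟨hR'B, hR'P, hL'.1.2.1 _ (e ▸ hQL') R' hR'L hR'Q⟩
      exact h1 ▸ hR'L
    · simp only [Finset.coe_erase, Set.mem_diff, Finset.mem_coe, Set.mem_singleton_iff] at hQ
      obtain ⟨hQB, hQP⟩ := hQ
      let f : Finset (Subgroup G) → Subgroup G := fun B =>
        if hB : B ∈ blocksAt P ∧ B ≠ B0 then (h.partner hB0 hB.1 (Ne.symm hB.2) hQB hQP).exists.choose else Q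
      have hf : ∀ B ∈ blocksAt P, f B ∈ B ∧ f B ≠ P ∧ (B ≠ B0 → Edge Q (f B)) ∧ (B = B0 → f B = Q) := by
        intro B hB
        by_cases hne : B = B0
        · subst hne
          have : f B = Q := dif_neg (by simp)
          rw [this]; exact ⟨hQB, hQP, fun e => absurd rfl e, fun _ => rfl⟩
        · have hcond : B ∈ blocksAt P ∧ B ≠ B0 := ⟨hB, hne⟩
          have e' : f B = (h.partner hB0 hcond.1 (Ne.symm hcond.2) hQB hQP).exists.choose := dif_pos hcond
          have := (h.partner hB0 hcond.1 (Ne.symm hcond.2) hQB hQP).exists.choose_spec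
          rw [← e'] at this
          exact ⟨this.1, this.2.1, fun _ => this.2.2, fun e => absurd e hne⟩
      set L := insert P ((blocksAt P).image f) with hL
      have hfblk : ∀ B ∈ blocksAt P, Edge P (f B) ∧ ptsIn (P ⊔ f B) = B := fun B hB =>
        (h.block_facts hB).2.2.1 _ (hf B hB).1 (hf B hB).2.1
      have hPn : P ∉ (blocksAt P).image f := by
        rw [Finset.mem_image]; rintro ⟨B, hB, e⟩; exact (hf B hB).2.1 e
      have hinjf : Set.InjOn f (blocksAt P : Finset (Finset (Subgroup G))) := fun B hB B' hB' e => by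
        rw [← (hfblk B hB).2, e, (hfblk B' hB').2]
      have hmem : ∀ T, T ∈ L → T = P ∨ ∃ B ∈ blocksAt P, f B = T := fun T hT => by
        simpa [hL] using hT
      have hedge : ∀ T ∈ L, ∀ U ∈ L, T ≠ U → Edge T U := by
        intro T hT U hU hne
        rcases hmem T hT with rfl | ⟨B, hB, rfl⟩ <;> rcases hmem U hU with rfl | ⟨B', hB', rfl⟩
        · exact absurd rfl hne
        · exact (hfblk B' hB').1
        · exact (hfblk B hB).1.symm
        · have hBB : B ≠ B' := fun e => hne (e ▸ rfl)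
          by_cases e0 : B = B0
          · rw [(hf B hB).2.2.2 e0]; exact (hf B' hB').2.2.1 (fun e => hBB (e0.trans e.symm))
          by_cases e0' : B' = B0
          · rw [(hf B' hB').2.2.2 e0']; exact ((hf B hB).2.2.1 e0).symm
          exact h.partners_edge hB0 hB hB' (Ne.symm e0) (Ne.symm e0') hBB hQB (hf B hB).1 (hf B' hB').1 hQP
            (hf B hB).2.1 (hf B' hB').2.1 ((hf B hB).2.2.1 e0) ((hf B' hB').2.2.1 e0')
      have hthree : ∀ T ∈ L, T ≠ P → ∀ U ∈ L, U ≠ P → T ≠ U → U ∉ ptsIn (P ⊔ T) := by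
        intro T hT hTP U hU hUP hne hmemU
        obtain ⟨B, hB, rfl⟩ := (hmem T hT).resolve_left hTP
        obtain ⟨B', hB', rfl⟩ := (hmem U hU).resolve_left hUP
        rw [(hfblk B hB).2] at hmemU
        exact hne (by rw [h.blocks_meet hB hB' hmemU (hf B' hB').1 hUP])
      have hline : IsLine A L := by
        refine ⟨by rw [hL, Finset.card_insert_of_notMem hPn, Finset.card_image_of_injOn hinjf, hA], hedge, ?_⟩
        intro T hT U hU R hR hTU hRT hRU hmemR
        have hPL : P ∈ L := Finset.mem_insert_self _ _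
        by_cases hTP : T = P
        · subst hTP; exact hthree U hU (Ne.symm hTU) R hR hRT (Ne.symm hRU) hmemR
        by_cases hUP : U = P
        · subst hUP; rw [sup_comm] at hmemR; exact hthree T hT hTP R hR hRU (Ne.symm hRT) hmemR
        have eTU := hedge T hT U hU hTU
        by_cases hRP : R = P
        · subst hRP
          obtain ⟨he, heq⟩ := h.blk_eq eTU hmemR (left_mem_blk eTU.1) hRT
          exact hthree T hT hTP U hU hUP hTU (heq ▸ right_mem_blk eTU.2.1)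
        -- `R` lies in the ten subgroups spanned by the two blocks at `P`
        obtain ⟨B, hB, rfl⟩ := (hmem T hT).resolve_left hTP
        obtain ⟨B', hB', rfl⟩ := (hmem U hU).resolve_left hUP
        obtain ⟨B'', hB'', rfl⟩ := (hmem R hR).resolve_left hRP
        have hBB : B ≠ B' := fun e => hTU (e ▸ rfl)
        obtain ⟨H, -, hl, hBH, hB'H, hPH, -⟩ := h.two_blocks hB hB' hBB
        obtain ⟨C1, hC1, C2, hC2, -, -, -, hnb, -⟩ := h.ten_facts hl hPH
        have hin : ∀ D ∈ blocksAt P, f D ∈ ptsIn H → D = C1 ∨ D = C2 := by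
          intro D hD hDH
          rcases hnb _ hDH (hfblk D hD).1 with h1 | h1
          · exact .inl (h.blocks_meet hD hC1 (hf D hD).1 h1 (hf D hD).2.1)
          · exact .inr (h.blocks_meet hD hC2 (hf D hD).1 h1 (hf D hD).2.1)
        have h3 := hin B'' hB'' (ptsIn_mono (sup_le (mem_ptsIn.mp (hBH (hf B hB).1)).2
          (mem_ptsIn.mp (hB'H (hf B' hB').1)).2) hmemR)
        rcases hin B hB (hBH (hf B hB).1) with rfl | rfl <;>
          rcases hin B' hB' (hB'H (hf B' hB').1) with rfl | rfl <;>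
          rcases h3 with rfl | rfl <;> simp at hTU hRT hRU
      have hLmem : IsLine A L ∧ P ∈ L := ⟨hline, Finset.mem_insert_self _ _⟩
      refine ⟨L, hLmem, ?_⟩
      have hQL : Q ∈ L := Finset.mem_insert_of_mem (Finset.mem_image.mpr ⟨B0, hB0, (hf B0 hB0).2.2.2 rfl⟩)
      exact (meet L hLmem B0 hB0).unique (hφ L hLmem) ⟨hQL, hQP, hQB⟩
  rw [← hbij.injOn.ncard_image, hbij.image_eq, Set.ncard_coe_finset, Finset.card_erase_of_mem hPB, h4]

theorem endgame {v a : ℕ} (hv : v = 1 + 3 * a + 3 * a.choose 2) (hl : 2 ≤ a → (a + 1) ∣ 3 * v)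
    (hb : 4 ∣ v * a) : (a = 0 ∧ v = 1) ∨ (a = 1 ∧ v = 4) ∨ (a = 2 ∧ v = 10) := by
  have hc := choose_two_mul a
  by_cases ha : 2 ≤ a
  · have h6 : (a + 1) ∣ 6 := by
      have e : 2 * (3 * v) = 6 + 9 * a * (a + 1) := by rw [hv]; linear_combination 9 * hc
      exact (Nat.dvd_add_left (Dvd.intro_left _ rfl)).mp (e ▸ Dvd.dvd.mul_left (hl ha) 2)
    have := Nat.le_of_dvd (by norm_num) h6
    have : a ≤ 5 := by omega
    interval_cases a <;> simp_all +decide
  · interval_cases a <;> simp_all +decide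

/-- The only possibilities for the number of subgroups of order three. -/
theorem FpfRep.count_cases (h : FpfRep ρ) {P : Subgroup G} (hP : Nat.card P = 3) :
    ((blocksAt P).card = 0 ∧ (allPts G).card = 1) ∨ ((blocksAt P).card = 1 ∧ (allPts G).card = 4) ∨
      ((blocksAt P).card = 2 ∧ (allPts G).card = 10) := by
  classical
  set A := (blocksAt P).card with hA
  have hconst : ∀ Q ∈ allPts G, (blocksAt Q).card = A := fun Q hQ => h.blocks_const (mem_allPts.mp hQ) hP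
  refine endgame (h.card_allPts hP) (fun hA2 => ?_) ?_
  · set LS := (allPts G).powerset.filter (fun L => IsLine A L)
    have hdc := Finset.sum_card_bipartiteAbove_eq_sum_card_bipartiteBelow (s := allPts G) (t := LS)
      (fun (Q : Subgroup G) (L : Finset (Subgroup G)) => Q ∈ L)
    have h1 : ∀ Q ∈ allPts G, (LS.bipartiteAbove (fun (Q : Subgroup G) L => Q ∈ L) Q).card = 3 := by
      intro Q hQ
      rw [← h.lines_through (hconst Q hQ) hA2, ← Set.ncard_coe_finset]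
      congr 1
      ext L
      simp only [Finset.coe_filter, Finset.bipartiteAbove, LS, Finset.mem_filter, Finset.mem_powerset, Set.mem_setOf_eq]
      refine ⟨fun e => ⟨e.1.2, e.2⟩, fun e => ⟨⟨fun R hR => mem_allPts.mpr ?_, e.1⟩, e.2⟩⟩
      obtain ⟨T, hT, hTR⟩ := Finset.exists_mem_ne (show 1 < L.card by rw [e.1.1]; omega) R
      exact (e.1.2.1 R hR T hT hTR.symm).1
    have h2 : ∀ L ∈ LS, ((allPts G).bipartiteBelow (fun (Q : Subgroup G) L => Q ∈ L) L).card = A + 1 := by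
      intro L hL
      simp only [LS, Finset.mem_filter, Finset.mem_powerset] at hL
      rw [← hL.2.1]
      congr 1
      ext Q
      simp only [Finset.mem_bipartiteBelow]
      exact ⟨fun e => e.2, fun e => ⟨hL.1 e, e⟩⟩
    rw [Finset.sum_congr rfl h1, Finset.sum_congr rfl h2, Finset.sum_const, Finset.sum_const, smul_eq_mul,
      smul_eq_mul] at hdc
    exact ⟨LS.card, by rw [Nat.mul_comm 3, hdc, Nat.mul_comm]⟩
  · set BS := (allPts G).biUnion blocksAt
    have hdc := Finset.sum_card_bipartiteAbove_eq_sum_card_bipartiteBelow (s := allPts G) (t := BS)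
      (fun (Q : Subgroup G) (B : Finset (Subgroup G)) => Q ∈ B)
    have h1 : ∀ Q ∈ allPts G, (BS.bipartiteAbove (fun (Q : Subgroup G) B => Q ∈ B) Q).card = A := by
      intro Q hQ
      rw [← hconst Q hQ]
      congr 1
      ext B
      simp only [Finset.mem_bipartiteAbove, BS, Finset.mem_biUnion]
      constructor
      · rintro ⟨⟨R, -, hB⟩, hQB⟩; exact h.block_at_mem hB hQB
      · exact fun hB => ⟨⟨Q, hQ, hB⟩, (h.block_facts hB).2.1⟩
    have h2 : ∀ B ∈ BS, ((allPts G).bipartiteBelow (fun (Q : Subgroup G) B => Q ∈ B) B).card = 4 := by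
      intro B hB
      simp only [BS, Finset.mem_biUnion] at hB
      obtain ⟨R, -, hB⟩ := hB
      obtain ⟨T, e, rfl⟩ := mem_blocksAt.mp hB
      rw [← e.2.2.2]
      congr 1
      ext Q
      simp only [Finset.mem_bipartiteBelow, mem_allPts]
      exact ⟨fun e' => e'.2, fun e' => ⟨(mem_ptsIn.mp e').1, e'⟩⟩
    rw [Finset.sum_congr rfl h1, Finset.sum_congr rfl h2, Finset.sum_const, Finset.sum_const, smul_eq_mul,
      smul_eq_mul] at hdc
    exact ⟨BS.card, by rw [hdc, Nat.mul_comm]⟩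

/-- The subgroup generated by the elements of order three. -/
def threeCore (G : Type*) [Group G] : Subgroup G := Subgroup.closure {x : G | orderOf x = 3}

theorem threeCore_le {H : Subgroup G} (h : allPts G ⊆ ptsIn H) : threeCore G ≤ H :=
  (Subgroup.closure_le _).mpr fun x hx => by
    have hx' : orderOf x = 3 := hx
    exact (mem_ptsIn.mp (h (mem_allPts.mpr (zpowers_mem_threeSubgroups hx')))).2 (Subgroup.mem_zpowers x)

theorem le_threeCore {P : Subgroup G} (hP : Nat.card P = 3) : P ≤ threeCore G := by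
  obtain ⟨x, hx, rfl⟩ := exists_zpowers_of_card_three hP
  exact Subgroup.zpowers_le.mpr (Subgroup.subset_closure (show orderOf x = 3 from hx))

/-- Zassenhaus: the elements of order three generate a group of order at most 120. -/
theorem FpfRep.threeCore_cases (h : FpfRep ρ) {P : Subgroup G} (hP : Nat.card P = 3) :
    ((allPts G).card = 1 ∧ threeCore G = P) ∨ ((allPts G).card = 4 ∧ Nat.card (threeCore G) = 24) ∨
      ((allPts G).card = 10 ∧ Nat.card (threeCore G) = 120) := by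
  classical
  rcases h.count_cases hP with ⟨-, hv⟩ | ⟨ha, hv⟩ | ⟨ha, hv⟩
  · refine .inl ⟨hv, le_antisymm (threeCore_le fun Q hQ => ?_) (le_threeCore hP)⟩
    obtain ⟨R, hR⟩ := Finset.card_eq_one.mp hv
    have e1 : P = R := by simpa [hR] using mem_allPts.mpr hP
    have e2 : Q = R := by simpa [hR] using hQ
    rw [e2, ← e1]; exact mem_ptsIn.mpr ⟨hP, le_rfl⟩
  · obtain ⟨B, hB⟩ := Finset.card_eq_one.mp ha
    obtain ⟨Q, e, -⟩ := mem_blocksAt.mp (show B ∈ blocksAt P by rw [hB]; simp)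
    have hall : allPts G ⊆ ptsIn (P ⊔ Q) := by
      rw [Finset.eq_of_subset_of_card_le (fun R hR => mem_allPts.mpr (mem_ptsIn.mp hR).1 : ptsIn (P ⊔ Q) ⊆ allPts G)
        (by rw [hv, e.2.2.2])]
    refine .inr (.inl ⟨hv, ?_⟩)
    rw [le_antisymm (threeCore_le hall) (sup_le (le_threeCore e.1) (le_threeCore e.2.1))]
    rcases h.pair_dichotomy e.1 e.2.1 e.2.2.1 with ⟨-, hc⟩ | ⟨h10, -⟩
    · exact hc
    · have := e.2.2.2; omega
  · obtain ⟨B, B', hne, hBB⟩ := Finset.card_eq_two.mp ha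
    have hB : B ∈ blocksAt P := by rw [hBB]; simp
    have hB' : B' ∈ blocksAt P := by rw [hBB]; simp
    obtain ⟨s, es, rfl⟩ := mem_blocksAt.mp hB
    obtain ⟨r, er, rfl⟩ := mem_blocksAt.mp hB'
    have hr : r ∉ ptsIn (P ⊔ s) := fun hr =>
      hne (h.blocks_meet hB hB' hr (right_mem_blk er.2.1) er.2.2.1.symm)
    obtain ⟨h10, h120, -⟩ := h.triple_ten es er hr
    have hall : allPts G ⊆ ptsIn (P ⊔ s ⊔ r) := by
      rw [Finset.eq_of_subset_of_card_le
        (fun R hR => mem_allPts.mpr (mem_ptsIn.mp hR).1 : ptsIn (P ⊔ s ⊔ r) ⊆ allPts G) (by rw [hv, h10])]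
    refine .inr (.inr ⟨hv, ?_⟩)
    rwa [le_antisymm (threeCore_le hall)
      (sup_le (sup_le (le_threeCore es.1) (le_threeCore es.2.1)) (le_threeCore er.2.1))]

/-- With ten subgroups of order three, the generated subgroup covers the alternating group of degree five. -/
theorem FpfRep.threeCore_alternating (h : FpfRep ρ) (h10 : (allPts G).card = 10) :
    ∃ f : threeCore G →* alternatingGroup (Fin 5), Function.Surjective f ∧ Nat.card f.ker = 2 := by
  classical
  obtain ⟨P, hP⟩ := Finset.card_pos.mp (show 0 < (allPts G).card by omega)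
  rw [mem_allPts] at hP
  obtain ⟨ha, -⟩ : (blocksAt P).card = 2 ∧ True := by
    rcases h.count_cases hP with ⟨_, e⟩ | ⟨_, e⟩ | ⟨e, _⟩ <;> first | exact ⟨e, trivial⟩ | omega
  obtain ⟨B, B', hne, hBB⟩ := Finset.card_eq_two.mp ha
  have hB : B ∈ blocksAt P := by rw [hBB]; simp
  have hB' : B' ∈ blocksAt P := by rw [hBB]; simp
  obtain ⟨s, es, rfl⟩ := mem_blocksAt.mp hB
  obtain ⟨r, er, rfl⟩ := mem_blocksAt.mp hB'
  obtain ⟨x, hx, rfl⟩ := exists_zpowers_of_card_three es.1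
  obtain ⟨y, hy, rfl⟩ := exists_zpowers_of_card_three es.2.1
  obtain ⟨z, hz, rfl⟩ := exists_zpowers_of_card_three er.2.1
  obtain ⟨c, hc⟩ := h.edge_scalar hx hy es
  obtain ⟨c1, hc1⟩ := h.edge_scalar hx hz er
  have hxy := h.not_commute hx hy es.2.2.1
  obtain ⟨W, hW, hxW, hyW, hzW⟩ := h.exists_plane_three hx hy hz hxy hc hc1
  have hr : Subgroup.zpowers z ∉ ptsIn (Subgroup.zpowers x ⊔ Subgroup.zpowers y) := fun hr =>
    hne (h.blocks_meet hB hB' hr (right_mem_blk er.2.1) er.2.2.1.symm)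
  obtain ⟨h10', h120, -⟩ := h.triple_ten es er hr
  have e : Subgroup.closure ({x, y, z} : Set G) = Subgroup.zpowers x ⊔ Subgroup.zpowers y ⊔ Subgroup.zpowers z := by
    rw [Set.insert_eq, Subgroup.closure_union, closure_pair_eq, ← Subgroup.zpowers_eq_closure, sup_assoc]
  have hall : allPts G ⊆ ptsIn (Subgroup.zpowers x ⊔ Subgroup.zpowers y ⊔ Subgroup.zpowers z) := by
    rw [Finset.eq_of_subset_of_card_le (fun R hR => mem_allPts.mpr (mem_ptsIn.mp hR).1 :
      ptsIn (Subgroup.zpowers x ⊔ Subgroup.zpowers y ⊔ Subgroup.zpowers z) ⊆ allPts G) (by omega)]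
  have heq : threeCore G = Subgroup.closure ({x, y, z} : Set G) := by
    rw [e]
    exact le_antisymm (threeCore_le hall)
      (sup_le (sup_le (le_threeCore es.1) (le_threeCore es.2.1)) (le_threeCore er.2.1))
  obtain ⟨ρ', hnt, hp⟩ := exists_planeGroup h hW (S := {x, y, z})
    (by rintro s (rfl | rfl | rfl) <;> exact ⟨by assumption, by assumption⟩) ⟨x, by simp, y, by simp, hxy⟩
  obtain ⟨f, hf, hker⟩ := hp.exists_alternating_five (by rw [e]; exact h120)
  refine ⟨f.comp (MulEquiv.subgroupCongr heq).toMonoidHom, hf.comp (MulEquiv.subgroupCongr heq).surjective, ?_⟩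
  rw [Nat.card_congr (((MulEquiv.subgroupCongr heq).toEquiv.subtypeEquiv
    (p := fun t => t ∈ (f.comp (MulEquiv.subgroupCongr heq).toMonoidHom).ker) (q := fun t => t ∈ f.ker)
    fun t => Iff.rfl)), hker]
  exact hp.structure_lines.1

end Cfsg.Agent.Grp.Zas
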