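import Mathlib
import Cfsg.Agent.Lib.Grp.Zassenhaus.Count
import Cfsg.Agent.Lib.Invol.RankOne
import Cfsg.Agent.Lib.Invol.OneInvol
import Cfsg.Agent.Lib.Fus.DihedralAut
import Cfsg.Agent.Lib.Transfer.Frobenius

/-!
# Sylow subgroups and solvability of fixed-point-free groups
-/

set_option autoImplicit false

namespace Cfsg.Agent.Grp.Zas

open Module

section Weak

variable {G k V : Type*} [Group G] [Finite G] [Field k] [IsAlgClosed k] [AddCommGroup V] [Module k V]
  [FiniteDimensional k V] [Nontrivial V] (ρ : G →* End k V)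

/-- In a fixed-point-free group commuting elements of the same prime order generate the same subgroup. -/
theorem mem_zpowers_of_commute (hfpf : ∀ g : G, g ≠ 1 → ∀ v : V, ρ g v = v → v = 0) {p : ℕ} [hp : Fact p.Prime]
    {z y : G} (hz : orderOf z = p) (hy : y ^ p = 1) (hc : Commute z y) : y ∈ Subgroup.zpowers z := by
  obtain ⟨v, hv, hev⟩ := exists_joint_eigen' [ρ z, ρ y] (by simp [hc.map ρ])
  obtain ⟨a, ha⟩ := hev _ (List.mem_cons_self ..)
  obtain ⟨b, hb⟩ := hev (ρ y) (by simp)
  have hpow : ∀ (g : G) (c : k), ρ g v = c • v → ∀ n : ℕ, ρ (g ^ n) v = c ^ n • v := by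
    intro g c hg n
    induction n with
    | zero => simp
    | succ n ih => rw [pow_succ', map_mul, End.mul_apply, ih, map_smul, hg, smul_smul, ← pow_succ]
  have hone : ∀ (g : G) (c : k), ρ g v = c • v → g ^ p = 1 → c ^ p = 1 := by
    intro g c hg hgp
    have := hpow g c hg p
    rw [hgp, map_one, End.one_apply] at this
    exact smul_left_injective k hv (by simpa using this.symm)
  have hz1 : z ≠ 1 := fun e => hp.out.ne_one (by rw [← hz, e, orderOf_one])
  have ha1 : a ≠ 1 := fun e => hv (hfpf z hz1 v (by rw [ha, e, one_smul]))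
  have hprim : IsPrimitiveRoot a p :=
    IsPrimitiveRoot.iff_orderOf.mpr (orderOf_eq_prime (hone z a ha (hz ▸ pow_orderOf_eq_one z)) ha1)
  obtain ⟨i, -, hi⟩ := hprim.eq_pow_of_pow_eq_one (hone y b hb hy)
  by_contra hy'
  refine hv (hfpf ((z ^ i)⁻¹ * y) (fun e => hy' ⟨i, by simpa using (inv_mul_eq_one.mp e)⟩) v ?_)
  rw [map_mul, End.mul_apply, hb, ← hi, ← hpow z a ha, ← End.mul_apply, ← map_mul, inv_mul_cancel, map_one]
  rfl

/-- Odd Sylow subgroups of fixed-point-free groups are cyclic. -/
theorem sylow_cyclic_of_fpf (hfpf : ∀ g : G, g ≠ 1 → ∀ v : V, ρ g v = v → v = 0) {p : ℕ} [hp : Fact p.Prime]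
    (hp2 : p ≠ 2) (P : Sylow p G) : IsCyclic (P : Subgroup G) := by
  rcases subsingleton_or_nontrivial (P : Subgroup G) with hs | hs
  · infer_instance
  have := P.isPGroup'.center_nontrivial
  have hcp : IsPGroup p (Subgroup.center (P : Subgroup G)) := P.isPGroup'.to_subgroup _
  obtain ⟨n, hn⟩ := IsPGroup.iff_card.mp hcp
  have hn0 : n ≠ 0 := fun e => by
    rw [e, pow_zero] at hn
    have := Finite.one_lt_card (α := Subgroup.center (P : Subgroup G))
    omega
  obtain ⟨z, hz⟩ := exists_prime_orderOf_dvd_card' (G := Subgroup.center (P : Subgroup G)) p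
    (by rw [hn]; exact dvd_pow_self p hn0)
  rw [← Subgroup.orderOf_coe] at hz
  refine Invol.isCyclic_of_pow_eq_one_mem P.isPGroup' hp2 z.2 (orderOf_dvd_iff_pow_eq_one.mp hz.dvd) fun y hy => ?_
  have h1 := mem_zpowers_of_commute ρ hfpf (z := ((z : (P : Subgroup G)) : G)) (y := (y : G))
    (by rw [Subgroup.orderOf_coe, hz]) (by rw [← Subgroup.coe_pow, hy, Subgroup.coe_one])
    (congrArg Subtype.val (Subgroup.mem_center_iff.mp z.2 y).symm)
  obtain ⟨i, hi⟩ := h1
  exact ⟨i, Subtype.ext (by simpa using hi)⟩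

end Weak

theorem isSolvable_of_isZGroup {G : Type*} [Group G] [Finite G] [IsZGroup G] : Group.IsSolvable G := by
  have := IsZGroup.isCyclic_commutator G
  have h1 : Group.IsSolvable (commutator G) := by
    letI := IsCyclic.commGroup (α := commutator G)
    infer_instance
  have h2 : Group.IsSolvable (G ⧸ commutator G) := inferInstanceAs (Group.IsSolvable (Abelianization G))
  exact (Group.isSolvable_iff_subgroup_quotient (commutator G)).mpr ⟨h1, h2⟩

theorem isSolvable_of_odd {G k V : Type*} [Group G] [Finite G] [Field k] [IsAlgClosed k] [AddCommGroup V]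
    [Module k V] [FiniteDimensional k V] [Nontrivial V] (ρ : G →* End k V)
    (hfpf : ∀ g : G, g ≠ 1 → ∀ v : V, ρ g v = v → v = 0) (hodd : Odd (Nat.card G)) : Group.IsSolvable G := by
  have : IsZGroup G := ⟨fun p hp P => by
    haveI := Fact.mk hp
    by_cases h2 : p = 2
    · subst h2
      have hcard : Nat.card (P : Subgroup G) = 1 := by
        rw [P.card_eq_multiplicity, Nat.factorization_eq_zero_of_not_dvd (fun hd => by
          rw [Nat.odd_iff] at hodd; omega), pow_zero]
      have : Subsingleton (P : Subgroup G) := (Nat.card_eq_one_iff_unique.mp hcard).1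
      infer_instance
    · exact sylow_cyclic_of_fpf ρ hfpf h2 P⟩
  exact isSolvable_of_isZGroup

variable {G k V : Type*} [Group G] [Finite G] [Field k] [IsAlgClosed k] [AddCommGroup V] [Module k V]
  [FiniteDimensional k V] [Nontrivial V] {ρ : G →* End k V}

theorem FpfRep.restrict (h : FpfRep ρ) (H : Subgroup G) : FpfRep (ρ.comp H.subtype) :=
  ⟨fun g hg v hv => h.fpf g (fun e => hg (Subtype.ext e)) v hv, fun e => by
    obtain ⟨t, ht⟩ := Subgroup.card_subgroup_dvd_card H
    exact h.card_ne (by rw [ht, Nat.cast_mul, e, zero_mul]), h.two⟩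

/-- An odd automorphism of a 2-group with one involution has order divisible by three or is trivial. -/
theorem three_dvd_of_odd_aut {Q : Type*} [Group Q] [Finite Q] (hQ : IsPGroup 2 Q)
    (h1 : ∀ u v : Q, orderOf u = 2 → orderOf v = 2 → u = v) (γ : MulAut Q) (hodd : Odd (orderOf γ)) :
    γ = 1 ∨ 3 ∣ orderOf γ := by
  have : Fact (Nat.Prime 2) := ⟨Nat.prime_two⟩
  have two_group : IsPGroup 2 (MulAut Q) → γ = 1 := by
    intro h
    obtain ⟨n, hn⟩ := IsPGroup.iff_orderOf.mp h γ
    rw [hn] at hodd
    rcases n with _ | n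
    · rw [pow_zero, orderOf_eq_one_iff] at hn; exact hn
    · rw [Nat.odd_iff, pow_succ] at hodd; omega
  rcases Cfsg.Agent.OneInvol.cyclic_or_quatShape hQ h1 with hc | ⟨a, ha4, hidx, hinv⟩
  · refine .inl (two_group ?_)
    obtain ⟨n, hn⟩ := IsPGroup.iff_card.mp hQ
    rcases n with _ | n
    · exact IsPGroup.of_card (n := 0) (by rw [IsCyclic.card_mulAut, hn]; rfl)
    · exact IsPGroup.of_card (n := n) (by
        rw [IsCyclic.card_mulAut, hn, Nat.totient_prime_pow_succ Nat.prime_two]; simp)
  obtain ⟨n, hn⟩ := IsPGroup.iff_card.mp hQ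
  have hnA : orderOf a * 2 = 2 ^ n := by
    rw [← hn, ← Nat.card_zpowers, ← hidx, Subgroup.card_mul_index]
  obtain ⟨kk, hkk⟩ : ∃ kk, orderOf a = 2 ^ kk := by
    obtain ⟨m, hm⟩ := IsPGroup.iff_orderOf.mp hQ a; exact ⟨m, hm⟩
  by_cases h8 : 8 ∣ orderOf a
  · refine .inl (two_group ?_)
    obtain ⟨x, hx⟩ : ∃ x, x ∉ Subgroup.zpowers a := by
      by_contra hc
      push Not at hc
      have : Subgroup.zpowers a = ⊤ := eq_top_iff.mpr fun g _ => hc g
      rw [this, Subgroup.index_top] at hidx
      omega
    refine Fus.isPGroup_mulAut_of_cyclic_index_two hkk (fun g hg => ?_) hx fun g => ?_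
    · by_contra hgA
      have hgg : g * g ∈ Subgroup.zpowers a := by
        have := Subgroup.sq_mem_of_index_two hidx g; rwa [pow_two] at this
      obtain ⟨i, hi⟩ := hgg
      simp only at hi
      have hconj : g * (g * g) * g⁻¹ = (g * g)⁻¹ := by
        rw [← hi, ← conj_zpow, hinv g hgA, inv_zpow]
      have h4 : g ^ 4 = 1 := by
        rw [show g * (g * g) * g⁻¹ = g * g by group, eq_inv_iff_mul_eq_one] at hconj
        rw [← hconj]; simp [pow_succ, mul_assoc]
      have := Nat.le_of_dvd (by norm_num) (orderOf_dvd_of_pow_eq_one h4)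
      have := Nat.le_of_dvd (orderOf_pos a) h8
      omega
    · by_cases hg : g ∈ Subgroup.zpowers a
      · exact .inl hg
      · exact .inr ((Subgroup.mul_mem_iff_of_index_two hidx).mpr (by simp [hx, hg]))
  -- order eight
  have hcard : Nat.card Q = 8 := by
    have : kk = 2 := by
      have h4 : 2 ^ 2 ∣ 2 ^ kk := hkk ▸ ha4
      have h2 := (Nat.pow_dvd_pow_iff_le_right (by norm_num : 1 < 2)).mp h4
      by_contra hne
      exact h8 (hkk ▸ show 2 ^ 3 ∣ 2 ^ kk from Nat.pow_dvd_pow 2 (by omega))
    rw [hn, ← hnA, hkk, this]; rfl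
  by_contra hcon
  push Not at hcon
  obtain ⟨r, hr, hrd⟩ := Nat.exists_prime_and_dvd (n := orderOf γ) (by
    rw [Ne, orderOf_eq_one_iff]; exact hcon.1)
  have : Fact r.Prime := ⟨hr⟩
  set δ := γ ^ (orderOf γ / r)
  have hδ : orderOf δ = r := orderOf_pow_orderOf_div (by rintro e; rw [e] at hodd; exact absurd hodd (by decide)) hrd
  have hr2 : r ≠ 2 := by rintro rfl; rw [Nat.odd_iff] at hodd; omega
  have hr3 : r ≠ 3 := by rintro rfl; exact hcon.2 hrd
  have hr5 : 5 ≤ r := by
    have := hr.two_le
    rcases Nat.lt_or_ge r 5 with h | h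
    · interval_cases r <;> simp_all (config := {decide := true})
    · exact h
  letI : MulAction (Subgroup.zpowers δ) Q := MulAction.compHom Q (Subgroup.zpowers δ).subtype
  have hp : IsPGroup r (Subgroup.zpowers δ) := IsPGroup.of_card (n := 1) (by rw [Nat.card_zpowers, hδ, pow_one])
  have hmod := hp.card_modEq_card_fixedPoints Q
  let F : Subgroup Q := MonoidHom.eqLocus δ.toMonoidHom (MonoidHom.id Q)
  have hfix : MulAction.fixedPoints (Subgroup.zpowers δ) Q = (F : Set Q) := by
    ext q
    simp only [MulAction.mem_fixedPoints, SetLike.mem_coe]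
    constructor
    · exact fun e => e ⟨δ, Subgroup.mem_zpowers δ⟩
    · intro e g
      have hs : (δ : MulAut Q) ∈ MulAction.stabilizer (MulAut Q) q := e
      exact (Subgroup.zpowers_le.mpr hs) g.2
  rw [Nat.card_coe_set_eq, hfix, hcard] at hmod
  obtain ⟨t, ht⟩ := exists_prime_orderOf_dvd_card' (G := Q) 2 (by rw [hcard]; norm_num)
  have htF : t ∈ F := h1 _ _ (by rw [MulEquiv.coe_toMonoidHom, MulEquiv.orderOf_eq, ht]) ht
  have hF2 : 2 ≤ Nat.card F := by
    have h2 : orderOf (⟨t, htF⟩ : F) ∣ Nat.card F := orderOf_dvd_natCard _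
    rw [Subgroup.orderOf_mk, ht] at h2
    exact Nat.le_of_dvd Nat.card_pos h2
  have hF8 : Nat.card F ∣ 8 := hcard ▸ Subgroup.card_subgroup_dvd_card F
  have hFr : r ∣ 8 - Nat.card F :=
    (Nat.modEq_iff_dvd' (Nat.le_of_dvd (by norm_num) hF8)).mp (by simpa [← Nat.card_coe_set_eq] using hmod.symm)
  have : Nat.card F = 8 := by
    by_contra hne
    have := Nat.le_of_dvd (by have := Nat.le_of_dvd (by norm_num) hF8; omega) hFr
    have := Nat.le_of_dvd (by norm_num) hF8
    have hmem : Nat.card F ∈ Nat.divisors 8 := Nat.mem_divisors.mpr ⟨hF8, by norm_num⟩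
    rw [show Nat.divisors 8 = {1, 2, 4, 8} by decide] at hmem
    simp only [Finset.mem_insert, Finset.mem_singleton] at hmem
    rcases hmem with e | e | e | e <;> rw [e] at hFr hF2 hne <;> try omega
    all_goals
      have := Nat.le_of_dvd (by norm_num) hFr
      interval_cases r <;> (first | omega | exact absurd hr (by norm_num) | norm_num at hFr)
  have htop := Subgroup.eq_top_of_card_eq F (by rw [this, hcard])
  have hδ1 : δ = 1 := MulEquiv.ext fun q => (show q ∈ F by rw [htop]; trivial)
  rw [hδ1, orderOf_one] at hδ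
  exact hr.ne_one hδ.symm

theorem isSolvable_of_pGroup {P : Type*} [Group P] [Finite P] {p : ℕ} [Fact p.Prime] (h : IsPGroup p P) :
    Group.IsSolvable P := by
  have := h.isNilpotent
  infer_instance

/-- A nonsolvable fixed-point-free group has order divisible by three. -/
theorem FpfRep.three_dvd (h : FpfRep ρ) (hns : ¬ Group.IsSolvable G) : 3 ∣ Nat.card G := by
  have : Fact (Nat.Prime 2) := ⟨Nat.prime_two⟩
  have hn : ¬ Cfsg.HasNormalPComplement 2 G := by
    intro hN
    obtain ⟨M, hMn, hMc, m, hm⟩ : ∃ M : Subgroup G, M.Normal ∧ (Nat.card M).Coprime 2 ∧ ∃ m, M.index = 2 ^ m := by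
      obtain ⟨P⟩ : Nonempty (Sylow 2 G) := inferInstance
      obtain ⟨M, hMn, hMc, hMi⟩ := Transfer.hasNormalPComplement_iff_exists.mp hN
      exact ⟨M, hMn, Nat.Coprime.symm ((Nat.prime_two.coprime_iff_not_dvd).mpr hMc), hMi⟩
    refine hns ((Group.isSolvable_iff_subgroup_quotient M).mpr ⟨?_, ?_⟩)
    · exact isSolvable_of_odd (ρ.comp M.subtype) (h.restrict M).fpf
        (Nat.coprime_two_right.mp hMc)
    · exact isSolvable_of_pGroup (p := 2) (IsPGroup.of_card (n := m) (by rw [← Subgroup.index_eq_card, hm]))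
  obtain ⟨P⟩ : Nonempty (Sylow 2 G) := inferInstance
  rw [Transfer.hasNormalPComplement_iff_frobeniusCondition P] at hn
  simp only [Transfer.FrobeniusCondition, Subgroup.mem_centralizer_iff] at hn
  push Not at hn
  obtain ⟨Q, hQ, g, hg, hgc, q, hq, hne⟩ := hn
  let γ : MulAut Q := Q.normalizerMonoidHom ⟨g, hg⟩
  have hγd : orderOf γ ∣ orderOf g := by
    rw [← Subgroup.orderOf_mk g hg]; exact orderOf_map_dvd _ _
  have hgodd : Odd (orderOf g) := Nat.coprime_two_right.mp (by simpa [Nat.coprime_comm] using hgc)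
  rcases three_dvd_of_odd_aut (P.isPGroup'.to_le hQ) (fun u v hu hv => Subtype.ext (h.involution_unique
      (by rw [Subgroup.orderOf_coe, hu]) (by rw [Subgroup.orderOf_coe, hv]))) γ
    (hgodd.of_dvd_nat hγd) with e | e
  · exfalso
    refine hne ?_
    have e' : g * q * g⁻¹ = q := congrArg Subtype.val (MulEquiv.congr_fun e ⟨q, hq⟩)
    exact (mul_inv_eq_iff_eq_mul.mp e').symm
  · exact (e.trans hγd).trans (orderOf_dvd_natCard g)

theorem isSolvable_of_normal_three (h : FpfRep ρ) {P : Subgroup G} [P.Normal] (hP : Nat.card P = 3) :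
    Group.IsSolvable G := by
  by_contra hns
  have : Fact (Nat.Prime 3) := ⟨Nat.prime_three⟩
  obtain ⟨x, hx, hPx⟩ := exists_zpowers_of_card_three hP
  set C := Subgroup.centralizer (P : Set G) with hC
  have hCn : C.Normal := Subgroup.normal_centralizer (H := P)
  have hCx : ∀ c ∈ C, c * x = x * c := fun c hc =>
    (Subgroup.mem_centralizer_iff.mp hc x (hPx ▸ Subgroup.mem_zpowers x)).symm
  have hquot : Group.IsSolvable (G ⧸ C) := by
    let f : G →* MulAut P := MulAut.conjNormal
    have hker : f.ker = C := by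
      ext g
      rw [MonoidHom.mem_ker, hC, Subgroup.mem_centralizer_iff]
      constructor
      · intro e n hn
        have := congrArg Subtype.val (MulEquiv.congr_fun e ⟨n, hn⟩)
        simp only [f, MulAut.conjNormal_apply, MulAut.one_apply] at this
        exact (mul_inv_eq_iff_eq_mul.mp this).symm
      · intro e
        ext n
        simp only [f, MulAut.conjNormal_apply, MulAut.one_apply]
        rw [← e n n.2, mul_inv_cancel_right]
    have : IsCyclic P := isCyclic_of_prime_card hP
    have : Group.IsSolvable (MulAut P) :=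
      Group.isSolvable_of_isSolvable_injective (f := (IsCyclic.mulAutMulEquiv P).toMonoidHom) (MulEquiv.injective _)
    exact Group.isSolvable_of_isSolvable_injective (f := (QuotientGroup.kerLift f).comp
      (QuotientGroup.quotientMulEquivOfEq hker.symm).toMonoidHom)
      ((QuotientGroup.kerLift_injective f).comp (MulEquiv.injective _))
  have hCns : ¬ Group.IsSolvable C := fun hs => hns ((Group.isSolvable_iff_subgroup_quotient C).mpr ⟨hs, hquot⟩)
  obtain ⟨R⟩ : Nonempty (Sylow 3 C) := inferInstance
  have hcyc : IsCyclic (R : Subgroup C) := sylow_cyclic_of_fpf (ρ.comp C.subtype) (h.restrict C).fpf (by norm_num) R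
  have hxC : x ∈ C := by
    rw [hC, Subgroup.mem_centralizer_iff]
    intro n hn
    rw [hPx] at hn
    obtain ⟨i, rfl⟩ := hn
    exact ((Commute.refl x).zpow_left i).eq
  set xC : C := ⟨x, hxC⟩
  have hxc : xC ∈ Subgroup.center C := Subgroup.mem_center_iff.mpr fun c => Subtype.ext (hCx c c.2)
  have hxR : xC ∈ (R : Subgroup C) := by
    have hp : IsPGroup 3 (Subgroup.zpowers xC) := IsPGroup.of_card (n := 1)
      (by rw [Nat.card_zpowers, Subgroup.orderOf_mk, hx, pow_one])
    have hn : Subgroup.zpowers xC ≤ Subgroup.normalizer ((R : Subgroup C) : Set C) := by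
      rw [Subgroup.zpowers_le, Subgroup.mem_normalizer_iff]
      intro n
      rw [← Subgroup.mem_center_iff.mp hxc n, mul_inv_cancel_right]
    exact (R.is_maximal' (hp.to_sup_of_normal_right' R.isPGroup' hn) le_sup_right) ▸
      Subgroup.mem_sup_left (Subgroup.mem_zpowers xC)
  have hNC : Subgroup.normalizer ((R : Subgroup C) : Set C) ≤ Subgroup.centralizer ((R : Subgroup C) : Set C) := by
    intro n hn
    obtain ⟨⟨y, hy⟩, hgen⟩ := hcyc.exists_generator
    let φ := (R : Subgroup C).normalizerMonoidHom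
    have hidx : orderOf (φ ⟨n, hn⟩) ∣ (((R : Subgroup C)).subgroupOf (Subgroup.normalizer ((R : Subgroup C) : Set C))).index := by
      have hle : (R : Subgroup C).subgroupOf (Subgroup.normalizer ((R : Subgroup C) : Set C)) ≤ φ.ker := by
        intro r hr
        rw [Subgroup.mem_subgroupOf] at hr
        refine MonoidHom.mem_ker.mpr (MulEquiv.ext fun s => Subtype.ext ?_)
        show (r : C) * (s : C) * (r : C)⁻¹ = (s : C)
        obtain ⟨i, hi⟩ := hgen ⟨_, hr⟩
        obtain ⟨j, hj⟩ := hgen s
        have hi' : y ^ i = (r : C) := congrArg Subtype.val hi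
        have hj' : y ^ j = (s : C) := congrArg Subtype.val hj
        rw [← hi', ← hj', mul_inv_eq_iff_eq_mul]
        exact ((Commute.refl y).zpow_zpow i j).eq
      refine dvd_trans ?_ (Subgroup.index_dvd_of_le hle)
      rw [Subgroup.index_ker]
      exact Subgroup.orderOf_dvd_natCard _ ⟨_, rfl⟩
    have hcop : (orderOf (φ ⟨n, hn⟩)).Coprime 3 := by
      refine Nat.Coprime.coprime_dvd_left hidx (Nat.Coprime.symm ((Nat.Prime.coprime_iff_not_dvd Nat.prime_three).mpr ?_))
      intro hd
      exact R.not_dvd_index (hd.trans (Subgroup.relIndex_dvd_index_of_le Subgroup.le_normalizer))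
    set γ := φ ⟨n, hn⟩ with hγ
    obtain ⟨u, hu⟩ := hgen (γ ⟨y, hy⟩)
    simp only at hu
    -- `u ≡ 1` modulo three, since the central element `x` is fixed
    obtain ⟨j, hj⟩ := hgen ⟨xC, hxR⟩
    simp only at hj
    obtain ⟨m, hm⟩ := IsPGroup.iff_orderOf.mp R.isPGroup' ⟨y, hy⟩
    set Y : (R : Subgroup C) := ⟨y, hy⟩
    have hγx : γ ⟨xC, hxR⟩ = ⟨xC, hxR⟩ := Subtype.ext (by
      show n * xC * n⁻¹ = xC
      rw [Subgroup.mem_center_iff.mp hxc n, mul_inv_cancel_right])
    have h3u : (3 : ℤ) ∣ u - 1 := by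
      have e : Y ^ (u * j) = Y ^ j := by
        conv_rhs => rw [hj, ← hγx, ← hj, map_zpow, ← hu, ← zpow_mul]
      rw [zpow_eq_zpow_iff_modEq, hm, Int.modEq_iff_dvd] at e
      have hj3 : ¬ ((3 : ℤ) ^ m ∣ j) := by
        intro hd
        have : Y ^ j = 1 := orderOf_dvd_iff_zpow_eq_one.mp (by rw [hm]; exact_mod_cast hd)
        rw [hj] at this
        have : x = 1 := congrArg (fun t : (R : Subgroup C) => ((t : C) : G)) this
        rw [this, orderOf_one] at hx; omega
      by_contra h3
      have hcop : IsCoprime ((3 : ℤ) ^ m) (u - 1) := ((Int.prime_three.coprime_iff_not_dvd).mpr h3).pow_left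
      refine hj3 (hcop.dvd_of_dvd_mul_left ?_)
      obtain ⟨t, ht⟩ := e
      push_cast at ht
      exact ⟨-t, by linear_combination -ht⟩
    have hpowγ : ∀ t : ℕ, (γ ^ t) Y = Y ^ (u ^ t) := by
      intro t
      induction t with
      | zero => simp
      | succ t ih => rw [pow_succ', MulAut.mul_apply, ih, map_zpow, ← hu, ← zpow_mul, ← pow_succ']
    have hfix : γ ^ (3 ^ m) = 1 := by
      have hYfix : (γ ^ (3 ^ m)) Y = Y := by
        rw [hpowγ]
        conv_rhs => rw [← zpow_one Y]
        rw [zpow_eq_zpow_iff_modEq, hm, Int.modEq_iff_dvd]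
        have := dvd_sub_pow_of_dvd_sub (R := ℤ) (p := 3) (a := u) (b := 1) (by exact_mod_cast h3u) m
        rw [one_pow] at this
        push_cast
        rw [← dvd_neg, neg_sub]
        exact (pow_dvd_pow (3 : ℤ) (Nat.le_succ m)).trans (by simpa using this)
      refine MulEquiv.ext fun s => ?_
      obtain ⟨i, rfl⟩ := hgen s
      simp only [map_zpow, hYfix, MulAut.one_apply]
    have hγ1 : γ = 1 := by
      rw [← orderOf_eq_one_iff]
      exact Nat.eq_one_of_dvd_coprimes (hcop.pow_right m) (dvd_refl _) (orderOf_dvd_of_pow_eq_one hfix)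
    rw [Subgroup.mem_centralizer_iff]
    intro r hr
    have : n * r * n⁻¹ = r := congrArg Subtype.val (MulEquiv.congr_fun hγ1 ⟨r, hr⟩)
    exact (mul_inv_eq_iff_eq_mul.mp this).symm
  set M := (MonoidHom.transferSylow R hNC).ker
  have hMns : ¬ Group.IsSolvable M := fun hs => hCns ((Group.isSolvable_iff_subgroup_quotient M).mpr ⟨hs, by
    have : Group.IsSolvable (R : Subgroup C) := isSolvable_of_pGroup R.isPGroup'
    exact Group.isSolvable_of_isSolvable_injective (f := QuotientGroup.kerLift (MonoidHom.transferSylow R hNC))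
      (QuotientGroup.kerLift_injective _)⟩)
  exact MonoidHom.not_dvd_card_ker_transferSylow R hNC (((h.restrict C).restrict M).three_dvd hMns)

/-- A nonsolvable fixed-point-free group has exactly ten subgroups of order three. -/
theorem FpfRep.card_allPts_of_not_solvable (h : FpfRep ρ) (hns : ¬ Group.IsSolvable G) : (allPts G).card = 10 := by
  classical
  have : Fact (Nat.Prime 3) := ⟨Nat.prime_three⟩
  obtain ⟨x, hx⟩ := exists_prime_orderOf_dvd_card' 3 (h.three_dvd hns)
  set P := Subgroup.zpowers x
  have hP : Nat.card P = 3 := zpowers_mem_threeSubgroups hx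
  have hnormal : (threeCore G).Normal := by
    refine ⟨fun a ha g => ?_⟩
    have hle : threeCore G ≤ (threeCore G).comap (MulAut.conj g).toMonoidHom := (Subgroup.closure_le _).mpr fun t ht => by
      refine Subgroup.subset_closure ?_
      show orderOf (g * t * g⁻¹) = 3
      rw [← (show orderOf t = 3 from ht)]
      exact orderOf_injective (MulAut.conj g).toMonoidHom (MulAut.conj g).injective t
    exact hle ha
  rcases h.threeCore_cases hP with ⟨-, he⟩ | ⟨h4, h24⟩ | ⟨h10, -⟩
  · rw [he] at hnormal
    exact absurd (isSolvable_of_normal_three h hP) hns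
  · exfalso
    let α := {Q : Subgroup G // Q ∈ allPts G}
    let act : MulAction G α :=
      { smul := fun g Q => ⟨Q.1.map (MulAut.conj g).toMonoidHom, mem_allPts.mpr (by
          rw [Subgroup.card_map_of_injective (MulAut.conj g).injective]; exact mem_allPts.mp Q.2)⟩
        one_smul := fun Q => Subtype.ext (by
          show Q.1.map (MulAut.conj (1 : G)).toMonoidHom = Q.1
          rw [map_one]; exact Subgroup.map_id _)
        mul_smul := fun a b Q => Subtype.ext (by
          show Q.1.map (MulAut.conj (a * b)).toMonoidHom = (Q.1.map _).map _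
          rw [Subgroup.map_map, map_mul]; rfl) }
    let f := MulAction.toPermHom G α
    have hα : Nat.card α = 4 := by
      rw [Nat.card_eq_fintype_card, Fintype.card_coe, h4]
    have hsolQ : Group.IsSolvable (Equiv.Perm α) := by
      have e : α ≃ Fin 4 := Finite.equivFinOfCardEq hα
      have h4s : Group.IsSolvable (Equiv.Perm (Fin 4)) := by
        refine (Group.isSolvable_iff_subgroup_quotient (alternatingGroup (Fin 4))).mpr ⟨?_, ?_⟩
        · have := alternatingGroup.characteristic_kleinFour (α := Fin 4) (by simp)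
          refine (Group.isSolvable_iff_subgroup_quotient
            (alternatingGroup.kleinFour (Fin 4) : Subgroup (alternatingGroup (Fin 4)))).mpr ⟨?_, ?_⟩
          · exact isSolvable_of_pGroup (p := 2) (IsPGroup.of_card (n := 2)
              (by rw [alternatingGroup.kleinFour_card_of_card_eq_four (α := Fin 4) (by simp)]; rfl))
          · exact isSolvable_of_pGroup (p := 3) (IsPGroup.of_card (n := 1) (by
              rw [← Subgroup.index_eq_card]
              have := Subgroup.card_mul_index (alternatingGroup.kleinFour (Fin 4) : Subgroup (alternatingGroup (Fin 4)))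
              rw [alternatingGroup.kleinFour_card_of_card_eq_four (by simp), nat_card_alternatingGroup] at this
              simp [Nat.factorial] at this ⊢; omega))
        · exact isSolvable_of_pGroup (p := 2) (IsPGroup.of_card (n := 1) (by
            rw [← Subgroup.index_eq_card, alternatingGroup.index_eq_two, pow_one]))
      exact Group.isSolvable_of_isSolvable_injective (f := e.permCongrHom.toMonoidHom) e.permCongrHom.injective
    have hkns : ¬ Group.IsSolvable f.ker := fun hs => hns ((Group.isSolvable_iff_subgroup_quotient f.ker).mpr ⟨hs,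
      Group.isSolvable_of_isSolvable_injective (f := QuotientGroup.kerLift f) (QuotientGroup.kerLift_injective f)⟩)
    obtain ⟨y, hy⟩ := exists_prime_orderOf_dvd_card' 3 ((h.restrict f.ker).three_dvd hkns)
    set R := Subgroup.zpowers y
    have hRn : R.Normal := by
      refine ⟨fun a ha g => ?_⟩
      have hyo : orderOf (y : G) = 3 := by rw [Subgroup.orderOf_coe, hy]
      have e := congrArg (fun σ : Equiv.Perm α => σ ⟨_, mem_allPts.mpr (zpowers_mem_threeSubgroups hyo)⟩)
        (MonoidHom.mem_ker.mp g.2)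
      have e' : (Subgroup.zpowers (y : G)).map (MulAut.conj (g : G)).toMonoidHom = Subgroup.zpowers (y : G) :=
        congrArg Subtype.val e
      have hm : (g : G) * (a : G) * (g : G)⁻¹ ∈ Subgroup.zpowers (y : G) := by
        rw [← e']
        refine Subgroup.mem_map_of_mem _ ?_
        obtain ⟨i, rfl⟩ := ha
        exact ⟨i, by simp⟩
      obtain ⟨i, hi⟩ := hm
      exact ⟨i, Subtype.ext (by simpa using hi)⟩
    exact hkns (isSolvable_of_normal_three (h.restrict f.ker) (P := R) (zpowers_mem_threeSubgroups hy))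
  · exact h10

end Cfsg.Agent.Grp.Zas
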