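import Mathlib
import Cfsg.Agent.Lib.Grp.Zassenhaus.Solvability
import Cfsg.Agent.Lib.Grp.Zassenhaus.Binary

/-!
# The structure of nonsolvable fixed-point-free groups
-/

set_option autoImplicit false

namespace Cfsg.Agent.Grp.Zas

open Module
open scoped commutatorElement

variable {G k V : Type*} [Group G] [Finite G] [Field k] [IsAlgClosed k] [AddCommGroup V] [Module k V]
  [FiniteDimensional k V] [Nontrivial V] {ρ : G →* End k V}

omit [Field k] [IsAlgClosed k] [AddCommGroup V] [Module k V] [FiniteDimensional k V] [Nontrivial V] in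
theorem threeCore_normal : (threeCore G).Normal := by
  refine ⟨fun a ha g => ?_⟩
  have hle : threeCore G ≤ (threeCore G).comap (MulAut.conj g).toMonoidHom := (Subgroup.closure_le _).mpr fun t ht => by
    refine Subgroup.subset_closure ?_
    show orderOf (g * t * g⁻¹) = 3
    rw [← (show orderOf t = 3 from ht)]
    exact orderOf_injective (MulAut.conj g).toMonoidHom (MulAut.conj g).injective t
  exact hle ha

/-- The structure of a nonsolvable fixed-point-free group. -/
structure IcoStructure (E M : Subgroup G) : Prop where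
  ico : BinaryIco E
  normal_E : E.Normal
  normal_M : M.Normal
  comm : ∀ e ∈ E, ∀ m ∈ M, e * m = m * e
  inf : E ⊓ M = ⊥
  coprime : (Nat.card M).Coprime 30
  zgroup : ∀ (p : ℕ) [Fact p.Prime] (P : Sylow p M), IsCyclic P
  index : (E ⊔ M).index = 1 ∨ (E ⊔ M).index = 2

theorem FpfRep.structure_nonsolvable (h : FpfRep ρ) (hns : ¬ Group.IsSolvable G) :
    ∃ M : Subgroup G, Nat.card (threeCore G) = 120 ∧ IcoStructure (threeCore G) M := by
  classical
  have hp2 : Fact (Nat.Prime 2) := ⟨Nat.prime_two⟩
  have hp3 : Fact (Nat.Prime 3) := ⟨Nat.prime_three⟩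
  have hp5 : Fact (Nat.Prime 5) := ⟨Nat.prime_five⟩
  have h10 := h.card_allPts_of_not_solvable hns
  obtain ⟨x, hx⟩ := exists_prime_orderOf_dvd_card' 3 (h.three_dvd hns)
  have hP : Nat.card (Subgroup.zpowers x) = 3 := zpowers_mem_threeSubgroups hx
  set E := threeCore G with hE
  have hEn : E.Normal := threeCore_normal
  have h120 : Nat.card E = 120 := by
    rcases h.threeCore_cases hP with ⟨e, -⟩ | ⟨e, -⟩ | ⟨-, e⟩
    · omega
    · omega
    · exact e
  obtain ⟨f, hf, hfk⟩ := h.threeCore_alternating h10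
  obtain ⟨z, hz, hker⟩ := exists_kernel_generator hfk
  have hinv : ∀ u v : E, orderOf u = 2 → orderOf v = 2 → u = v := fun u v hu hv =>
    Subtype.ext (h.involution_unique (by rw [Subgroup.orderOf_coe, hu]) (by rw [Subgroup.orderOf_coe, hv]))
  have hmem3 : ∀ {g : G}, orderOf g = 3 → g ∈ E := fun {g} hg => Subgroup.subset_closure hg
  have hz' : orderOf (z : G) = 2 := by rw [Subgroup.orderOf_coe, hz]
  -- an element of order three in a subgroup of index at most two
  have hsimple : IsSimpleGroup (alternatingGroup (Fin 5)) := alternatingGroup.isSimpleGroup_five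
  have hbig : ∀ N : Subgroup E, N.Normal → (∃ a ∈ N, f a ≠ 1) → ∀ t : E, orderOf t = 3 → t ∈ N := by
    intro N hN ⟨a, ha, ha1⟩ t ht
    have htop : N.map f = ⊤ := ((hN.map f hf).eq_bot_or_eq_top).resolve_left fun e => ha1 (by
      have := Subgroup.mem_map_of_mem f ha; rwa [e, Subgroup.mem_bot] at this)
    obtain ⟨b, hb, hbt⟩ : f t ∈ N.map f := htop ▸ Subgroup.mem_top _
    have hk : b⁻¹ * t ∈ f.ker := MonoidHom.mem_ker.mpr (by rw [map_mul, map_inv, hbt, inv_mul_cancel])
    have hzc : ∀ c ∈ f.ker, c * c = 1 ∧ ∀ g : E, g * c = c * g := fun c hc => by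
      rcases (hker c).mp hc with e | e <;> rw [e]
      · exact ⟨one_mul 1, fun g => by rw [mul_one, one_mul]⟩
      · exact ⟨by rw [← pow_two]; exact orderOf_dvd_iff_pow_eq_one.mp hz.dvd,
          fun g => Subtype.ext (h.involution_central hz' g)⟩
    obtain ⟨hcc, hcg⟩ := hzc _ hk
    have e2 : t * t = b * b := by
      calc t * t = (b * (b⁻¹ * t)) * (b * (b⁻¹ * t)) := by rw [mul_inv_cancel_left]
        _ = b * ((b⁻¹ * t) * b) * (b⁻¹ * t) := by simp only [mul_assoc]
        _ = b * b * ((b⁻¹ * t) * (b⁻¹ * t)) := by rw [← hcg b]; simp only [mul_assoc]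
        _ = b * b := by rw [hcc, mul_one]
    have : t = (t * t) * (t * t) := by
      calc t = t * (t * t * t) := by
            rw [show t * t * t = t ^ 3 by simp [pow_succ], pow_three_eq_one ht, mul_one]
        _ = (t * t) * (t * t) := by simp only [mul_assoc]
    rw [this, e2]
    exact N.mul_mem (N.mul_mem hb hb) (N.mul_mem hb hb)
  have hA5comm : commutator (alternatingGroup (Fin 5)) = ⊤ := by
    refine ((inferInstance : (commutator (alternatingGroup (Fin 5))).Normal).eq_bot_or_eq_top).resolve_left fun e => ?_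
    obtain ⟨a, b, hab⟩ : ∃ a b : alternatingGroup (Fin 5), a * b ≠ b * a := by decide +kernel
    refine hab (commutatorElement_eq_one_iff_mul_comm.mp ?_)
    rw [← Subgroup.mem_bot, ← e, commutator_def]
    exact Subgroup.commutator_mem_commutator (Subgroup.mem_top a) (Subgroup.mem_top b)
  have hperf : commutator E = ⊤ := by
    have hne : ∃ a ∈ commutator E, f a ≠ 1 := by
      by_contra hc
      push Not at hc
      have h1 : (commutator E).map f = ⊥ := by
        rw [eq_bot_iff]; rintro _ ⟨a, ha, rfl⟩; rw [Subgroup.mem_bot]; exact hc a ha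
      rw [commutator_def, Subgroup.map_commutator, Subgroup.map_top_of_surjective f hf, ← commutator_def, hA5comm] at h1
      exact top_ne_bot h1
    rw [eq_top_iff]
    intro g _
    have hle : threeCore G ≤ (commutator E).map E.subtype := (Subgroup.closure_le _).mpr fun t ht =>
      ⟨⟨t, hmem3 ht⟩, hbig _ inferInstance hne _ (by rw [Subgroup.orderOf_mk]; exact ht), rfl⟩
    obtain ⟨a, ha, hag⟩ := hle g.2
    exact (Subtype.ext hag : a = g) ▸ ha
  -- blocks
  let BS := (allPts G).biUnion blocksAt
  have hA : ∀ Q ∈ allPts G, (blocksAt Q).card = 2 := fun Q hQ => by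
    rcases h.count_cases (mem_allPts.mp hQ) with ⟨_, e⟩ | ⟨_, e⟩ | ⟨e, _⟩ <;> omega
  have hBS5 : BS.card = 5 := by
    have hdc := Finset.sum_card_bipartiteAbove_eq_sum_card_bipartiteBelow (s := allPts G) (t := BS)
      (fun (Q : Subgroup G) (B : Finset (Subgroup G)) => Q ∈ B)
    have h1 : ∀ Q ∈ allPts G, (BS.bipartiteAbove (fun (Q : Subgroup G) B => Q ∈ B) Q).card = 2 := by
      intro Q hQ
      rw [← hA Q hQ]
      congr 1
      ext B
      simp only [Finset.mem_bipartiteAbove, BS, Finset.mem_biUnion]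
      constructor
      · rintro ⟨⟨R, -, hB⟩, hQB⟩; exact h.block_at_mem hB hQB
      · exact fun hB => ⟨⟨Q, hQ, hB⟩, (h.block_facts hB).2.1⟩
    have h2 : ∀ B ∈ BS, ((allPts G).bipartiteBelow (fun (Q : Subgroup G) B => Q ∈ B) B).card = 4 := by
      intro B hB
      simp only [BS, Finset.mem_biUnion] at hB
      obtain ⟨R, -, hB⟩ := hB
      obtain ⟨T, e, rfl⟩ := mem_blocksAt.mp hB
      rw [← e.2.2.2]
      congr 1
      ext Q
      simp only [Finset.mem_bipartiteBelow, mem_allPts]
      exact ⟨fun e' => e'.2, fun e' => ⟨(mem_ptsIn.mp e').1, e'⟩⟩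
    rw [Finset.sum_congr rfl h1, Finset.sum_congr rfl h2, Finset.sum_const, Finset.sum_const, smul_eq_mul,
      smul_eq_mul, h10] at hdc
    omega
  let cj : G → Subgroup G → Subgroup G := fun g Q => Q.map (MulAut.conj g).toMonoidHom
  have cj_one : ∀ Q, cj 1 Q = Q := fun Q => by simp only [cj, map_one]; exact Subgroup.map_id _
  have cj_mul : ∀ a b Q, cj (a * b) Q = cj a (cj b Q) := fun a b Q => by
    simp only [cj, Subgroup.map_map, map_mul]; rfl
  have cj_card : ∀ g Q, Nat.card (cj g Q) = Nat.card Q := fun g Q =>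
    Subgroup.card_map_of_injective (MulAut.conj g).injective
  have cj_pts : ∀ g H, (ptsIn H).image (cj g) = ptsIn (cj g H) := fun g H => by
    ext Q
    simp only [Finset.mem_image, mem_ptsIn]
    constructor
    · rintro ⟨R, hR, rfl⟩; exact ⟨by rw [cj_card]; exact hR.1, Subgroup.map_mono hR.2⟩
    · rintro ⟨hQ, hle⟩
      refine ⟨cj g⁻¹ Q, ⟨by rw [cj_card]; exact hQ, ?_⟩, by rw [← cj_mul, mul_inv_cancel, cj_one]⟩
      refine (Subgroup.map_mono (f := (MulAut.conj g⁻¹).toMonoidHom) hle).trans_eq ?_
      show cj g⁻¹ (cj g H) = H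
      rw [← cj_mul, inv_mul_cancel, cj_one]
  have cj_BS : ∀ g : G, ∀ B ∈ BS, B.image (cj g) ∈ BS := by
    intro g B hB
    simp only [BS, Finset.mem_biUnion] at hB ⊢
    obtain ⟨R, hR, hB⟩ := hB
    obtain ⟨T, e, rfl⟩ := mem_blocksAt.mp hB
    have hsup : cj g (R ⊔ T) = cj g R ⊔ cj g T := Subgroup.map_sup _ _ _
    refine ⟨cj g R, mem_allPts.mpr (by rw [cj_card]; exact e.1), mem_blocksAt.mpr ⟨cj g T,
      ⟨by rw [cj_card]; exact e.1, by rw [cj_card]; exact e.2.1,
        fun e' => e.2.2.1 ((Subgroup.map_injective (MulAut.conj g).injective) e'), ?_⟩, ?_⟩⟩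
    · rw [← hsup, ← cj_pts, Finset.card_image_of_injective _ (Subgroup.map_injective (MulAut.conj g).injective)]
      exact e.2.2.2
    · rw [← hsup, ← cj_pts]
  let α := {B : Finset (Subgroup G) // B ∈ BS}
  let act : MulAction G α :=
    { smul := fun g B => ⟨B.1.image (cj g), cj_BS g B.1 B.2⟩
      one_smul := fun B => Subtype.ext (by
        show B.1.image (cj 1) = B.1
        rw [show cj 1 = id from funext cj_one, Finset.image_id])
      mul_smul := fun a b B => Subtype.ext (by
        show B.1.image (cj (a * b)) = (B.1.image (cj b)).image (cj a)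
        rw [Finset.image_image, show cj a ∘ cj b = cj (a * b) from funext fun Q => (cj_mul a b Q).symm]) }
  let φ := MulAction.toPermHom G α
  have hnorm : ∀ g ∈ φ.ker, ∀ t : G, orderOf t = 3 → g * t * g⁻¹ ∈ Subgroup.zpowers t := by
    intro g hg t ht
    set Q := Subgroup.zpowers t
    have hQ : Q ∈ allPts G := mem_allPts.mpr (zpowers_mem_threeSubgroups ht)
    obtain ⟨B, B', hne, hBB⟩ := Finset.card_eq_two.mp (hA Q hQ)
    have fixed : ∀ C ∈ blocksAt Q, cj g Q ∈ C := by
      intro C hC
      have hCS : C ∈ BS := Finset.mem_biUnion.mpr ⟨Q, hQ, hC⟩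
      have e : C.image (cj g) = C := congrArg Subtype.val (Equiv.ext_iff.mp (MonoidHom.mem_ker.mp hg) ⟨C, hCS⟩)
      exact e ▸ Finset.mem_image_of_mem _ (h.block_facts hC).2.1
    have hB : B ∈ blocksAt Q := by rw [hBB]; simp
    have hB' : B' ∈ blocksAt Q := by rw [hBB]; simp
    have heq : cj g Q = Q := by_contra fun hne' => hne (h.blocks_meet hB hB' (fixed B hB) (fixed B' hB') hne')
    exact heq ▸ Subgroup.mem_map_of_mem _ (Subgroup.mem_zpowers t)
  have hEker : ∀ e : E, (e : G) ∈ φ.ker → f e = 1 := by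
    intro e he
    by_contra hne
    let N : Subgroup E := φ.ker.subgroupOf E
    have hN : N.Normal := φ.normal_ker.subgroupOf E
    have hall := hbig N hN ⟨e, he, hne⟩
    obtain ⟨Q1, hQ1, Q2, hQ2, hne12⟩ := Finset.one_lt_card.mp (show 1 < (allPts G).card by omega)
    obtain ⟨a, ha, rfl⟩ := exists_zpowers_of_card_three (mem_allPts.mp hQ1)
    obtain ⟨b, hb, rfl⟩ := exists_zpowers_of_card_three (mem_allPts.mp hQ2)
    exact h.not_commute ha hb hne12 (commute_of_normalize_three ha hb
      (hnorm a (hall ⟨a, hmem3 ha⟩ (by rw [Subgroup.orderOf_mk]; exact ha)) b hb))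
  set C := Subgroup.centralizer (E : Set G) with hC
  have hkerC : φ.ker ≤ C := by
    intro g hg
    have hle : E ≤ Subgroup.centralizer {g} := (Subgroup.closure_le _).mpr fun t ht => by
      have ht' : orderOf t = 3 := ht
      rw [SetLike.mem_coe, Subgroup.mem_centralizer_singleton_iff]
      have hcE : g * t * g⁻¹ * t⁻¹ ∈ E :=
        E.mul_mem (hEn.conj_mem t (hmem3 ht') g) (E.inv_mem (hmem3 ht'))
      have hck : g * t * g⁻¹ * t⁻¹ ∈ φ.ker := by
        rw [mul_assoc g t, mul_assoc g]
        exact φ.ker.mul_mem hg (φ.normal_ker.conj_mem _ (φ.ker.inv_mem hg) t)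
      rcases (hker ⟨_, hcE⟩).mp (MonoidHom.mem_ker.mpr (hEker ⟨_, hcE⟩ hck)) with e | e
      · have e' : g * t * g⁻¹ * t⁻¹ = 1 := congrArg Subtype.val e
        rw [mul_inv_eq_one, mul_inv_eq_iff_eq_mul] at e'
        exact e'.symm
      · exfalso
        have e' : g * t * g⁻¹ = (z : G) * t := mul_inv_eq_iff_eq_mul.mp (congrArg Subtype.val e : g * t * g⁻¹ * t⁻¹ = (z : G))
        have h3 : orderOf (g * t * g⁻¹) = 3 := by
          rw [← ht']; exact orderOf_injective (MulAut.conj g).toMonoidHom (MulAut.conj g).injective t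
        have h6 : orderOf ((z : G) * t) = 6 := by
          rw [(show Commute (z : G) t from (h.involution_central hz' t).symm).orderOf_mul_eq_mul_orderOf_of_coprime
            (by rw [hz', ht']; norm_num), hz', ht']
        rw [e', h6] at h3; omega
    rw [hC, Subgroup.mem_centralizer_iff]
    exact fun e he => Subgroup.mem_centralizer_singleton_iff.mp (hle he)
  have hEC : ∀ e : E, (e : G) ∈ C → f e = 1 := by
    intro e he
    have hcen : f e ∈ Subgroup.center (alternatingGroup (Fin 5)) := Subgroup.mem_center_iff.mpr fun a => by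
      obtain ⟨b, rfl⟩ := hf a
      rw [← map_mul, ← map_mul]
      exact congrArg f (Subtype.ext (Subgroup.mem_centralizer_iff.mp he b b.2))
    have : Subgroup.center (alternatingGroup (Fin 5)) = ⊥ :=
      ((inferInstance : (Subgroup.center (alternatingGroup (Fin 5))).Normal).eq_bot_or_eq_top).resolve_right fun e => by
        have h1 := hA5comm
        rw [show commutator (alternatingGroup (Fin 5)) = ⊥ from by
          rw [commutator_def, eq_bot_iff, Subgroup.commutator_le]
          intro a _ b _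
          rw [Subgroup.mem_bot, commutatorElement_eq_one_iff_mul_comm]
          exact (Subgroup.mem_center_iff.mp (e ▸ Subgroup.mem_top b : b ∈ Subgroup.center _) a)] at h1
        exact bot_ne_top h1
    rwa [this, Subgroup.mem_bot] at hcen
  have hno3 : ∀ c ∈ C, orderOf c ≠ 3 := fun c hc h3 => by
    have := hEC ⟨c, hmem3 h3⟩ hc
    rcases (hker _).mp (MonoidHom.mem_ker.mpr this) with e | e
    · have : c = 1 := congrArg Subtype.val e
      rw [this, orderOf_one] at h3; omega
    · have : c = z := congrArg Subtype.val e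
      rw [this, hz'] at h3; omega
  have hEker' : ∀ e : E, (e : G) ∈ C → (e : G) = 1 ∨ (e : G) = z := fun e he =>
    ((hker _).mp (MonoidHom.mem_ker.mpr (hEC e he))).imp (fun e' => congrArg Subtype.val e') (fun e' => congrArg Subtype.val e')
  have hzC : (z : G) ∈ C := Subgroup.mem_centralizer_iff.mpr fun e _ => h.involution_central hz' e
  -- no elements of order four in `C`
  have hno4 : ∀ c ∈ C, orderOf c ≠ 4 := by
    intro c hc h4
    obtain ⟨i, hi⟩ : ∃ i : E, f i * f i = 1 ∧ f i ≠ 1 := by
      obtain ⟨a, ha⟩ : ∃ a : alternatingGroup (Fin 5), a * a = 1 ∧ a ≠ 1 := by decide +kernel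
      obtain ⟨i, rfl⟩ := hf a
      exact ⟨i, ha⟩
    have hii : (i : G) * i = z := by
      rcases (hker (i * i)).mp (MonoidHom.mem_ker.mpr (by rw [map_mul, hi.1])) with e | e
      · exfalso
        refine hi.2 (MonoidHom.mem_ker.mp ((hker i).mpr (.inr (hinv i z (orderOf_eq_prime (by rw [pow_two, e]) ?_) hz))))
        intro e'; exact hi.2 (by rw [e', map_one])
      · exact congrArg Subtype.val e
    have hcc : c * c = z := by
      rw [← pow_two]
      exact h.involution_unique (by rw [orderOf_pow' c two_ne_zero, h4]; norm_num) hz'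
    have hsq : (c * i) * (c * i) = 1 := by
      have hci : Commute (i : G) c := Subgroup.mem_centralizer_iff.mp hc i i.2
      calc (c * i) * (c * i) = (c * c) * (i * i) := Commute.mul_mul_mul_comm hci c i
        _ = (z : G) * z := by rw [hcc, hii]
        _ = 1 := by rw [← pow_two]; exact orderOf_dvd_iff_pow_eq_one.mp hz'.dvd
    have hciz : c * i = 1 ∨ c * i = z := by
      by_cases h1 : c * i = 1
      · exact .inl h1
      · exact .inr (h.involution_unique (orderOf_eq_prime (by rw [pow_two, hsq]) h1) hz')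
    have hcE : c ∈ E := by
      rcases hciz with e | e
      · rw [eq_inv_of_mul_eq_one_left e]; exact E.inv_mem i.2
      · rw [eq_mul_inv_of_mul_eq e]; exact E.mul_mem z.2 (E.inv_mem i.2)
    rcases hEker' ⟨c, hcE⟩ hc with e | e
    · change c = 1 at e; rw [e, orderOf_one] at h4; omega
    · change c = (z : G) at e; rw [e, hz'] at h4; omega
  obtain ⟨R⟩ : Nonempty (Sylow 2 C) := inferInstance
  have hRsub : ∀ r ∈ (R : Subgroup C), (r : G) = 1 ∨ (r : G) = z := by
    intro r hr
    obtain ⟨n, hn⟩ := IsPGroup.iff_orderOf.mp R.isPGroup' ⟨r, hr⟩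
    rw [Subgroup.orderOf_mk, ← Subgroup.orderOf_coe] at hn
    rcases n with _ | _ | n
    · left; rwa [pow_zero, orderOf_eq_one_iff] at hn
    · exact .inr (h.involution_unique (by simpa using hn) hz')
    · exfalso
      refine hno4 ((r : G) ^ 2 ^ n) (C.pow_mem r.2 _) ?_
      rw [orderOf_pow' _ (by positivity), hn, Nat.gcd_eq_right (pow_dvd_pow 2 (by omega)),
        show n + 1 + 1 = n + 2 from rfl, pow_add, Nat.mul_div_cancel_left _ (by positivity)]
      rfl
  have hzR : (⟨(z : G), hzC⟩ : C) ∈ (R : Subgroup C) := by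
    have hd : 2 ∣ Nat.card C := by
      have := Subgroup.orderOf_dvd_natCard C hzC
      rwa [hz'] at this
    obtain ⟨t, ht⟩ := exists_prime_orderOf_dvd_card' (G := (R : Subgroup C)) 2 (R.dvd_card_of_dvd_card hd)
    rw [← Subgroup.orderOf_coe, ← Subgroup.orderOf_coe] at ht
    have : ((t : C) : G) = z := h.involution_unique ht hz'
    rw [show (⟨(z : G), hzC⟩ : C) = (t : C) from Subtype.ext this.symm]
    exact t.2
  have hNC : Subgroup.normalizer ((R : Subgroup C) : Set C) ≤ Subgroup.centralizer ((R : Subgroup C) : Set C) := by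
    intro n _
    rw [Subgroup.mem_centralizer_iff]
    intro r hr
    refine Subtype.ext ?_
    rcases hRsub r hr with e | e
    · show (r : G) * n = n * r
      rw [e, one_mul, mul_one]
    · show (r : G) * n = n * r
      rw [e]; exact (h.involution_central hz' n).symm
  set M0 := (MonoidHom.transferSylow R hNC).ker with hM0
  have hM0odd : ¬ 2 ∣ Nat.card M0 := MonoidHom.not_dvd_card_ker_transferSylow R hNC
  have hcompl := MonoidHom.ker_transferSylow_isComplement' R hNC
  set M := M0.map C.subtype with hM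
  have hMC : M ≤ C := Subgroup.map_subtype_le M0
  have hMcard : Nat.card M = Nat.card M0 := Subgroup.card_map_of_injective C.subtype_injective
  have hMmem : ∀ c ∈ C, c ∈ M ↔ Odd (orderOf c) := by
    intro c hc
    constructor
    · intro hcM
      rw [← Nat.not_even_iff_odd, even_iff_two_dvd]
      exact fun hd => hM0odd (hMcard ▸ hd.trans (Subgroup.orderOf_dvd_natCard M hcM))
    · intro hodd
      refine ⟨⟨c, hc⟩, ?_, rfl⟩
      show (⟨c, hc⟩ : C) ∈ M0
      have hcard : Nat.card (R : Subgroup C) ∣ 2 := by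
        obtain ⟨n, hn⟩ := IsPGroup.iff_card.mp R.isPGroup'
        rw [hn]
        have hle : Nat.card (R : Subgroup C) ≤ 2 := by
          rw [← SetLike.coe_sort_coe, Nat.card_coe_set_eq]
          refine (Set.ncard_le_ncard (t := ({1, ⟨(z : G), hzC⟩} : Set C)) (fun r hr => ?_) (Set.toFinite _)).trans
            ((Set.ncard_insert_le _ _).trans (by rw [Set.ncard_singleton]))
          exact (hRsub r hr).imp (fun e => Subtype.ext e) (fun e => Subtype.ext e)
        rw [hn] at hle
        rcases n with _ | _ | n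
        · simp
        · simp
        · have : 2 ^ 2 ≤ 2 ^ (n + 2) := Nat.pow_le_pow_right two_pos (by omega)
          omega
      rw [hM0, MonoidHom.mem_ker, ← orderOf_eq_one_iff]
      refine Nat.eq_one_of_dvd_coprimes (Nat.coprime_two_right.mpr hodd) ?_ ((orderOf_dvd_natCard _).trans hcard)
      refine (orderOf_map_dvd _ _).trans ?_
      rw [Subgroup.orderOf_mk]
  have hMn : M.Normal := ⟨fun m hm g => by
    have hCn : C.Normal := Subgroup.normal_centralizer (H := E)
    rw [hMmem _ (hCn.conj_mem m (hMC hm) g)]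
    rw [show orderOf (g * m * g⁻¹) = orderOf m from
      orderOf_injective (MulAut.conj g).toMonoidHom (MulAut.conj g).injective m]
    exact (hMmem _ (hMC hm)).mp hm⟩
  have hcop : (Nat.card M).Coprime 30 := by
    rw [show (30 : ℕ) = 2 * 3 * 5 from rfl]
    refine Nat.Coprime.mul_right (Nat.Coprime.mul_right ?_ ?_) ?_
    · exact ((Nat.prime_two.coprime_iff_not_dvd).mpr (hMcard ▸ hM0odd)).symm
    · refine ((Nat.prime_three.coprime_iff_not_dvd).mpr fun hd => ?_).symm
      obtain ⟨u, hu⟩ := exists_prime_orderOf_dvd_card' (G := M) 3 hd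
      rw [← Subgroup.orderOf_coe] at hu
      exact hno3 u (hMC u.2) hu
    · refine ((Nat.prime_five.coprime_iff_not_dvd).mpr fun hd => ?_).symm
      obtain ⟨u, hu⟩ := exists_prime_orderOf_dvd_card' (G := M) 5 hd
      rw [← Subgroup.orderOf_coe] at hu
      obtain ⟨e, he⟩ := exists_prime_orderOf_dvd_card' (G := E) 5 (by rw [h120]; norm_num)
      rw [← Subgroup.orderOf_coe] at he
      have hmem := mem_zpowers_of_commute ρ h.fpf (p := 5) he (orderOf_dvd_iff_pow_eq_one.mp hu.dvd)
        (Subgroup.mem_centralizer_iff.mp (hMC u.2) e e.2)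
      rcases hEker' ⟨u, Subgroup.zpowers_le.mpr e.2 hmem⟩ (hMC u.2) with e' | e'
      · change (u : G) = 1 at e'; rw [e', orderOf_one] at hu; omega
      · change (u : G) = (z : G) at e'; rw [e', hz'] at hu; omega
  have hEM : E ⊓ M = ⊥ := by
    rw [eq_bot_iff]
    rintro g ⟨hgE, hgM⟩
    rcases hEker' ⟨g, hgE⟩ (hMC hgM) with e | e
    · exact e
    · exfalso
      change g = (z : G) at e
      have := (hMmem g (hMC hgM)).mp hgM
      rw [e, hz'] at this
      exact absurd this (by decide)
  have hCle : C ≤ E ⊔ M := by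
    intro c hc
    obtain ⟨⟨m, r⟩, hmr, -⟩ := hcompl.existsUnique ⟨c, hc⟩
    have e : ((m : C) : G) * ((r : C) : G) = c := congrArg Subtype.val hmr
    rw [← e]
    refine (E ⊔ M).mul_mem (Subgroup.mem_sup_right ⟨_, m.2, rfl⟩) (Subgroup.mem_sup_left ?_)
    rcases hRsub _ r.2 with e' | e' <;> rw [e']
    · exact E.one_mem
    · exact z.2
  have hindex : (E ⊔ M).index = 1 ∨ (E ⊔ M).index = 2 := by
    have hk : φ.ker ≤ E ⊔ M := hkerC.trans hCle
    have h60 : 60 ∣ Nat.card ((E ⊔ M).map φ) := by
      have hle : E.map φ ≤ (E ⊔ M).map φ := Subgroup.map_mono le_sup_left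
      refine dvd_trans ?_ (Subgroup.card_dvd_of_le hle)
      let ψ : E →* Equiv.Perm α := φ.comp E.subtype
      have hψ : ψ.range = E.map φ := by rw [MonoidHom.range_comp, Subgroup.range_subtype]
      rw [← hψ, ← Subgroup.index_ker]
      have hle2 : ψ.ker ≤ f.ker := fun e he => MonoidHom.mem_ker.mpr (hEker e he)
      have := Subgroup.index_dvd_of_le hle2
      refine dvd_trans ?_ this
      have hm := Subgroup.card_mul_index f.ker
      rw [hfk, h120] at hm
      exact ⟨1, by omega⟩
    have hα : Nat.card (Equiv.Perm α) = 120 := by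
      rw [Nat.card_perm, Nat.card_eq_fintype_card, Fintype.card_coe, hBS5]; rfl
    have hidx : (E ⊔ M).index ∣ 2 := by
      rw [← Subgroup.comap_map_eq_self hk, Subgroup.index_comap]
      have hd : Nat.card ((E ⊔ M).map φ) * ((E ⊔ M).map φ).relIndex φ.range ∣ 120 := by
        rw [← hα]
        have hle : (E ⊔ M).map φ ≤ φ.range := Subgroup.map_le_range _ _
        have e1 := Subgroup.card_mul_index (((E ⊔ M).map φ).subgroupOf φ.range)
        rw [Nat.card_congr (Subgroup.subgroupOfEquivOfLe hle).toEquiv] at e1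
        rw [show Nat.card ((E ⊔ M).map φ) * ((E ⊔ M).map φ).relIndex φ.range = Nat.card φ.range from e1]
        exact Subgroup.card_subgroup_dvd_card _
      obtain ⟨t, ht⟩ := h60
      rw [ht, Nat.mul_assoc, show 120 = 60 * 2 from rfl] at hd
      exact (dvd_mul_left _ t).trans (Nat.dvd_of_mul_dvd_mul_left (by norm_num) hd)
    exact (Nat.dvd_prime Nat.prime_two).mp hidx
  refine ⟨M, h120, ⟨⟨⟨f, hf, hfk⟩, hinv, hperf⟩, hEn, hMn,
    fun e he m hm => Subgroup.mem_centralizer_iff.mp (hMC hm) e he, hEM, hcop, fun p hp P => ?_, hindex⟩⟩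
  by_cases h2 : p = 2
  · subst h2
    have hcard : Nat.card (P : Subgroup M) = 1 := by
      rw [P.card_eq_multiplicity, Nat.factorization_eq_zero_of_not_dvd (hMcard ▸ hM0odd), pow_zero]
    have : Subsingleton (P : Subgroup M) := (Nat.card_eq_one_iff_unique.mp hcard).1
    infer_instance
  · exact sylow_cyclic_of_fpf (ρ.comp M.subtype) (h.restrict M).fpf h2 P

end Cfsg.Agent.Grp.Zas
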