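import Mathlib
import Cfsg.Prelude.Def_Solvable
import Cfsg.Agent.Lib.Grp.FrobeniusTheorem
import Cfsg.Agent.Lib.Grp.Zassenhaus.Structure

/-!
# Frobenius complements have fixed-point-free representations
-/

set_option autoImplicit false

namespace Cfsg.Agent.Grp.Zas

open Module TensorProduct

universe u v

/-- `G` has a fixed-point-free representation in coprime characteristic. -/
def HasFpf (G : Type u) [Group G] : Prop :=
  ∃ (k : Type) (_ : Field k) (_ : IsAlgClosed k) (V : Type v) (_ : AddCommGroup V) (_ : Module k V)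
    (_ : FiniteDimensional k V) (_ : Nontrivial V) (ρ : G →* End k V),
    (∀ g : G, g ≠ 1 → ∀ w : V, ρ g w = w → w = 0) ∧ (Nat.card G : k) ≠ 0

/-- A fixed-point-free action on a finite group gives a fixed-point-free representation. -/
theorem hasFpf_of_fpf_module {G : Type u} [Group G] [Finite G] {A : Type v} [AddCommGroup A] [Finite A]
    [Nontrivial A] {p : ℕ} [Fact p.Prime] [Module (ZMod p) A] (φ : G →* AddMonoid.End A)
    (hfpf : ∀ g : G, g ≠ 1 → ∀ a : A, φ g a = a → a = 0) (hcop : ¬ p ∣ Nat.card G) : HasFpf.{u, v} G := by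
  let F : G → Module.End (ZMod p) A := fun g => (φ g : A →+ A).toZModLinearMap p
  have h1 : ∀ a : A, F 1 a = a := fun a => by
    show φ 1 a = a
    rw [map_one, AddMonoid.End.coe_one]; rfl
  have h2 : ∀ g h, ∀ a : A, F (g * h) a = F g (F h a) := fun g h a => by
    show φ (g * h) a = φ g (φ h a)
    rw [map_mul, AddMonoid.End.coe_mul]; rfl
  let ρ0 : G →* Module.End (ZMod p) A :=
    { toFun := F
      map_one' := LinearMap.ext fun a => by rw [Module.End.one_apply]; exact h1 a
      map_mul' := fun g h => LinearMap.ext fun a => by rw [Module.End.mul_apply]; exact h2 g h a }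
  let ρ : G →* End (AlgebraicClosure (ZMod p)) (AlgebraicClosure (ZMod p) ⊗[ZMod p] A) :=
    (Module.End.baseChangeHom (ZMod p) (AlgebraicClosure (ZMod p)) A).toMonoidHom.comp ρ0
  have hfree : Module.Free (ZMod p) A := Module.Free.of_divisionRing (ZMod p) A
  have : Module.Finite (ZMod p) A := Module.Finite.of_finite
  have hrank : finrank (AlgebraicClosure (ZMod p)) (AlgebraicClosure (ZMod p) ⊗[ZMod p] A) = finrank (ZMod p) A :=
    Module.finrank_baseChange
  have hnt : Nontrivial (AlgebraicClosure (ZMod p) ⊗[ZMod p] A) :=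
    nontrivial_of_finrank_pos (R := AlgebraicClosure (ZMod p)) (by rw [hrank]; exact finrank_pos)
  have hfd : FiniteDimensional (AlgebraicClosure (ZMod p)) (AlgebraicClosure (ZMod p) ⊗[ZMod p] A) :=
    Module.Finite.base_change _ _ _
  refine ⟨AlgebraicClosure (ZMod p), inferInstance, inferInstance, AlgebraicClosure (ZMod p) ⊗[ZMod p] A,
    inferInstance, inferInstance, hfd, hnt, ρ, fun g hg w hw => ?_, ?_⟩
  · have hinj : Function.Injective ((ρ0 g - 1 : End (ZMod p) A).baseChange (AlgebraicClosure (ZMod p))) := by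
      rw [LinearMap.baseChange_eq_ltensor]
      refine Module.Flat.lTensor_preserves_injective_linearMap _ ?_
      rw [← LinearMap.ker_eq_bot, LinearMap.ker_eq_bot']
      intro a ha
      refine hfpf g hg a ?_
      rw [LinearMap.sub_apply, End.one_apply, sub_eq_zero] at ha
      exact ha
    refine hinj ?_
    rw [map_zero, LinearMap.baseChange_sub, LinearMap.sub_apply, sub_eq_zero]
    rw [show ((1 : End (ZMod p) A).baseChange (AlgebraicClosure (ZMod p))) w = w by rw [End.one_eq_id, LinearMap.baseChange_id]; rfl]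
    exact hw
  · intro e
    refine hcop ?_
    have : ((Nat.card G : ℕ) : ZMod p) = 0 := by
      apply (algebraMap (ZMod p) (AlgebraicClosure (ZMod p))).injective
      rw [map_natCast, map_zero]; exact e
    exact (ZMod.natCast_eq_zero_iff _ _).mp this

/-- The same, with `p • a = 0` instead of a module structure. -/
theorem hasFpf_of_fpf_elementary {G : Type u} [Group G] [Finite G] {A : Type v} [AddCommGroup A] [Finite A]
    [Nontrivial A] {p : ℕ} [Fact p.Prime] (hp : ∀ a : A, p • a = 0) (φ : G →* AddMonoid.End A)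
    (hfpf : ∀ g : G, g ≠ 1 → ∀ a : A, φ g a = a → a = 0) (hcop : ¬ p ∣ Nat.card G) : HasFpf.{u, v} G :=
  @hasFpf_of_fpf_module G _ _ A _ _ _ p _ (AddCommGroup.zmodModule hp) φ hfpf hcop

/-- Frobenius complements have fixed-point-free representations. -/
theorem hasFpf_of_complement {L : Type v} [Group L] [Finite L] {H : Subgroup L}
    (hH : Cfsg.IsFrobeniusComplement H) : HasFpf.{v, v} H := by
  classical
  have := Fintype.ofFinite L
  obtain ⟨K, hK, hKn, hc, hnil⟩ := Grp.frobenius_kernel_spec hH
  have hKbot := Frob.kernel_ne_bot hH hK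
  have : Nontrivial K := K.nontrivial_iff_ne_bot.mpr hKbot
  have hz : Nontrivial (Subgroup.center K) := by
    rw [Subgroup.nontrivial_iff_ne_bot]
    intro e
    have : Group.IsNilpotent K := hnil
    exact Group.IsNilpotent.center_ne_bot (G := K) e
  obtain ⟨p, hp, hpd⟩ := Nat.exists_prime_and_dvd (Finite.one_lt_card (α := Subgroup.center K)).ne'
  have := Fact.mk hp
  let A : Subgroup K :=
    { carrier := {x | x ∈ Subgroup.center K ∧ x ^ p = 1}
      one_mem' := ⟨one_mem _, one_pow p⟩
      mul_mem' := fun {a b} ha hb => ⟨mul_mem ha.1 hb.1, by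
        rw [(show Commute a b from (Subgroup.mem_center_iff.mp ha.1 b).symm).mul_pow, ha.2, hb.2, one_mul]⟩
      inv_mem' := fun {a} ha => ⟨inv_mem ha.1, by rw [inv_pow, ha.2, inv_one]⟩ }
  have hAc : IsMulCommutative A := ⟨⟨fun a b => Subtype.ext (Subgroup.mem_center_iff.mp b.2.1 a)⟩⟩
  have hA : Nontrivial A := by
    obtain ⟨a, ha⟩ := exists_prime_orderOf_dvd_card' (G := Subgroup.center K) p hpd
    rw [← Subgroup.orderOf_coe] at ha
    refine ⟨⟨⟨a, a.2, orderOf_dvd_iff_pow_eq_one.mp ha.dvd⟩, 1, fun e => ?_⟩⟩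
    have : (a : K) = 1 := congrArg Subtype.val e
    rw [this, orderOf_one] at ha
    exact hp.ne_one ha.symm
  let c : H → K → K := fun h x => ⟨(h : L) * x * (h : L)⁻¹, hKn.conj_mem x x.2 h⟩
  have cmem : ∀ (h : H) (a : A), c h a ∈ A := fun h a => by
    refine ⟨Subgroup.mem_center_iff.mpr fun y => ?_, ?_⟩
    · refine Subtype.ext ?_
      have := congrArg Subtype.val (Subgroup.mem_center_iff.mp a.2.1 (c h⁻¹ y))
      simp only [c, Subgroup.coe_mul, Subgroup.coe_inv, inv_inv] at this ⊢
      calc (y : L) * ((h : L) * (a : K) * (h : L)⁻¹)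
          = (h : L) * ((h : L)⁻¹ * y * h * (a : K)) * (h : L)⁻¹ := by group
        _ = (h : L) * ((a : K) * ((h : L)⁻¹ * y * h)) * (h : L)⁻¹ := by rw [this]
        _ = (h : L) * (a : K) * (h : L)⁻¹ * y := by group
    · refine Subtype.ext ?_
      simp only [c, Subgroup.coe_pow, Subgroup.coe_one, conj_pow]
      rw [← Subgroup.coe_pow, a.2.2, Subgroup.coe_one, mul_one, mul_inv_cancel]
  letI : CommGroup A := { (inferInstance : Group A) with mul_comm := fun a b => hAc.is_comm.comm a b }
  let φ : H →* AddMonoid.End (Additive A) :=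
    { toFun := fun h => MonoidHom.toAdditive
        { toFun := fun a : A => (⟨c h a, cmem h a⟩ : A)
          map_one' := Subtype.ext (Subtype.ext (by simp [c]))
          map_mul' := fun a b => Subtype.ext (Subtype.ext (by simp [c, mul_assoc])) }
      map_one' := AddMonoidHom.ext fun a => Subtype.ext (Subtype.ext (by
        show ((1 : H) : L) * ((Additive.toMul a : A) : K) * ((1 : H) : L)⁻¹ = _
        simp; rfl))
      map_mul' := fun g h => AddMonoidHom.ext fun a => Subtype.ext (Subtype.ext (by
        show ((g * h : H) : L) * ((Additive.toMul a : A) : K) * ((g * h : H) : L)⁻¹ =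
          (g : L) * ((h : L) * ((Additive.toMul a : A) : K) * (h : L)⁻¹) * (g : L)⁻¹
        simp [mul_assoc])) }
  have : Finite (Additive A) := inferInstanceAs (Finite A)
  have : Nontrivial (Additive A) := inferInstanceAs (Nontrivial A)
  refine hasFpf_of_fpf_elementary (p := p) (A := Additive A) (fun a => ?_) φ (fun g hg a ha => ?_) ?_
  · exact congrArg Additive.ofMul (show (Additive.toMul a : A) ^ p = 1 from Subtype.ext (Additive.toMul a : A).2.2)
  · have e : (g : L) * ((Additive.toMul a : A) : K) * (g : L)⁻¹ = (((Additive.toMul a : A) : K) : L) :=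
      congrArg (fun t : Additive A => (((Additive.toMul t : A) : K) : L)) ha
    have hmem : (((Additive.toMul a : A) : K) : L) ∈ K ⊓ Subgroup.centralizer {(g : L)} :=
      ⟨((Additive.toMul a : A) : K).2, Subgroup.mem_centralizer_singleton_iff.mpr (mul_inv_eq_iff_eq_mul.mp e).symm⟩
    have hle : K ⊓ Subgroup.centralizer {(g : L)} ≤ ⊥ := by
      rw [← Frob.kernel_inf_eq_bot hK]
      exact inf_le_inf_left _ (Frob.centralizer_le hH g.2 fun e => hg (Subtype.ext e))
    have h1 := Subgroup.mem_bot.mp (hle hmem)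
    exact congrArg Additive.ofMul (show (Additive.toMul a : A) = 1 from Subtype.ext (Subtype.ext h1))
  · intro hd
    have hcop := Frob.coprime_card_index hH
    rw [← Frob.kernel_card hH hK] at hcop
    have hd2 : p ∣ Nat.card K := hpd.trans (Subgroup.card_subgroup_dvd_card _)
    exact hp.ne_one (Nat.eq_one_of_dvd_coprimes hcop hd hd2)

theorem HasFpf.of_injective {G : Type u} [Group G] {H : Type*} [Group H] [Finite G] (h : HasFpf.{u, v} G)
    (f : H →* G) (hf : Function.Injective f) : HasFpf.{_, v} H := by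
  obtain ⟨k, _, _, V, _, _, _, _, ρ, hfpf, hc⟩ := h
  refine ⟨k, inferInstance, inferInstance, V, inferInstance, inferInstance, inferInstance, inferInstance,
    ρ.comp f, fun g hg w hw => hfpf (f g) (fun e => hg (hf (by rw [e, map_one]))) w hw, fun e => ?_⟩
  obtain ⟨t, ht⟩ := Subgroup.card_dvd_of_injective f hf
  exact hc (by rw [ht, Nat.cast_mul, e, zero_mul])

theorem HasFpf.isSolvable_of_odd {G : Type u} [Group G] [Finite G] (h : HasFpf.{u, v} G)
    (hodd : Odd (Nat.card G)) : Group.IsSolvable G := by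
  obtain ⟨k, _, _, V, _, _, _, _, ρ, hfpf, -⟩ := h
  exact Zas.isSolvable_of_odd ρ hfpf hodd

theorem HasFpf.sylow_cyclic {G : Type u} [Group G] [Finite G] (h : HasFpf.{u, v} G) {p : ℕ} [Fact p.Prime]
    (hp : p ≠ 2) (P : Sylow p G) : IsCyclic (P : Subgroup G) := by
  obtain ⟨k, _, _, V, _, _, _, _, ρ, hfpf, -⟩ := h
  exact sylow_cyclic_of_fpf ρ hfpf hp P

/-- An even fixed-point-free group has a representation in odd characteristic. -/
theorem HasFpf.exists_fpfRep {G : Type u} [Group G] [Finite G] (h : HasFpf.{u, v} G) (heven : Even (Nat.card G)) :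
    ∃ (k : Type) (_ : Field k) (_ : IsAlgClosed k) (V : Type v) (_ : AddCommGroup V) (_ : Module k V)
      (_ : FiniteDimensional k V) (_ : Nontrivial V) (ρ : G →* End k V), FpfRep ρ := by
  obtain ⟨k, i1, i2, V, i3, i4, i5, i6, ρ, hfpf, hc⟩ := h
  refine ⟨k, i1, i2, V, i3, i4, i5, i6, ρ, hfpf, hc, fun e => hc ?_⟩
  obtain ⟨t, ht⟩ := heven
  rw [ht, ← two_mul, Nat.cast_mul, Nat.cast_two, e, zero_mul]

/-- The structure of nonsolvable groups with a fixed-point-free representation. -/
theorem HasFpf.structure_nonsolvable {G : Type u} [Group G] [Finite G] (h : HasFpf.{u, v} G)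
    (hns : ¬ Group.IsSolvable G) :
    (allPts G).card = 10 ∧ ∃ M : Subgroup G, IcoStructure (threeCore G) M ∧
      Nonempty (threeCore G ≃* Matrix.SpecialLinearGroup (Fin 2) (ZMod 5)) := by
  have heven : Even (Nat.card G) := by
    by_contra hodd
    exact hns (h.isSolvable_of_odd (Nat.not_even_iff_odd.mp hodd))
  obtain ⟨k, _, _, V, _, _, _, _, ρ, hr⟩ := h.exists_fpfRep heven
  obtain ⟨M, -, hM⟩ := hr.structure_nonsolvable hns
  exact ⟨hr.card_allPts_of_not_solvable hns, M, hM, hM.ico.nonempty_mulEquiv binaryIco_SL25⟩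

theorem not_isSolvable_of_binaryIco {E : Type*} [Group E] [Finite E] (h : BinaryIco E) : ¬ Group.IsSolvable E := by
  intro hs
  obtain ⟨f, hf, -⟩ := h.cover
  have h5 : Group.IsSolvable (alternatingGroup (Fin 5)) := Group.isSolvable_of_surjective hf
  have hsimple : IsSimpleGroup (alternatingGroup (Fin 5)) := alternatingGroup.isSimpleGroup_five
  obtain ⟨a, b, hab⟩ : ∃ a b : alternatingGroup (Fin 5), a * b ≠ b * a := by decide +kernel
  exact hab (IsSimpleGroup.comm_iff_isSolvable.mpr h5 a b)

end Cfsg.Agent.Grp.Zas
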