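import Mathlib
import Cfsg.Prelude.Def_Solvable
import Cfsg.Agent.S0016
import Cfsg.Agent.Lib.Grp.Zassenhaus.Complement

/-!
# Basic properties of groups with a fixed-point-free representation

Sylow subgroups, elements of prime order, the centre, and passage from a fixed-point-free action to a
Frobenius complement.
-/

set_option autoImplicit false

namespace Cfsg.Agent.Grp.Zas

open Module
open scoped Pointwise

universe u v

/-- A complement of a normal subgroup that acts fixed-point-freely on it is a Frobenius complement. -/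
theorem isFrobeniusComplement_of_isComplement' {G : Type*} [Group G] {K H : Subgroup G} [K.Normal]
    (hc : Subgroup.IsComplement' K H) (hK : K ≠ ⊥) (hH : H ≠ ⊥)
    (hfpf : ∀ h ∈ H, h ≠ 1 → K ⊓ Subgroup.centralizer {h} = ⊥) : Cfsg.IsFrobeniusComplement H := by
  have hd : Disjoint K H := hc.disjoint
  refine ⟨hH, fun e => hK ?_, fun g hg => ?_⟩
  · rw [e] at hd
    exact disjoint_top.mp hd
  rw [Subgroup.eq_bot_iff_forall]
  rintro x ⟨hx, hxg⟩
  obtain ⟨⟨⟨k, hk⟩, ⟨h, hh⟩⟩, hkh⟩ := hc.surjective g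
  have hg' : k * h = g := hkh
  replace hxg : g⁻¹ * x * g ∈ H := by
    have h1 := Subgroup.mem_pointwise_smul_iff_inv_smul_mem.mp (show x ∈ MulAut.conj g • H from hxg)
    simpa [MulAut.smul_def, mul_assoc] using h1
  set y := h * (g⁻¹ * x * g) * h⁻¹ with hy
  have hyH : y ∈ H := mul_mem (mul_mem hh hxg) (inv_mem hh)
  have hxy : x = k * y * k⁻¹ := by rw [hy, ← hg']; group
  have hcm : x * y⁻¹ ∈ K := by
    rw [hxy, show k * y * k⁻¹ * y⁻¹ = k * (y * k⁻¹ * y⁻¹) by group]
    exact mul_mem hk ((inferInstance : K.Normal).conj_mem _ (inv_mem hk) y)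
  have hxe : x = y := by
    have := Subgroup.disjoint_def.mp hd hcm (mul_mem hx (inv_mem hyH))
    exact mul_inv_eq_one.mp this
  by_contra hx1
  have hkc : k ∈ K ⊓ Subgroup.centralizer {x} :=
    ⟨hk, Subgroup.mem_centralizer_singleton_iff.mpr (by
      conv_rhs => rw [hxy]
      rw [hxe]; group)⟩
  rw [hfpf x hx hx1, Subgroup.mem_bot] at hkc
  refine hg ?_
  rw [← hg', hkc, one_mul]
  exact hh

/-- The semidirect product by a fixed-point-free group of automorphisms is a Frobenius group. -/
theorem hasFpf_of_fpf_aut {H : Type u} {K : Type u} [Group H] [Group K] [Finite H] [Finite K] [Nontrivial K]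
    [Nontrivial H] (φ : H →* MulAut K) (hfpf : ∀ h : H, h ≠ 1 → ∀ k : K, φ h k = k → k = 1) :
    HasFpf.{u, u} H := by
  have : Finite (SemidirectProduct K H φ) := Finite.of_equiv _ SemidirectProduct.equivProd.symm
  let N : Subgroup (SemidirectProduct K H φ) := (SemidirectProduct.rightHom (φ := φ)).ker
  let C : Subgroup (SemidirectProduct K H φ) := (SemidirectProduct.inr (φ := φ)).range
  have hNC : Subgroup.IsComplement' N C := by
    refine Subgroup.isComplement'_of_disjoint_and_mul_eq_univ ?_ (Set.eq_univ_of_forall fun g => ?_)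
    · rw [Subgroup.disjoint_def]
      rintro _ hx ⟨h, rfl⟩
      have : h = 1 := by simpa [N] using hx
      rw [this, map_one]
    · refine ⟨g * (SemidirectProduct.inr g.right)⁻¹, ?_, SemidirectProduct.inr g.right, ⟨_, rfl⟩, inv_mul_cancel_right _ _⟩
      show SemidirectProduct.rightHom _ = 1
      simp
  have hC : Cfsg.IsFrobeniusComplement C := by
    refine isFrobeniusComplement_of_isComplement' hNC ?_ ?_ ?_
    · obtain ⟨k, hk⟩ := exists_ne (1 : K)
      intro e
      have hm : SemidirectProduct.inl k ∈ N := by simp [N]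
      rw [e, Subgroup.mem_bot] at hm
      exact hk (SemidirectProduct.inl_injective (by rw [hm, map_one]))
    · obtain ⟨h, hh⟩ := exists_ne (1 : H)
      intro e
      have hm : SemidirectProduct.inr h ∈ C := ⟨h, rfl⟩
      rw [e, Subgroup.mem_bot] at hm
      exact hh (SemidirectProduct.inr_injective (by rw [hm, map_one]))
    · rintro _ ⟨h, rfl⟩ hh
      rw [Subgroup.eq_bot_iff_forall]
      rintro x ⟨hx, hxc⟩
      have hx' : x.right = 1 := hx
      have h2 := congrArg SemidirectProduct.left (Subgroup.mem_centralizer_singleton_iff.mp hxc)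
      simp [SemidirectProduct.mul_left, hx'] at h2
      refine SemidirectProduct.ext ?_ hx'
      exact hfpf h (fun e => hh (by rw [e, map_one])) _ h2.symm
  exact (hasFpf_of_complement hC).of_injective
    (MonoidHom.ofInjective (SemidirectProduct.inr_injective (φ := φ))).toMonoidHom
    (MulEquiv.injective _)

/-- Even fixed-point-free groups have a unique involution, which is central. -/
theorem HasFpf.involution {G : Type u} [Group G] [Finite G] (h : HasFpf.{u, v} G) {z : G} (hz : orderOf z = 2) :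
    z ∈ Subgroup.center G ∧ ∀ y : G, orderOf y = 2 → y = z := by
  obtain ⟨k, _, _, V, _, _, _, _, ρ, hr⟩ := h.exists_fpfRep (even_iff_two_dvd.mpr (hz ▸ orderOf_dvd_natCard z))
  exact ⟨Subgroup.mem_center_iff.mpr (hr.involution_central hz), fun y hy => hr.involution_unique hy hz⟩

/-- Sylow subgroups of fixed-point-free groups are cyclic or generalized quaternion. -/
theorem HasFpf.sylow_cases {G : Type u} [Group G] [Finite G] (h : HasFpf.{u, v} G) {p : ℕ} [Fact p.Prime]
    (P : Sylow p G) :
    IsCyclic (P : Subgroup G) ∨ (p = 2 ∧ ∃ n : ℕ, Nonempty ((P : Subgroup G) ≃* QuaternionGroup (2 ^ n))) := by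
  by_cases hp : p = 2
  swap
  · exact Or.inl (h.sylow_cyclic hp P)
  subst hp
  refine S0016.result 2 P.isPGroup' fun A B hA hB => ?_
  obtain ⟨a, ha⟩ := exists_prime_orderOf_dvd_card' (G := A) 2 (by rw [hA])
  obtain ⟨b, hb⟩ := exists_prime_orderOf_dvd_card' (G := B) 2 (by rw [hB])
  rw [← Subgroup.orderOf_coe] at ha hb
  have e : (a : (P : Subgroup G)) = (b : (P : Subgroup G)) := Subtype.ext
    ((h.involution (z := ((b : (P : Subgroup G)) : G)) (by rw [Subgroup.orderOf_coe, hb])).2
      ((a : (P : Subgroup G)) : G) (by rw [Subgroup.orderOf_coe, ha]))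
  have e1 : Subgroup.zpowers (a : (P : Subgroup G)) = A := Subgroup.eq_of_le_of_card_ge
    (Subgroup.zpowers_le.mpr a.2) (by rw [Nat.card_zpowers, ha, hA])
  have e2 : Subgroup.zpowers (b : (P : Subgroup G)) = B := Subgroup.eq_of_le_of_card_ge
    (Subgroup.zpowers_le.mpr b.2) (by rw [Nat.card_zpowers, hb, hB])
  rw [← e1, ← e2, e]

/-- Subgroups of order `pq` are cyclic: an element of order `q` centralizes each subgroup of prime order `p`
that it normalizes. -/
theorem HasFpf.commute_of_normalize {G : Type u} [Group G] [Finite G] (h : HasFpf.{u, v} G) {p q : ℕ}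
    [hp : Fact p.Prime] [hq : Fact q.Prime] {y z : G} (hy : orderOf y = p) (hz : orderOf z = q)
    (hn : z * y * z⁻¹ ∈ Subgroup.zpowers y) : Commute z y := by
  classical
  by_contra hnc
  obtain ⟨k, _, _, V, _, _, _, _, ρ, hfpf, hcard⟩ := h
  have hsum : ∀ {g : G} {n : ℕ}, g ≠ 1 → g ^ n = 1 → ∑ i ∈ Finset.range n, ρ (g ^ i) = 0 := by
    intro g n hg hgn
    have h0 : (ρ g - 1) * ∑ i ∈ Finset.range n, ρ g ^ i = 0 := by rw [mul_geom_sum, ← map_pow, hgn, map_one, sub_self]
    simp only [map_pow]
    ext w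
    refine hfpf g hg _ ?_
    have := LinearMap.congr_fun h0 w
    simpa [sub_eq_zero] using this
  have hy1 : y ≠ 1 := fun e => hp.out.ne_one (by rw [← hy, e, orderOf_one])
  have hz1 : z ≠ 1 := fun e => hq.out.ne_one (by rw [← hz, e, orderOf_one])
  set Y := Subgroup.zpowers y with hY
  let _ := Fintype.ofFinite Y
  have hYs : ∑ c : Y, ρ c = 0 := by
    ext w
    refine hfpf y hy1 _ ?_
    rw [← End.mul_apply, Finset.mul_sum]
    refine LinearMap.congr_fun ?_ w
    refine Fintype.sum_equiv (Equiv.mulLeft (⟨y, Subgroup.mem_zpowers y⟩ : Y)) _ _ fun c => ?_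
    simp [← map_mul]
  have hnorm : ∀ j : ℕ, ∀ c ∈ Y, z ^ j * c * (z ^ j)⁻¹ ∈ Y := by
    intro j
    induction j with
    | zero => simp
    | succ j ih =>
      intro c hc
      obtain ⟨i, hi⟩ := Subgroup.mem_zpowers_iff.mp (ih c hc)
      rw [show z ^ (j + 1) * c * (z ^ (j + 1))⁻¹ = (z * y * z⁻¹) ^ i by rw [conj_zpow, hi, pow_succ']; group]
      exact zpow_mem hn i
  have hzero : ∀ j : ℕ, z ^ j ≠ 1 → ∑ c : Y, ρ ((c : G) * z ^ j * (c : G)⁻¹) = 0 := by
    intro j hj
    set w := z ^ j with hw
    let f : Y → Y := fun c => ⟨(c : G) * (w * (c : G)⁻¹ * w⁻¹), mul_mem c.2 (hnorm j _ (inv_mem c.2))⟩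
    have hf : Function.Injective f := by
      intro c d e
      have e' : (c : G) * (w * (c : G)⁻¹ * w⁻¹) = (d : G) * (w * (d : G)⁻¹ * w⁻¹) := congrArg Subtype.val e
      by_contra hcd
      set t : Y := d⁻¹ * c with ht
      have ht1 : t ≠ 1 := fun e1 => hcd (inv_mul_eq_one.mp e1).symm
      have htc : Commute w (t : G) := by
        show w * (t : G) = (t : G) * w
        rw [ht, Subgroup.coe_mul, Subgroup.coe_inv]
        calc w * ((d : G)⁻¹ * c) = (d : G)⁻¹ * ((d : G) * (w * (d : G)⁻¹ * w⁻¹)) * (w * c) := by group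
          _ = (d : G)⁻¹ * ((c : G) * (w * (c : G)⁻¹ * w⁻¹)) * (w * c) := by rw [e']
          _ = (d : G)⁻¹ * c * w := by group
      have hgen : y ∈ Subgroup.zpowers (t : G) := by
        have e1 : Subgroup.zpowers (t : G) = Y := Subgroup.eq_of_le_of_card_ge (Subgroup.zpowers_le.mpr t.2) (by
          have hd : orderOf (t : G) ∣ p := by
            rw [Subgroup.orderOf_coe]
            have := orderOf_dvd_natCard t
            have hcY : Nat.card Y = p := by rw [hY, Nat.card_zpowers, hy]
            rwa [hcY] at this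
          rcases (Nat.dvd_prime hp.out).mp hd with e2 | e2
          · exact absurd (Subtype.ext (orderOf_eq_one_iff.mp e2)) ht1
          · rw [Nat.card_zpowers, Nat.card_zpowers, e2, hy])
        rw [e1]; exact Subgroup.mem_zpowers y
      obtain ⟨i, hi⟩ := hgen
      have hzw : z ∈ Subgroup.zpowers w := by
        have e1 : Subgroup.zpowers w = Subgroup.zpowers z := Subgroup.eq_of_le_of_card_ge
          (Subgroup.zpowers_le.mpr (hw ▸ Subgroup.npow_mem_zpowers z j)) (by
          have hd : orderOf w ∣ q := by rw [hw, ← hz]; exact orderOf_pow_dvd j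
          rcases (Nat.dvd_prime hq.out).mp hd with e2 | e2
          · exact absurd (orderOf_eq_one_iff.mp e2) hj
          · rw [Nat.card_zpowers, Nat.card_zpowers, e2, hz])
        rw [e1]; exact Subgroup.mem_zpowers z
      obtain ⟨l, hl⟩ := hzw
      have := (htc.zpow_right i).zpow_left l
      dsimp only at hi hl
      rw [hi, hl] at this
      exact hnc this
    have key : ∀ c : Y, (c : G) * w * (c : G)⁻¹ = (f c : G) * w := fun c => by simp [f, mul_assoc]
    simp_rw [key, map_mul, ← Finset.sum_mul]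
    rw [(Fintype.sum_equiv (Equiv.ofBijective f (Finite.injective_iff_bijective.mp hf)) (fun c => ρ (f c : G))
      (fun c => ρ (c : G)) fun c => rfl), hYs, zero_mul]
  have key : ∑ j ∈ Finset.range q, ∑ c : Y, ρ ((c : G) * z ^ j * (c : G)⁻¹) = 0 := by
    rw [Finset.sum_comm]
    refine Finset.sum_eq_zero fun c _ => ?_
    simp_rw [map_mul, ← Finset.sum_mul, ← Finset.mul_sum]
    rw [hsum hz1 (hz ▸ pow_orderOf_eq_one z), mul_zero, zero_mul]
  rw [Finset.sum_eq_single 0 (fun j hj hj0 => hzero j fun e => by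
      have := Nat.le_of_dvd (Nat.pos_of_ne_zero hj0) (orderOf_dvd_of_pow_eq_one e)
      rw [hz] at this
      exact absurd (Finset.mem_range.mp hj) (not_lt.mpr this))
    (fun e => absurd (Finset.mem_range.mpr hq.out.pos) e)] at key
  simp only [pow_zero, mul_one, mul_inv_cancel, map_one, Finset.sum_const, Finset.card_univ] at key
  obtain ⟨w, hw⟩ := exists_ne (0 : V)
  have hp0 : ((p : ℕ) : k) = 0 := by
    have h1 := LinearMap.congr_fun key w
    rw [← Nat.card_eq_fintype_card, Nat.card_zpowers, hy] at h1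
    simpa [← Nat.cast_smul_eq_nsmul k, hw] using h1
  obtain ⟨t, ht⟩ := hy ▸ orderOf_dvd_natCard y
  exact hcard (by rw [ht, Nat.cast_mul, hp0, zero_mul])

/-- An element of prime order `q` centralizes a normal cyclic subgroup of order prime to `q`. -/
theorem HasFpf.commute_of_cyclic_normal {G : Type u} [Group G] [Finite G] (h : HasFpf.{u, v} G) {q : ℕ}
    [hq : Fact q.Prime] {y z : G} (hz : orderOf z = q) (hqm : ¬ q ∣ orderOf y)
    (hn : z * y * z⁻¹ ∈ Subgroup.zpowers y) : Commute z y := by
  obtain ⟨s, hs⟩ := Subgroup.mem_zpowers_iff.mp hn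
  set m := orderOf y with hm
  have hpow : ∀ j : ℕ, y ^ (s ^ j) = z ^ j * y * (z ^ j)⁻¹ := by
    intro j
    induction j with
    | zero => simp
    | succ j ih =>
      rw [pow_succ, mul_comm, zpow_mul, hs, conj_zpow, ih, pow_succ']; group
  have hsq : (m : ℤ) ∣ s ^ q - 1 := by
    rw [hm, orderOf_dvd_sub_iff_zpow_eq_zpow, hpow, ← hz, pow_orderOf_eq_one, one_mul, inv_one, mul_one, zpow_one]
  have hfix : ∀ p : ℕ, p.Prime → p ∣ m → (p : ℤ) ∣ s - 1 := by
    intro p hp hpm
    have := Fact.mk hp
    set y' := y ^ (m / p) with hy'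
    have ho : orderOf y' = p := orderOf_pow_orderOf_div (orderOf_pos y).ne' hpm
    have hc : z * y' * z⁻¹ = y' ^ s := by
      rw [hy', ← conj_pow, ← hs, ← zpow_natCast, ← zpow_natCast, ← zpow_mul, ← zpow_mul, mul_comm]
    have := h.commute_of_normalize ho hz (hc ▸ zpow_mem (Subgroup.mem_zpowers y') s)
    rw [← ho, orderOf_dvd_sub_iff_zpow_eq_zpow, ← hc, zpow_one, this.eq, mul_inv_cancel_right]
  have hgeom := mul_geom_sum s q
  set S := ∑ i ∈ Finset.range q, s ^ i with hS
  have hcop : IsCoprime (m : ℤ) S := by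
    rw [Int.isCoprime_iff_gcd_eq_one]
    by_contra hne
    obtain ⟨p, hp, hpd⟩ := Nat.exists_prime_and_dvd hne
    have hpm : p ∣ m := by
      have := (Int.natCast_dvd_natCast.mpr hpd).trans (Int.gcd_dvd_left (m : ℤ) S)
      exact_mod_cast this
    have hpS : (p : ℤ) ∣ S := (Int.natCast_dvd_natCast.mpr hpd).trans (Int.gcd_dvd_right (m : ℤ) S)
    have hpq : (p : ℤ) ∣ S - q := by
      rw [hS, show (q : ℤ) = ∑ _i ∈ Finset.range q, (1 : ℤ) by simp, ← Finset.sum_sub_distrib]
      exact Finset.dvd_sum fun i _ => (hfix p hp hpm).trans (by simpa using sub_dvd_pow_sub_pow s 1 i)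
    have : (p : ℤ) ∣ q := by simpa using dvd_sub hpS hpq
    rw [Int.natCast_dvd_natCast, Nat.prime_dvd_prime_iff_eq hp hq.out] at this
    exact hqm (this ▸ hpm)
  have h1 : (m : ℤ) ∣ s - 1 := hcop.dvd_of_dvd_mul_right (hgeom.symm ▸ hsq)
  rw [hm, orderOf_dvd_sub_iff_zpow_eq_zpow, zpow_one, hs] at h1
  exact mul_inv_eq_iff_eq_mul.mp h1

/-- If `G'` is cyclic, every element of prime order not dividing `|G'|` is central. -/
theorem HasFpf.mem_center_of_prime {G : Type u} [Group G] [Finite G] (h : HasFpf.{u, v} G)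
    [IsCyclic (commutator G)] {q : ℕ} [hq : Fact q.Prime] {z : G} (hz : orderOf z = q)
    (hqd : ¬ q ∣ Nat.card (commutator G)) : z ∈ Subgroup.center G := by
  have hcomm : ∀ a ∈ commutator G, Commute z a := by
    intro a ha
    obtain ⟨⟨y, hy⟩, hgen⟩ := IsCyclic.exists_generator (α := commutator G)
    have hmem : ∀ b ∈ commutator G, b ∈ Subgroup.zpowers y := fun b hb => by
      obtain ⟨i, hi⟩ := hgen ⟨b, hb⟩
      exact ⟨i, congrArg Subtype.val hi⟩
    have hc := h.commute_of_cyclic_normal hz (fun hd => hqd (hd.trans ((commutator G).orderOf_dvd_natCard hy)))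
      (hmem _ ((inferInstance : (commutator G).Normal).conj_mem y hy z))
    obtain ⟨i, hi⟩ := hmem a ha
    rw [← hi]
    exact hc.zpow_right i
  rw [Subgroup.mem_center_iff]
  intro g
  have hc : g * z * g⁻¹ * z⁻¹ ∈ commutator G := by
    rw [commutator_def, ← commutatorElement_def]
    exact Subgroup.commutator_mem_commutator (Subgroup.mem_top g) (Subgroup.mem_top z)
  set c := g * z * g⁻¹ * z⁻¹ with hcd
  have h1 : (c * z) ^ q = 1 := by
    rw [show c * z = g * z * g⁻¹ by rw [hcd]; group, conj_pow, ← hz, pow_orderOf_eq_one, mul_one, mul_inv_cancel]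
  rw [(hcomm c hc).symm.mul_pow, ← hz, pow_orderOf_eq_one, mul_one, hz] at h1
  have h2 : c = 1 := by
    rcases (Nat.dvd_prime hq.out).mp (orderOf_dvd_of_pow_eq_one h1) with e | e
    · exact orderOf_eq_one_iff.mp e
    · exact absurd (e ▸ (commutator G).orderOf_dvd_natCard hc) hqd
  rw [hcd, mul_inv_eq_one] at h2
  exact mul_inv_eq_iff_eq_mul.mp h2

/-- Nontrivial groups with a fixed-point-free representation have nontrivial centre. -/
theorem HasFpf.center_ne_bot {G : Type u} [Group G] [Finite G] [Nontrivial G] (h : HasFpf.{u, v} G) :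
    Subgroup.center G ≠ ⊥ := by
  intro hc
  have key : ∀ z : G, z ≠ 1 → z ∉ Subgroup.center G := fun z hz hm => hz (Subgroup.mem_bot.mp (hc ▸ hm))
  rcases Nat.even_or_odd (Nat.card G) with he | ho
  · obtain ⟨z, hz⟩ := exists_prime_orderOf_dvd_card' 2 (even_iff_two_dvd.mp he)
    exact key z (fun e => by simp [e] at hz) (h.involution hz).1
  have : IsZGroup G := ⟨fun p hp P => by
    haveI := Fact.mk hp
    rcases h.sylow_cases P with h1 | ⟨rfl, n, ⟨e⟩⟩
    · exact h1
    · exfalso
      have h1 : 2 ∣ Nat.card G := by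
        refine dvd_trans ?_ (Subgroup.card_subgroup_dvd_card (P : Subgroup G))
        have : NeZero (2 ^ n) := ⟨by positivity⟩
        rw [Nat.card_congr e.toEquiv, Nat.card_eq_fintype_card, QuaternionGroup.card]
        exact ⟨2 * 2 ^ n, by ring⟩
      rw [Nat.odd_iff] at ho
      omega⟩
  have := IsZGroup.isCyclic_commutator G
  by_cases hidx : (commutator G).index = 1
  · have := h.isSolvable_of_odd ho
    rw [Subgroup.index_eq_one] at hidx
    exact not_subsingleton G ((Group.IsSolvable.commutator_lt_top_of_nontrivial G).ne hidx).elim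
  obtain ⟨q, hq, hqd⟩ := Nat.exists_prime_and_dvd hidx
  have := Fact.mk hq
  obtain ⟨z, hz⟩ := exists_prime_orderOf_dvd_card' (G := G) q (hqd.trans (Subgroup.index_dvd_card _))
  refine key z (fun e => hq.ne_one (by rw [← hz, e, orderOf_one])) (h.mem_center_of_prime hz fun hd => ?_)
  exact Nat.not_coprime_of_dvd_of_dvd hq.one_lt hd hqd (IsZGroup.coprime_commutator_index G)

end Cfsg.Agent.Grp.Zas
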