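import Mathlib
import Cfsg.Prelude.Def_Solvable
import Cfsg.Agent.S0016
import Cfsg.Agent.Lib.Fus.DihedralAut
import Cfsg.Agent.Lib.Grp.Solvable
import Cfsg.Agent.Lib.Grp.Zassenhaus.Solvability

/-!
# Solvable groups of two-rank one with trivial odd core

Such a group is a cyclic or quaternion `2`-group, or an extension of a group of order two by `A₄` or `S₄`.
-/

set_option autoImplicit false

namespace Cfsg.Agent.Grp.Zas

universe u

abbrev Q8 := QuaternionGroup 2

theorem q8_gen : ∀ x : Q8, ∃ i : Fin 4, x = QuaternionGroup.a 1 ^ (i : ℕ) ∨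
    x = QuaternionGroup.xa 0 * QuaternionGroup.a 1 ^ (i : ℕ) := by decide

theorem q8_aut_ext {φ ψ : MulAut Q8} (h1 : φ (QuaternionGroup.a 1) = ψ (QuaternionGroup.a 1))
    (h2 : φ (QuaternionGroup.xa 0) = ψ (QuaternionGroup.xa 0)) : φ = ψ := by
  refine MulEquiv.ext fun x => ?_
  obtain ⟨i, rfl | rfl⟩ := q8_gen x
  · rw [map_pow, map_pow, h1]
  · rw [map_mul, map_mul, map_pow, map_pow, h1, h2]

theorem q8_pairs : Fintype.card {q : Q8 × Q8 // q.1 * q.1 ≠ 1 ∧ q.2 * q.2 ≠ 1 ∧ q.1 * q.2 ≠ q.2 * q.1} = 24 := by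
  decide +kernel

theorem q8_central : Fintype.card {x : Q8 // ∀ y, x * y = y * x} = 2 := by decide +kernel

theorem q8_aut_card_le : Nat.card (MulAut Q8) ≤ 24 := by
  rw [← q8_pairs, ← Nat.card_eq_fintype_card]
  refine Nat.card_le_card_of_injective (fun φ : MulAut Q8 => (⟨(φ (QuaternionGroup.a 1), φ (QuaternionGroup.xa 0)),
    ?_, ?_, ?_⟩ : {q : Q8 × Q8 // q.1 * q.1 ≠ 1 ∧ q.2 * q.2 ≠ 1 ∧ q.1 * q.2 ≠ q.2 * q.1})) fun φ ψ e => ?_
  · simp only [← map_mul]; rw [Ne, MulEquiv.map_eq_one_iff]; decide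
  · simp only [← map_mul]; rw [Ne, MulEquiv.map_eq_one_iff]; decide
  · simp only [← map_mul, ne_eq, EmbeddingLike.apply_eq_iff_eq]; decide
  · have e' := congrArg Subtype.val e
    exact q8_aut_ext (congrArg Prod.fst e') (congrArg Prod.snd e')

theorem q8_inner : Nat.card (MulAut.conj (G := Q8)).range = 4 := by
  have hker : Nat.card (MulAut.conj (G := Q8)).ker = 2 := by
    refine Eq.trans (Nat.card_congr (Equiv.subtypeEquivRight fun x => ?_)) (Nat.card_eq_fintype_card.trans q8_central)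
    rw [MonoidHom.mem_ker]
    refine ⟨fun h y => ?_, fun h => MulEquiv.ext fun y => ?_⟩
    · have := congrArg (fun f : MulAut Q8 => f y) h
      simp only [MulAut.conj_apply, MulAut.one_apply] at this
      exact mul_inv_eq_iff_eq_mul.mp this
    · rw [MulAut.conj_apply, h y, mul_inv_cancel_right, MulAut.one_apply]
  have h := (MulAut.conj (G := Q8)).ker.card_mul_index
  rw [Subgroup.index_ker, hker] at h
  have h8 : Nat.card Q8 = 8 := by rw [Nat.card_eq_fintype_card]; rfl
  omega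

/-- The inner automorphisms of `Q₈` are their own centralizer. -/
theorem q8_centralizer_inner {φ : MulAut Q8}
    (h : ∀ ψ ∈ (MulAut.conj (G := Q8)).range, φ * ψ = ψ * φ) : φ ∈ (MulAut.conj (G := Q8)).range := by
  classical
  set S : Set (MulAut Q8) := {φ | ∀ x y, φ x * x⁻¹ * y = y * (φ x * x⁻¹)} with hS
  have hsub : ((MulAut.conj (G := Q8)).range : Set (MulAut Q8)) ⊆ S := by
    rintro _ ⟨r, rfl⟩ x y
    simp only [MulAut.conj_apply]
    revert r x y
    decide +kernel
  have hcard : S.ncard ≤ 4 := by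
    rw [← Nat.card_coe_set_eq, show 4 = Nat.card ({x : Q8 // ∀ y, x * y = y * x} × {x : Q8 // ∀ y, x * y = y * x}) by
      rw [Nat.card_prod, Nat.card_eq_fintype_card, q8_central]]
    refine Nat.card_le_card_of_injective (fun φ : S =>
      ((⟨(φ : MulAut Q8) (QuaternionGroup.a 1) * (QuaternionGroup.a 1)⁻¹, φ.2 _⟩ : {x : Q8 // ∀ y, x * y = y * x}),
       (⟨(φ : MulAut Q8) (QuaternionGroup.xa 0) * (QuaternionGroup.xa 0)⁻¹, φ.2 _⟩ : {x : Q8 // ∀ y, x * y = y * x})))
      fun φ ψ e => Subtype.ext ?_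
    exact q8_aut_ext (mul_right_cancel (congrArg Subtype.val (congrArg Prod.fst e)))
      (mul_right_cancel (congrArg Subtype.val (congrArg Prod.snd e)))
  have heq := Set.eq_of_subset_of_ncard_le hsub (by
    rw [← Nat.card_coe_set_eq ((MulAut.conj (G := Q8)).range : Set (MulAut Q8))]
    exact hcard.trans_eq q8_inner.symm) (Set.toFinite _)
  rw [← SetLike.mem_coe, heq]
  intro x y
  have hx := congrArg (fun f : MulAut Q8 => f (φ y)) (h (MulAut.conj x) ⟨x, rfl⟩)
  simp only [MulAut.mul_apply, MulAut.conj_apply, map_mul, map_inv] at hx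
  have hy : ∀ t, φ x * t * (φ x)⁻¹ = x * t * x⁻¹ := by
    intro t
    have hx := congrArg (fun f : MulAut Q8 => f (φ⁻¹ t)) (h (MulAut.conj x) ⟨x, rfl⟩)
    simp only [MulAut.mul_apply, MulAut.conj_apply, map_mul, map_inv] at hx
    rwa [show φ (φ⁻¹ t) = t from MulEquiv.apply_symm_apply φ t] at hx
  have := hy (x⁻¹ * y * x)
  calc φ x * x⁻¹ * y = φ x * (x⁻¹ * y * x) * (φ x)⁻¹ * (φ x * x⁻¹) := by group
    _ = y * (φ x * x⁻¹) := by rw [this]; group

/-- A group of order `12` or `24` with a normal self-centralizing subgroup of order `4` embeds in `S₄`. -/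
theorem exists_hom_perm_four {T : Type u} [Group T] [Finite T] (hT : Nat.card T = 12 ∨ Nat.card T = 24)
    (V : Subgroup T) [V.Normal] (hV : Nat.card V = 4) (hC : ∀ t : T, (∀ v ∈ V, t * v = v * t) → t ∈ V) :
    ∃ f : T →* Equiv.Perm (Fin 4), Function.Injective f := by
  classical
  have : Fact (Nat.Prime 3) := ⟨Nat.prime_three⟩
  obtain ⟨P⟩ : Nonempty (Sylow 3 T) := Sylow.nonempty
  have hP : Nat.card (P : Subgroup T) = 3 := by
    rw [P.card_eq_multiplicity]
    rcases hT with e | e <;> rw [e]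
    · have h1 : (12 : ℕ).factorization 3 = 1 := by
        rw [show (12 : ℕ) = 4 * 3 by norm_num, Nat.factorization_mul (by norm_num) (by norm_num), Finsupp.add_apply,
          Nat.factorization_eq_zero_of_not_dvd (by norm_num), Nat.Prime.factorization_self Nat.prime_three]
      rw [h1, pow_one]
    · have h1 : (24 : ℕ).factorization 3 = 1 := by
        rw [show (24 : ℕ) = 8 * 3 by norm_num, Nat.factorization_mul (by norm_num) (by norm_num), Finsupp.add_apply,
          Nat.factorization_eq_zero_of_not_dvd (by norm_num), Nat.Prime.factorization_self Nat.prime_three]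
      rw [h1, pow_one]
  obtain ⟨x, hx⟩ := exists_prime_orderOf_dvd_card' (G := (P : Subgroup T)) 3 (by rw [hP])
  rw [← Subgroup.orderOf_coe] at hx
  have hnc : ∃ v ∈ V, (x : T) * v ≠ v * x := by
    by_contra hc
    push Not at hc
    have h1 := V.orderOf_dvd_natCard (hC x hc)
    rw [hx, hV] at h1
    omega
  have hPV : ∀ v ∈ V, v ∈ Subgroup.normalizer ((P : Subgroup T) : Set T) → (x : T) * v = v * x := by
    intro v hv hn
    have h1 : (x : T) * v * (x : T)⁻¹ * v⁻¹ ∈ V :=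
      mul_mem ((inferInstance : V.Normal).conj_mem v hv x) (inv_mem hv)
    have h2 : (x : T) * v * (x : T)⁻¹ * v⁻¹ ∈ (P : Subgroup T) := by
      have := (Subgroup.mem_normalizer_iff.mp hn ((x : T)⁻¹)).mp (inv_mem x.2)
      rw [show (x : T) * v * (x : T)⁻¹ * v⁻¹ = x * (v * (x : T)⁻¹ * v⁻¹) by group]
      exact mul_mem x.2 this
    have h3 := Nat.eq_one_of_dvd_coprimes (by norm_num : Nat.Coprime 3 4)
      (hP ▸ (P : Subgroup T).orderOf_dvd_natCard h2) (hV ▸ V.orderOf_dvd_natCard h1)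
    rw [orderOf_eq_one_iff, mul_inv_eq_one] at h3
    exact mul_inv_eq_iff_eq_mul.mp h3
  have hn : Nat.card (Sylow 3 T) = 4 := by
    have h1 := card_sylow_modEq_one 3 T
    have h2 : Nat.card (Sylow 3 T) ∣ (P : Subgroup T).index := P.card_dvd_index
    have h3 := (P : Subgroup T).card_mul_index
    rw [hP] at h3
    have hne : Nat.card (Sylow 3 T) ≠ 1 := by
      intro e
      have : Subsingleton (Sylow 3 T) := (Nat.card_eq_one_iff_unique.mp e).1
      have hN : (P : Subgroup T).Normal := Sylow.normal_of_subsingleton P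
      obtain ⟨v, hv, hvx⟩ := hnc
      exact hvx (hPV v hv (Subgroup.normalizer_eq_top_iff.mpr hN ▸ Subgroup.mem_top v))
    have h4 : Nat.card (Sylow 3 T) ∣ 8 := h2.trans (by
      rcases hT with e | e <;> rw [e] at h3
      · exact ⟨2, by omega⟩
      · exact ⟨1, by omega⟩)
    have h5 : Nat.card (Sylow 3 T) ∈ Nat.divisors 8 := Nat.mem_divisors.mpr ⟨h4, by norm_num⟩
    rw [show Nat.divisors 8 = {1, 2, 4, 8} by decide] at h5
    simp only [Finset.mem_insert, Finset.mem_singleton] at h5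
    unfold Nat.ModEq at h1
    omega
  let f : T →* Equiv.Perm (Fin 4) :=
    (Equiv.permCongrHom ((Finite.card_eq.mp (hn.trans (Nat.card_fin 4).symm)).some)).toMonoidHom.comp
      (MulAction.toPermHom T (Sylow 3 T))
  refine ⟨f, (injective_iff_map_eq_one f).mpr ?_⟩
  have hker : ∀ t ∈ f.ker, t ∈ Subgroup.normalizer ((P : Subgroup T) : Set T) := by
    intro t ht
    have h1 : MulAction.toPermHom T (Sylow 3 T) t = 1 := by
      have : Equiv.permCongrHom ((Finite.card_eq.mp (hn.trans (Nat.card_fin 4).symm)).some)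
        (MulAction.toPermHom T (Sylow 3 T) t) = 1 := ht
      exact (MulEquiv.map_eq_one_iff _).mp this
    have h2 : t • P = P := congrArg (fun e : Equiv.Perm (Sylow 3 T) => e P) h1
    exact Sylow.smul_eq_iff_mem_normalizer.mp h2
  intro t ht
  have htV : t ∈ f.ker := ht
  have hKV : ∀ v ∈ V, v ∈ f.ker → v = 1 := by
    intro v hv hvk
    by_contra hv1
    obtain ⟨w, hw, hwx⟩ := hnc
    have hxv := hPV v hv (hker v hvk)
    have hwv : w ≠ v := fun e => hwx (e ▸ hxv)
    have hw1 : w ≠ 1 := fun e => hwx (by rw [e, mul_one, one_mul])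
    set c : V → V := fun u => ⟨(x : T) * u * (x : T)⁻¹, (inferInstance : V.Normal).conj_mem _ u.2 _⟩
    have hc3 : c (c (c ⟨w, hw⟩)) = ⟨w, hw⟩ := by
      refine Subtype.ext ?_
      show (x : T) * (x * (x * w * (x : T)⁻¹) * (x : T)⁻¹) * (x : T)⁻¹ = w
      have h3 : (x : T) ^ 3 = 1 := orderOf_dvd_iff_pow_eq_one.mp (dvd_of_eq hx)
      rw [show (x : T) * (x * (x * w * (x : T)⁻¹) * (x : T)⁻¹) * (x : T)⁻¹ = (x : T) ^ 3 * w * ((x : T) ^ 3)⁻¹ by simp [pow_succ, mul_assoc],
        h3, one_mul, inv_one, mul_one]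
    have hcinj : Function.Injective c := fun a b e => Subtype.ext (by simpa [c] using e)
    have hc1 : c ⟨1, one_mem _⟩ = ⟨1, one_mem _⟩ := Subtype.ext (by simp [c])
    have hcv : c ⟨v, hv⟩ = ⟨v, hv⟩ := Subtype.ext (by show (x : T) * v * (x : T)⁻¹ = v; rw [hxv]; group)
    have hcw : c ⟨w, hw⟩ ≠ ⟨w, hw⟩ := fun e => hwx (mul_inv_eq_iff_eq_mul.mp (congrArg Subtype.val e))
    have hcw2 : c (c ⟨w, hw⟩) ≠ ⟨w, hw⟩ := fun e => hcw (by conv_rhs => rw [← hc3]; rw [e])
    have h5 : ({⟨1, one_mem _⟩, ⟨v, hv⟩, ⟨w, hw⟩, c ⟨w, hw⟩, c (c ⟨w, hw⟩)} : Finset V).card = 5 := by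
      have e1 : (⟨1, one_mem _⟩ : V) ≠ ⟨v, hv⟩ := fun e => hv1 (congrArg Subtype.val e).symm
      have e2 : (⟨1, one_mem _⟩ : V) ≠ ⟨w, hw⟩ := fun e => hw1 (congrArg Subtype.val e).symm
      have e3 : (⟨v, hv⟩ : V) ≠ ⟨w, hw⟩ := fun e => hwv (congrArg Subtype.val e).symm
      have e4 : (⟨1, one_mem _⟩ : V) ≠ c ⟨w, hw⟩ := fun e => e2 (hcinj (hc1.trans e))
      have e5 : (⟨v, hv⟩ : V) ≠ c ⟨w, hw⟩ := fun e => e3 (hcinj (hcv.trans e))
      have e6 : (⟨1, one_mem _⟩ : V) ≠ c (c ⟨w, hw⟩) := fun e => e4 (hcinj (hc1.trans e))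
      have e7 : (⟨v, hv⟩ : V) ≠ c (c ⟨w, hw⟩) := fun e => e5 (hcinj (hcv.trans e))
      have e8 : c ⟨w, hw⟩ ≠ c (c ⟨w, hw⟩) := fun e => hcw (hcinj e).symm
      rw [Finset.card_insert_of_notMem (by simp [e1, e2, e4, e6]), Finset.card_insert_of_notMem (by simp [e3, e5, e7]),
        Finset.card_insert_of_notMem (by simp [hcw.symm, hcw2.symm]), Finset.card_pair e8]
    have := Fintype.ofFinite V
    have := Finset.card_le_univ ({⟨1, one_mem _⟩, ⟨v, hv⟩, ⟨w, hw⟩, c ⟨w, hw⟩, c (c ⟨w, hw⟩)} : Finset V)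
    rw [h5, ← Nat.card_eq_fintype_card, hV] at this
    omega
  refine hKV t (hC t fun v hv => ?_) htV
  have h1 : t * v * t⁻¹ * v⁻¹ ∈ V := mul_mem ((inferInstance : V.Normal).conj_mem v hv t) (inv_mem hv)
  have h2 : t * v * t⁻¹ * v⁻¹ ∈ f.ker := by
    rw [show t * v * t⁻¹ * v⁻¹ = t * (v * t⁻¹ * v⁻¹) by group]
    exact mul_mem htV ((inferInstance : f.ker.Normal).conj_mem _ (inv_mem htV) v)
  have := hKV _ h1 h2
  rw [mul_inv_eq_one] at this
  exact mul_inv_eq_iff_eq_mul.mp this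

theorem isPGroup_two_mulAut_of_isCyclic {Q : Type u} [Group Q] [Finite Q] [IsCyclic Q] (hQ : IsPGroup 2 Q) :
    IsPGroup 2 (MulAut Q) := by
  have : Fact (Nat.Prime 2) := ⟨Nat.prime_two⟩
  obtain ⟨n, hn⟩ := IsPGroup.iff_card.mp hQ
  rcases n with _ | n
  · exact IsPGroup.of_card (n := 0) (by rw [IsCyclic.card_mulAut, hn]; rfl)
  · exact IsPGroup.of_card (n := n) (by
      rw [IsCyclic.card_mulAut, hn, Nat.totient_prime_pow_succ Nat.prime_two]; simp)

/-- `2`-groups with a single involution. -/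
theorem two_group_cases {R : Type u} [Group R] [Finite R] (hR : IsPGroup 2 R)
    (hU : ∀ a b : R, orderOf a = 2 → orderOf b = 2 → Commute a b → a = b) :
    IsCyclic R ∨ ∃ n : ℕ, 1 ≤ n ∧ Nonempty (R ≃* QuaternionGroup (2 ^ n)) := by
  have : Fact (Nat.Prime 2) := ⟨Nat.prime_two⟩
  rcases subsingleton_or_nontrivial R with hs | hn
  · exact Or.inl isCyclic_of_subsingleton
  have := hR.center_nontrivial
  obtain ⟨z, hz⟩ := exists_prime_orderOf_dvd_card' (G := Subgroup.center R) 2 (by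
    obtain ⟨k, hk⟩ := IsPGroup.iff_card.1 (hR.to_subgroup (Subgroup.center R))
    rcases Nat.eq_zero_or_pos k with rfl | hk0
    · have := Finite.one_lt_card (α := Subgroup.center R); rw [hk, pow_zero] at this; omega
    · exact hk ▸ dvd_pow_self 2 hk0.ne')
  rw [← Subgroup.orderOf_coe] at hz
  have huq : ∀ a : R, orderOf a = 2 → a = z := fun a ha =>
    hU a z ha hz (Subgroup.mem_center_iff.mp z.2 a)
  have huni : ∀ A B : Subgroup R, Nat.card A = 2 → Nat.card B = 2 → A = B := by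
    intro A B hA hB
    obtain ⟨a, ha⟩ := exists_prime_orderOf_dvd_card' (G := A) 2 (by rw [hA])
    obtain ⟨b, hb⟩ := exists_prime_orderOf_dvd_card' (G := B) 2 (by rw [hB])
    rw [← Subgroup.orderOf_coe] at ha hb
    have e1 : Subgroup.zpowers (a : R) = A := Subgroup.eq_of_le_of_card_ge
      (Subgroup.zpowers_le.mpr a.2) (by rw [Nat.card_zpowers, ha, hA])
    have e2 : Subgroup.zpowers (b : R) = B := Subgroup.eq_of_le_of_card_ge
      (Subgroup.zpowers_le.mpr b.2) (by rw [Nat.card_zpowers, hb, hB])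
    rw [← e1, ← e2, huq _ ha, huq _ hb]
  rcases S0016.result 2 hR huni with h | ⟨-, n, ⟨e⟩⟩
  · exact Or.inl h
  · rcases Nat.eq_zero_or_pos n with rfl | hn
    · refine Or.inl (e.isCyclic.mpr ?_)
      have : NeZero (2 ^ 0) := ⟨by norm_num⟩
      refine isCyclic_of_orderOf_eq_card (QuaternionGroup.xa 0) ?_
      rw [QuaternionGroup.orderOf_xa, Nat.card_eq_fintype_card, QuaternionGroup.card, pow_zero, mul_one]
    · exact Or.inr ⟨n, hn, ⟨e⟩⟩

/-- Solvable groups of two-rank one with trivial odd core. -/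
theorem coreFree_cases {X : Type u} [Group X] [Finite X] [Group.IsSolvable X]
    (hO : Cfsg.pPrimeCore 2 X = ⊥) (hU : ∀ a b : X, orderOf a = 2 → orderOf b = 2 → Commute a b → a = b) :
    (IsPGroup 2 X ∧ IsCyclic X) ∨ (∃ n : ℕ, 1 ≤ n ∧ Nonempty (X ≃* QuaternionGroup (2 ^ n))) ∨
      ∃ f : X →* Equiv.Perm (Fin 4), Nat.card f.ker = 2 ∧ (f.range = alternatingGroup (Fin 4) ∨ f.range = ⊤) := by
  classical
  have : Fact (Nat.Prime 2) := ⟨Nat.prime_two⟩
  by_cases hX : IsPGroup 2 X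
  · rcases two_group_cases hX hU with h | h
    · exact Or.inl ⟨hX, h⟩
    · exact Or.inr (Or.inl h)
  refine Or.inr (Or.inr ?_)
  set R := Cfsg.pCore 2 X with hR
  have hRn : R.Normal := pCore_isNormal
  have hRp : IsPGroup 2 R := pCore_isPGroup
  let ψ : X →* MulAut R := MulAut.conjNormal
  have hkerle : ψ.ker ≤ R := by
    intro t ht
    refine centralizer_pCore_le hO ?_
    rw [Subgroup.mem_centralizer_iff]
    intro r hr
    have := congrArg (fun φ : MulAut R => ((φ ⟨r, hr⟩ : R) : X)) (show ψ t = 1 from ht)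
    simp [ψ] at this
    exact (mul_inv_eq_iff_eq_mul.mp this).symm
  have hno : ¬ IsPGroup 2 ψ.range := by
    intro h
    refine hX ?_
    obtain ⟨a, ha⟩ := IsPGroup.iff_card.mp h
    obtain ⟨b, hb⟩ := IsPGroup.iff_card.mp (hRp.to_le hkerle)
    exact IsPGroup.of_card (n := b + a) (by rw [← ψ.ker.card_mul_index, Subgroup.index_ker, ha, hb, pow_add])
  rcases two_group_cases hRp (fun a b ha hb hc => Subtype.ext (hU a b (by rw [Subgroup.orderOf_coe, ha])
    (by rw [Subgroup.orderOf_coe, hb]) (hc.map R.subtype))) with hc | ⟨n, hn, ⟨e⟩⟩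
  · exact absurd ((isPGroup_two_mulAut_of_isCyclic hRp).to_subgroup ψ.range) hno
  rcases Nat.lt_or_ge n 2 with hn2 | hn2
  swap
  · exact absurd ((Fus.isPGroup_mulAut_congr e (Fus.isPGroup_mulAut_quaternionGroup hn2)).to_subgroup ψ.range) hno
  obtain rfl : n = 1 := by omega
  let e' : R ≃* Q8 := e
  let Φ : X →* MulAut Q8 := (MulAut.congr e').toMonoidHom.comp ψ
  have hΦker : Φ.ker = ψ.ker := by
    ext t
    simp [Φ, MonoidHom.mem_ker]
  set V := (MulAut.conj (G := Q8)).range with hVdef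
  have hV : V ≤ Φ.range := by
    rintro _ ⟨q, rfl⟩
    refine ⟨((e'.symm q : R) : X), MulEquiv.ext fun y => ?_⟩
    show e' (ψ ((e'.symm q : R) : X) (e'.symm y)) = q * y * q⁻¹
    have : ψ ((e'.symm q : R) : X) (e'.symm y) = e'.symm q * e'.symm y * (e'.symm q)⁻¹ := Subtype.ext (by simp [ψ])
    rw [this, map_mul, map_mul, map_inv, MulEquiv.apply_symm_apply, MulEquiv.apply_symm_apply]
  have hle : Nat.card Φ.range ≤ 24 :=
    (Nat.card_le_card_of_injective _ Φ.range.subtype_injective).trans q8_aut_card_le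
  have h4 : 4 ∣ Nat.card Φ.range := q8_inner ▸ Subgroup.card_dvd_of_le hV
  have hnp : ¬ IsPGroup 2 Φ.range := fun h => hno (h.of_injective
    (((MulAut.congr e').toMonoidHom.comp ψ.range.subtype).codRestrict Φ.range (by
      rintro ⟨_, t, rfl⟩
      exact ⟨t, rfl⟩)) (fun a b e1 => Subtype.ext ((MulAut.congr e').injective (congrArg Subtype.val e1))))
  obtain ⟨c, hc⟩ := h4
  have hcard : Nat.card Φ.range = 12 ∨ Nat.card Φ.range = 24 := by
    have h5 : ¬ 5 ∣ Nat.card Φ.range := by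
      intro h5
      have : Fact (Nat.Prime 5) := ⟨Nat.prime_five⟩
      obtain ⟨t, ht⟩ := exists_prime_orderOf_dvd_card' (G := Φ.range) 5 h5
      rw [← Subgroup.orderOf_coe] at ht
      rcases three_dvd_of_odd_aut (IsPGroup.of_card (p := 2) (n := 3)
          (by rw [Nat.card_eq_fintype_card, QuaternionGroup.card]; rfl)) (fun u v hu hv => by
            have key : ∀ u v : Q8, u * u = 1 ∧ u ≠ 1 → v * v = 1 ∧ v ≠ 1 → u = v := by decide +kernel
            rw [orderOf_eq_prime_iff, sq] at hu hv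
            exact key u v hu hv) |> fun F => F (t : MulAut Q8) (by rw [ht]; decide)
        with h | h
      · rw [h, orderOf_one] at ht; omega
      · rw [ht] at h; omega
    have hc6 : c ≤ 6 := by omega
    rcases (show c = 0 ∨ c = 1 ∨ c = 2 ∨ c = 3 ∨ c = 4 ∨ c = 5 ∨ c = 6 by omega) with
      rfl | rfl | rfl | rfl | rfl | rfl | rfl
    · exact absurd hc Nat.card_pos.ne'
    · exact absurd (IsPGroup.of_card (n := 2) hc) hnp
    · exact absurd (IsPGroup.of_card (n := 3) hc) hnp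
    · exact Or.inl hc
    · exact absurd (IsPGroup.of_card (n := 4) hc) hnp
    · exact absurd ⟨4, by omega⟩ h5
    · exact Or.inr hc
  let V' : Subgroup Φ.range := V.subgroupOf Φ.range
  have hVn : V.Normal := by
    refine ⟨?_⟩
    rintro _ ⟨q, rfl⟩ g
    exact ⟨g q, MulEquiv.ext fun y => by simp [MulAut.conj_apply]⟩
  obtain ⟨f, hf⟩ := exists_hom_perm_four hcard V'
    ((Nat.card_congr (Subgroup.subgroupOfEquivOfLe hV).toEquiv).trans q8_inner)
    (fun t ht => q8_centralizer_inner fun φ hφ => congrArg Subtype.val (ht ⟨φ, hV hφ⟩ hφ))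
  refine ⟨f.comp Φ.rangeRestrict, ?_, ?_⟩
  · have e1 : (f.comp Φ.rangeRestrict).ker = ψ.ker := by
      rw [← hΦker, ← MonoidHom.comap_ker, (MonoidHom.ker_eq_bot_iff f).mpr hf, MonoidHom.comap_bot]
      exact Φ.ker_rangeRestrict
    rw [e1]
    refine Eq.trans (Nat.card_congr ((Subgroup.subgroupOfEquivOfLe hkerle).toEquiv.symm.trans
      (e'.toEquiv.subtypeEquiv fun r => ?_))) (Nat.card_eq_fintype_card.trans q8_central)
    rw [Subgroup.mem_subgroupOf, MonoidHom.mem_ker]
    refine ⟨fun h y => ?_, fun h => MulEquiv.ext fun s => ?_⟩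
    · have := congrArg (fun φ : MulAut R => e' (φ (e'.symm y))) h
      simp only [MulAut.one_apply, MulEquiv.apply_symm_apply] at this
      rw [show ψ (r : X) (e'.symm y) = r * e'.symm y * r⁻¹ from Subtype.ext (by simp [ψ]), map_mul, map_mul,
        map_inv, MulEquiv.apply_symm_apply] at this
      exact mul_inv_eq_iff_eq_mul.mp this
    · rw [MulAut.one_apply, show ψ (r : X) s = r * s * r⁻¹ from Subtype.ext (by simp [ψ])]
      refine e'.injective ?_
      rw [map_mul, map_mul, map_inv, show e' r * e' s = e' s * e' r from h (e' s), mul_inv_cancel_right]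
  · have hr : Nat.card (f.comp Φ.rangeRestrict).range = Nat.card Φ.range := by
      rw [MonoidHom.range_comp, MonoidHom.range_eq_top.mpr Φ.rangeRestrict_surjective, ← MonoidHom.range_eq_map]
      exact (Nat.card_congr (MonoidHom.ofInjective hf).toEquiv).symm
    rcases hcard with e1 | e1
    · refine Or.inl (Equiv.Perm.eq_alternatingGroup_of_index_eq_two ?_)
      have := (f.comp Φ.rangeRestrict).range.card_mul_index
      rw [hr, e1, Nat.card_perm, Nat.card_fin, show Nat.factorial 4 = 24 from rfl] at this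
      omega
    · exact Or.inr (Subgroup.eq_top_of_card_eq _ (by rw [hr, e1, Nat.card_perm, Nat.card_fin]; rfl))

end Cfsg.Agent.Grp.Zas
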