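import Mathlib
import Cfsg.Prelude.Def_Solvable
import Cfsg.Agent.Lib.Grp.Frattini
import Cfsg.Agent.Lib.Grp.Zassenhaus.Basics
import Cfsg.Agent.Lib.Grp.Zassenhaus.CoreFree

/-!
# The canonical Z-subgroup of a group with a fixed-point-free representation
-/

set_option autoImplicit false

namespace Cfsg.Agent.Grp.Zas

open scoped Pointwise

universe u v

variable {G : Type u} [Group G]

/-- `N` is the kernel of a map onto one of the five quotients, or the whole group. -/
def IsQuot (N : Subgroup G) : Prop :=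
  N = ⊤ ∨
    (∃ f : G →* DihedralGroup 2, Function.Surjective f ∧ f.ker = N) ∨
    (∃ f : G →* alternatingGroup (Fin 4), Function.Surjective f ∧ f.ker = N) ∨
    (∃ f : G →* Equiv.Perm (Fin 4), Function.Surjective f ∧ f.ker = N) ∨
    (∃ f : G →* alternatingGroup (Fin 5), Function.Surjective f ∧ f.ker = N) ∨
    (∃ f : G →* Equiv.Perm (Fin 5), Function.Surjective f ∧ f.ker = N)

/-- Normal, with cyclic Sylow subgroups, and one of the five quotients. -/
def IsZKernel (N : Subgroup G) : Prop :=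
  N.Normal ∧ (∀ (p : ℕ) [Fact p.Prime] (P : Sylow p N), IsCyclic P) ∧ IsQuot N

theorem exists_involution_lift [Finite G] (N : Subgroup G) [N.Normal] (hN : Odd (Nat.card N)) {a : G ⧸ N}
    (ha : orderOf a = 2) : ∃ g : G, orderOf g = 2 ∧ QuotientGroup.mk' N g = a := by
  obtain ⟨g, rfl⟩ := QuotientGroup.mk'_surjective N a
  obtain ⟨k, m, hm, hkm⟩ := Nat.exists_eq_two_pow_mul_odd (orderOf_pos g).ne'
  refine ⟨g ^ m, ?_, ?_⟩
  swap
  · rw [map_pow, ← pow_mod_orderOf, ha, Nat.odd_iff.mp hm, pow_one]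
  have hsq : (g ^ m) ^ 2 ∈ N := by
    rw [← QuotientGroup.eq_one_iff]
    show QuotientGroup.mk' N ((g ^ m) ^ 2) = 1
    rw [map_pow, map_pow, pow_right_comm, ← ha, pow_orderOf_eq_one, one_pow]
  have h1 : ((g ^ m) ^ 2) ^ 2 ^ k = 1 := by
    rw [← pow_mul, ← pow_mul, show m * (2 * 2 ^ k) = orderOf g * 2 by rw [hkm]; ring, pow_mul, pow_orderOf_eq_one,
      one_pow]
  have h2 : (g ^ m) ^ 2 = 1 := orderOf_eq_one_iff.mp (Nat.eq_one_of_dvd_coprimes
    (Nat.Coprime.pow_left k hN.coprime_two_left) (orderOf_dvd_of_pow_eq_one h1) (N.orderOf_dvd_natCard hsq))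
  have : Fact (Nat.Prime 2) := ⟨Nat.prime_two⟩
  refine orderOf_eq_prime h2 fun e => ?_
  have : (QuotientGroup.mk' N g) ^ m = 1 := by rw [← map_pow, e, map_one]
  rw [← pow_mod_orderOf, ha, Nat.odd_iff.mp hm, pow_one] at this
  rw [this, orderOf_one] at ha
  omega

/-- A subgroup is a Z-group if its image in `X` lands in a cyclic subgroup, for the `2`-part. -/
theorem zgroup_of_image {X : Type*} [Group X] [Finite G] (h : HasFpf.{u, v} G) (π : G →* X)
    (hπ : Odd (Nat.card π.ker)) (N : Subgroup G) (C : Subgroup X) [IsCyclic C] (hNC : N.map π ≤ C)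
    (p : ℕ) [Fact p.Prime] (P : Sylow p N) : IsCyclic P := by
  by_cases hp : p = 2
  swap
  · exact (h.of_injective N.subtype N.subtype_injective).sylow_cyclic hp P
  subst hp
  let f : (P : Subgroup N) →* C := (π.comp (N.subtype.comp (P : Subgroup N).subtype)).codRestrict C fun x =>
    hNC (Subgroup.mem_map_of_mem π (x : N).2)
  refine isCyclic_of_injective f ((injective_iff_map_eq_one f).mpr fun x hx => ?_)
  have hx' : (((x : N) : G)) ∈ π.ker := congrArg Subtype.val hx
  obtain ⟨k, hk⟩ := IsPGroup.iff_orderOf.mp P.isPGroup' x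
  have h1 := π.ker.orderOf_dvd_natCard hx'
  rw [Subgroup.orderOf_coe, Subgroup.orderOf_coe, hk] at h1
  have h2 := Nat.eq_one_of_dvd_coprimes (Nat.Coprime.pow_left k hπ.coprime_two_left) dvd_rfl h1
  rw [← hk] at h2
  exact orderOf_eq_one_iff.mp h2

/-- Reduction of a quaternion group of order divisible by eight to the four-group. -/
def quatToKlein (m : ℕ) (hm : 2 ∣ m) : QuaternionGroup m →* DihedralGroup 2 where
  toFun
    | QuaternionGroup.a i => DihedralGroup.r (ZMod.castHom (Dvd.intro _ rfl : 2 ∣ 2 * m) (ZMod 2) i)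
    | QuaternionGroup.xa i => DihedralGroup.sr (ZMod.castHom (Dvd.intro _ rfl : 2 ∣ 2 * m) (ZMod 2) i)
  map_one' := by
    show DihedralGroup.r (ZMod.castHom (Dvd.intro _ rfl : 2 ∣ 2 * m) (ZMod 2) 0) = 1
    rw [map_zero]; rfl
  map_mul' := by
    have hm0 : ((m : ℕ) : ZMod 2) = 0 := (ZMod.natCast_eq_zero_iff m 2).mpr hm
    rintro (i | i) (j | j) <;>
      simp [QuaternionGroup.a_mul_a, QuaternionGroup.a_mul_xa, QuaternionGroup.xa_mul_a, QuaternionGroup.xa_mul_xa,
        DihedralGroup.r_mul_r, DihedralGroup.r_mul_sr, DihedralGroup.sr_mul_r, DihedralGroup.sr_mul_sr, hm0]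

theorem quatToKlein_surjective (m : ℕ) (hm : 2 ∣ m) : Function.Surjective (quatToKlein m hm) := by
  rintro (i | i)
  · obtain ⟨j, hj⟩ := ZMod.castHom_surjective (Dvd.intro _ rfl : 2 ∣ 2 * m) i
    exact ⟨QuaternionGroup.a j, congrArg DihedralGroup.r hj⟩
  · obtain ⟨j, hj⟩ := ZMod.castHom_surjective (Dvd.intro _ rfl : 2 ∣ 2 * m) i
    exact ⟨QuaternionGroup.xa j, congrArg DihedralGroup.sr hj⟩

theorem quatToKlein_ker (m : ℕ) [NeZero m] (hm : 2 ∣ m) {x : QuaternionGroup m} (hx : quatToKlein m hm x = 1) :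
    x ∈ Subgroup.zpowers (QuaternionGroup.a 1 : QuaternionGroup m) ∧ ∃ y, x = y * y := by
  rcases x with i | i
  · have hi : ZMod.castHom (Dvd.intro _ rfl : 2 ∣ 2 * m) (ZMod 2) i = 0 := DihedralGroup.r.inj hx
    refine ⟨⟨(i.val : ℤ), ?_⟩, ?_⟩
    · show (QuaternionGroup.a 1 : QuaternionGroup m) ^ (i.val : ℤ) = _
      rw [zpow_natCast, QuaternionGroup.a_one_pow, ZMod.natCast_zmod_val]
    · have h2 : 2 ∣ i.val := by
        rw [← ZMod.natCast_zmod_val i, map_natCast, ZMod.natCast_eq_zero_iff] at hi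
        exact hi
      obtain ⟨t, ht⟩ := h2
      exact ⟨QuaternionGroup.a (t : ZMod (2 * m)), by
        rw [QuaternionGroup.a_mul_a, ← Nat.cast_add, ← two_mul, ← ht, ZMod.natCast_zmod_val]⟩
  · exact absurd hx (by intro e; cases e)

/-- The three solvable quotients have no nontrivial odd normal subgroup. -/
theorem odd_normal_eq_bot {Y : Type*} [Group Y] [Finite Y] (hY : Nat.card Y ∣ 24)
    (hk : ∀ x : Y, x * (x * x) = 1 → x ≠ 1 →
      ∃ g, (x * x * (g * x * g⁻¹)) * (x * x * (g * x * g⁻¹)) = 1 ∧ x * x * (g * x * g⁻¹) ≠ 1)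
    (M : Subgroup Y) [M.Normal] (hM : Odd (Nat.card M)) : M = ⊥ := by
  rw [Subgroup.eq_bot_iff_forall]
  intro x hx
  by_contra hx1
  have h3 : x * (x * x) = 1 := by
    have h1 := (Subgroup.card_subgroup_dvd_card M).trans hY
    have h2 : Nat.card M ∈ Nat.divisors 24 := Nat.mem_divisors.mpr ⟨h1, by norm_num⟩
    rw [show Nat.divisors 24 = {1, 2, 3, 4, 6, 8, 12, 24} by decide] at h2
    simp only [Finset.mem_insert, Finset.mem_singleton] at h2
    have h4 : orderOf x ∣ 3 := (M.orderOf_dvd_natCard hx).trans (by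
      rw [Nat.odd_iff] at hM
      rcases h2 with e | e | e | e | e | e | e | e <;> rw [e] at hM ⊢ <;> omega)
    rw [← pow_two, ← pow_succ']
    exact orderOf_dvd_iff_pow_eq_one.mp h4
  obtain ⟨g, hg2, hg1⟩ := hk x h3 hx1
  have hmem : x * x * (g * x * g⁻¹) ∈ M := mul_mem (mul_mem hx hx) ((inferInstance : M.Normal).conj_mem x hx g)
  have h5 : orderOf (x * x * (g * x * g⁻¹)) = 2 := by
    have : Fact (Nat.Prime 2) := ⟨Nat.prime_two⟩
    exact orderOf_eq_prime (by rw [pow_two]; exact hg2) hg1
  have h6 := M.orderOf_dvd_natCard hmem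
  rw [h5] at h6
  rw [Nat.odd_iff] at hM
  omega

/-- Kernels for maps onto solvable quotients. -/
def IsSolQuot (M : Subgroup G) : Prop :=
  M = ⊤ ∨
    (∃ f : G →* DihedralGroup 2, Function.Surjective f ∧ f.ker = M) ∨
    (∃ f : G →* alternatingGroup (Fin 4), Function.Surjective f ∧ f.ker = M) ∨
    (∃ f : G →* Equiv.Perm (Fin 4), Function.Surjective f ∧ f.ker = M)

theorem card_klein : Nat.card (DihedralGroup 2) = 4 := by rw [Nat.card_eq_fintype_card]; rfl

theorem card_alt_four : Nat.card (alternatingGroup (Fin 4)) = 12 := by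
  rw [nat_card_alternatingGroup, Nat.card_fin]; rfl

theorem card_sym_four : Nat.card (Equiv.Perm (Fin 4)) = 24 := by rw [Nat.card_perm, Nat.card_fin]; rfl

theorem IsSolQuot.odd_le [Finite G] {N : Subgroup G} (h : IsSolQuot N) (O : Subgroup G) [O.Normal]
    (hO : Odd (Nat.card O)) : O ≤ N := by
  have key : ∀ (Y : Type) [Group Y] [Finite Y], Nat.card Y ∣ 24 →
      (∀ x : Y, x * (x * x) = 1 → x ≠ 1 →
        ∃ g, (x * x * (g * x * g⁻¹)) * (x * x * (g * x * g⁻¹)) = 1 ∧ x * x * (g * x * g⁻¹) ≠ 1) →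
      ∀ f : G →* Y, Function.Surjective f → f.ker = N → O ≤ N := by
    intro Y _ _ hY hk f hf hker
    have := (inferInstance : O.Normal).map f hf
    rw [← hker, ← Subgroup.map_eq_bot_iff]
    have hd : Nat.card (O.map f) ∣ Nat.card O := Subgroup.card_map_dvd O f
    exact odd_normal_eq_bot hY hk (O.map f) (Odd.of_dvd_nat hO hd)
  rcases h with rfl | ⟨f, hf, hk⟩ | ⟨f, hf, hk⟩ | ⟨f, hf, hk⟩
  · exact le_top
  · exact key _ (by rw [card_klein]; norm_num) (by decide) f hf hk
  · exact key _ (by rw [card_alt_four]; norm_num) (by decide +kernel) f hf hk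
  · exact key _ (by rw [card_sym_four]) (by decide +kernel) f hf hk

theorem IsSolQuot.map [Finite G] {N : Subgroup G} (h : IsSolQuot N) (O : Subgroup G) [O.Normal] (hON : O ≤ N) :
    IsSolQuot (N.map (QuotientGroup.mk' O)) := by
  have key : ∀ (Y : Type) [Group Y] (f : G →* Y), Function.Surjective f → f.ker = N →
      ∃ f' : G ⧸ O →* Y, Function.Surjective f' ∧ f'.ker = N.map (QuotientGroup.mk' O) := by
    intro Y _ f hf hk
    refine ⟨QuotientGroup.lift O f (hk ▸ hON), QuotientGroup.lift_surjective_of_surjective O f hf _, ?_⟩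
    rw [QuotientGroup.ker_lift, hk]
  rcases h with rfl | ⟨f, hf, hk⟩ | ⟨f, hf, hk⟩ | ⟨f, hf, hk⟩
  · exact Or.inl (Subgroup.map_top_of_surjective _ (QuotientGroup.mk'_surjective O))
  · exact Or.inr (Or.inl (key _ f hf hk))
  · exact Or.inr (Or.inr (Or.inl (key _ f hf hk)))
  · exact Or.inr (Or.inr (Or.inr (key _ f hf hk)))

/-- Core-free Z-groups are cyclic `2`-groups. -/
theorem coreFree_zgroup {M : Type u} [Group M] [Finite M] [IsZGroup M] (hO : Cfsg.pPrimeCore 2 M = ⊥) :
    IsPGroup 2 M ∧ IsCyclic M := by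
  have : Fact (Nat.Prime 2) := ⟨Nat.prime_two⟩
  have := isSolvable_of_isZGroup (G := M)
  set R := Cfsg.pCore 2 M with hR
  have hRn : R.Normal := pCore_isNormal
  have hRp : IsPGroup 2 R := pCore_isPGroup
  obtain ⟨P⟩ : Nonempty (Sylow 2 M) := Sylow.nonempty
  have hPc : IsCyclic (P : Subgroup M) := IsZGroup.isZGroup 2 Nat.prime_two P
  have : IsCyclic R := isCyclic_of_injective (Subgroup.inclusion (pCore_le_sylow P)) (Subgroup.inclusion_injective _)
  let ψ : M →* MulAut R := MulAut.conjNormal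
  have hkerle : ψ.ker ≤ R := by
    intro t ht
    refine centralizer_pCore_le hO ?_
    rw [Subgroup.mem_centralizer_iff]
    intro r hr
    have := congrArg (fun φ : MulAut R => ((φ ⟨r, hr⟩ : R) : M)) (show ψ t = 1 from ht)
    simp [ψ] at this
    exact (mul_inv_eq_iff_eq_mul.mp this).symm
  obtain ⟨a, ha⟩ := IsPGroup.iff_card.mp ((isPGroup_two_mulAut_of_isCyclic hRp).to_subgroup ψ.range)
  obtain ⟨b, hb⟩ := IsPGroup.iff_card.mp (hRp.to_le hkerle)
  have hM : IsPGroup 2 M :=
    IsPGroup.of_card (n := b + a) (by rw [← ψ.ker.card_mul_index, Subgroup.index_ker, ha, hb, pow_add])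
  refine ⟨hM, ?_⟩
  have hPtop : (P : Subgroup M) = ⊤ :=
    (P.is_maximal' (hM.to_subgroup ⊤) le_top).symm
  exact isCyclic_of_surjective (P : Subgroup M).subtype fun x => ⟨⟨x, hPtop ▸ Subgroup.mem_top x⟩, rfl⟩

theorem klein_not_cyclic : ¬ IsCyclic (DihedralGroup 2) := by
  intro h
  obtain ⟨g, hg⟩ := IsCyclic.exists_ofOrder_eq_natCard (α := DihedralGroup 2)
  rw [card_klein] at hg
  have h1 : g * g = 1 := (by decide : ∀ g : DihedralGroup 2, g * g = 1) g
  have := orderOf_dvd_of_pow_eq_one (show g ^ 2 = 1 by rw [pow_two]; exact h1)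
  rw [hg] at this
  omega

/-- Uniqueness in a core-free group with a single involution. -/
theorem coreFree_unique {X : Type u} [Group X] [Finite X] [Group.IsSolvable X] (hO : Cfsg.pPrimeCore 2 X = ⊥)
    (hU : ∀ a b : X, orderOf a = 2 → orderOf b = 2 → a = b) {M M' : Subgroup X} [M.Normal] [M'.Normal]
    [IsZGroup M] [IsZGroup M'] (hM : IsSolQuot M) (hM' : IsSolQuot M') : M = M' := by
  classical
  have : Fact (Nat.Prime 2) := ⟨Nat.prime_two⟩
  have hcyc : ∀ (L : Subgroup X) [L.Normal] [IsZGroup L], IsPGroup 2 L ∧ IsCyclic L := fun L _ _ =>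
    coreFree_zgroup (by
      rw [← Subgroup.map_eq_bot_iff_of_injective _ L.subtype_injective, pPrimeCore_map_eq, hO, bot_inf_eq])
  have noncomm : ∀ (Y : Type) [Group Y], (∃ a b : Y, a * b ≠ b * a) → ∀ f : X →* Y, Function.Surjective f →
      ¬ IsCyclic X := by
    rintro Y _ ⟨a, b, hab⟩ f hf hX
    obtain ⟨a, rfl⟩ := hf a
    obtain ⟨b, rfl⟩ := hf b
    letI := IsCyclic.commGroup (α := X)
    exact hab (by rw [← map_mul, ← map_mul, mul_comm])
  have three : ∀ (Y : Type) [Group Y] [Finite Y], 3 ∣ Nat.card Y → ∀ f : X →* Y, Function.Surjective f →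
      ¬ IsPGroup 2 X := by
    intro Y _ _ h3 f hf hX
    obtain ⟨k, hk⟩ := IsPGroup.iff_card.mp (hX.of_surjective f hf)
    rw [hk] at h3
    exact absurd (Nat.prime_three.dvd_of_dvd_pow h3) (by norm_num)
  rcases coreFree_cases hO (fun a b ha hb _ => hU a b ha hb) with ⟨hX, hXc⟩ | ⟨n, hn, ⟨e⟩⟩ | ⟨f, hf2, hfr⟩
  · have top : ∀ L : Subgroup X, IsSolQuot L → L = ⊤ := by
      intro L hL
      rcases hL with rfl | ⟨g, hg, -⟩ | ⟨g, hg, -⟩ | ⟨g, hg, -⟩
      · rfl
      · exact absurd (isCyclic_of_surjective g hg) klein_not_cyclic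
      · exact absurd hXc (noncomm _ (by decide +kernel) g hg)
      · exact absurd hXc (noncomm _ (by decide +kernel) g hg)
    rw [top M hM, top M' hM']
  · have hne : NeZero (2 ^ n) := ⟨by positivity⟩
    have h2n : 2 ∣ 2 ^ n := dvd_pow_self 2 (by omega)
    have hX : IsPGroup 2 X := IsPGroup.of_card (n := n + 2) (by
      rw [Nat.card_congr e.toEquiv, Nat.card_eq_fintype_card, QuaternionGroup.card, pow_add]; ring)
    set K0 := ((quatToKlein (2 ^ n) h2n).comp e.toMonoidHom).ker with hK0
    have hidx0 : K0.index = 4 := by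
      rw [hK0, Subgroup.index_ker, MonoidHom.range_eq_top.mpr
        (show Function.Surjective ((quatToKlein (2 ^ n) h2n).comp e.toMonoidHom) from
          (quatToKlein_surjective _ h2n).comp e.surjective), Subgroup.card_top, card_klein]
    have key : ∀ L : Subgroup X, L.Normal → IsZGroup L → IsSolQuot L → L = K0 := by
      intro L _ _ hL
      obtain ⟨-, hLc⟩ := hcyc L
      rcases hL with rfl | ⟨g, hg, hk⟩ | ⟨g, hg, -⟩ | ⟨g, hg, -⟩
      · exfalso
        have hXc : IsCyclic X := isCyclic_of_surjective Subgroup.topEquiv.toMonoidHom Subgroup.topEquiv.surjective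
        exact klein_not_cyclic (isCyclic_of_surjective _
          (show Function.Surjective ((quatToKlein (2 ^ n) h2n).comp e.toMonoidHom) from
            (quatToKlein_surjective _ h2n).comp e.surjective))
      · have hle : K0 ≤ L := by
          intro x hx
          obtain ⟨-, y, hy⟩ := quatToKlein_ker _ h2n (show quatToKlein _ h2n (e x) = 1 from hx)
          rw [← hk, MonoidHom.mem_ker, show x = e.symm y * e.symm y by
            rw [← map_mul, ← hy, MulEquiv.symm_apply_apply], map_mul]
          exact (by decide : ∀ d : DihedralGroup 2, d * d = 1) _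
        refine (Subgroup.eq_of_le_of_card_ge hle ?_).symm
        have h1 := L.card_mul_index
        have h2 := K0.card_mul_index
        rw [← hk, Subgroup.index_ker, MonoidHom.range_eq_top.mpr hg, Subgroup.card_top, card_klein, hk] at h1
        rw [hidx0] at h2
        omega
      · exact absurd hX (three _ (by rw [card_alt_four]; norm_num) g hg)
      · exact absurd hX (three _ (by rw [card_sym_four]; norm_num) g hg)
    rw [key M ‹_› ‹_› hM, key M' ‹_› ‹_› hM']
  · have hX : Nat.card X = 24 ∨ Nat.card X = 48 := by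
      rw [← f.ker.card_mul_index, Subgroup.index_ker, hf2]
      rcases hfr with e | e <;> rw [e]
      · rw [card_alt_four]; exact Or.inl rfl
      · rw [Subgroup.card_top, card_sym_four]; exact Or.inr rfl
    obtain ⟨z, hz⟩ := exists_prime_orderOf_dvd_card' (G := f.ker) 2 (by rw [hf2])
    rw [← Subgroup.orderOf_coe] at hz
    have hzgen : Subgroup.zpowers (z : X) = f.ker :=
      Subgroup.eq_of_le_of_card_ge (Subgroup.zpowers_le.mpr z.2) (by rw [Nat.card_zpowers, hz, hf2])
    have key : ∀ L : Subgroup X, L.Normal → IsZGroup L → IsSolQuot L → L = f.ker := by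
      intro L _ _ hL
      obtain ⟨hLp, hLc⟩ := hcyc L
      obtain ⟨k, hk⟩ := IsPGroup.iff_card.mp hLp
      have hL3 : ¬ 3 ∣ Nat.card L := fun h3 => by
        rw [hk] at h3
        exact absurd (Nat.prime_three.dvd_of_dvd_pow h3) (by norm_num)
      have hidx := L.card_mul_index
      have h1 : ∀ (Y : Type) [Group Y] (g : X →* Y), Function.Surjective g → g.ker = L → L.index = Nat.card Y :=
        fun Y _ g hg e => by rw [← e, Subgroup.index_ker, MonoidHom.range_eq_top.mpr hg, Subgroup.card_top]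
      have two : ∀ (Y : Type) [Group Y] [Finite Y] (g : X →* Y), Function.Surjective g → g.ker = L →
          (∃ a b : Y, a * a = 1 ∧ a ≠ 1 ∧ b * b = 1 ∧ b ≠ 1 ∧ a ≠ b) → Nat.card L ≠ 1 := by
        rintro Y _ _ g hg e ⟨a, b, ha, ha1, hb, hb1, hab⟩ h1
        have hinj : Function.Injective g := (MonoidHom.ker_eq_bot_iff g).mp (e.trans (Subgroup.card_eq_one.mp h1))
        obtain ⟨a, rfl⟩ := hg a
        obtain ⟨b, rfl⟩ := hg b
        refine hab (congrArg g (hU a b ?_ ?_)) <;> rw [← orderOf_injective g hinj] <;>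
          exact orderOf_eq_prime (by rw [pow_two]; assumption) (by assumption)
      have hzL : Nat.card L ≠ 1 → f.ker ≤ L := by
        intro hne
        obtain ⟨w, hw⟩ := exists_prime_orderOf_dvd_card' (G := L) 2 (by
          rcases k with _ | k
          · exact absurd hk hne
          · exact hk ▸ dvd_pow_self 2 (by omega))
        rw [← Subgroup.orderOf_coe] at hw
        rw [← hzgen, Subgroup.zpowers_le, hU _ _ hz hw]
        exact w.2
      rcases hL with rfl | ⟨g, hg, hker⟩ | ⟨g, hg, hker⟩ | ⟨g, hg, hker⟩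
      · rw [Subgroup.card_top] at hL3
        omega
      · rw [h1 _ g hg hker, card_klein] at hidx
        omega
      · rw [h1 _ g hg hker, card_alt_four] at hidx
        have hne := two _ g hg hker (by decide +kernel)
        have hle := hzL hne
        rcases hX with e | e
        · exact (Subgroup.eq_of_le_of_card_ge hle (by omega)).symm
        · exfalso
          have hft : f.range = ⊤ := by
            rcases hfr with e' | e'
            · have := f.ker.card_mul_index
              rw [Subgroup.index_ker, e', card_alt_four, hf2] at this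
              omega
            · exact e'
          have hn2 : Nat.card (L.map f) = 2 := by
            have h2 : (L.map f).index = L.index := L.index_map_eq (MonoidHom.range_eq_top.mp hft) hle
            have h3 := (L.map f).card_mul_index
            rw [h2, h1 _ g hg hker, card_alt_four, card_sym_four] at h3
            omega
          obtain ⟨w, hw⟩ := exists_prime_orderOf_dvd_card' (G := L.map f) 2 (by rw [hn2])
          rw [← Subgroup.orderOf_coe] at hw
          have hw2 : (w : Equiv.Perm (Fin 4)) * w = 1 := by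
            rw [← pow_two, ← hw]; exact pow_orderOf_eq_one _
          have hw1 : (w : Equiv.Perm (Fin 4)) ≠ 1 := fun e => by rw [e, orderOf_one] at hw; omega
          obtain ⟨t, ht⟩ := (by decide +kernel : ∀ w : Equiv.Perm (Fin 4), w * w = 1 → w ≠ 1 →
            ∃ t, t * w * t⁻¹ ≠ w) _ hw2 hw1
          have hgen : Subgroup.zpowers (w : Equiv.Perm (Fin 4)) = L.map f :=
            Subgroup.eq_of_le_of_card_ge (Subgroup.zpowers_le.mpr w.2) (by rw [Nat.card_zpowers, hw, hn2])
          have hnorm : (L.map f).Normal := (inferInstance : L.Normal).map f (MonoidHom.range_eq_top.mp hft)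
          obtain ⟨i, hi⟩ := Subgroup.mem_zpowers_iff.mp (hgen.symm ▸ hnorm.conj_mem _ w.2 t :
            t * w * t⁻¹ ∈ Subgroup.zpowers (w : Equiv.Perm (Fin 4)))
          rw [← zpow_mod_orderOf, hw] at hi
          rcases Int.emod_two_eq_zero_or_one i with e' | e'
          · rw [Nat.cast_ofNat, e', zpow_zero] at hi
            exact hw1 (conj_eq_one_iff.mp hi.symm)
          · rw [Nat.cast_ofNat, e', zpow_one] at hi
            exact ht hi.symm
      · rw [h1 _ g hg hker, card_sym_four] at hidx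
        have hne := two _ g hg hker (by decide +kernel)
        exact (Subgroup.eq_of_le_of_card_ge (hzL hne) (by omega)).symm
    rw [key M ‹_› ‹_› hM, key M' ‹_› ‹_› hM']

theorem IsQuot.solQuot [Group.IsSolvable G] {N : Subgroup G} (h : IsQuot N) : IsSolQuot N := by
  have h5 : ¬ Group.IsSolvable (alternatingGroup (Fin 5)) := by
    intro h5
    have hsimple : IsSimpleGroup (alternatingGroup (Fin 5)) := alternatingGroup.isSimpleGroup_five
    obtain ⟨a, b, hab⟩ : ∃ a b : alternatingGroup (Fin 5), a * b ≠ b * a := by decide +kernel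
    exact hab (IsSimpleGroup.comm_iff_isSolvable.mpr h5 a b)
  rcases h with h | h | h | h | ⟨f, hf, -⟩ | ⟨f, hf, -⟩
  · exact Or.inl h
  · exact Or.inr (Or.inl h)
  · exact Or.inr (Or.inr (Or.inl h))
  · exact Or.inr (Or.inr (Or.inr h))
  · exact absurd (Group.isSolvable_of_surjective hf) h5
  · exact absurd (Group.isSolvable_of_surjective hf) Equiv.Perm.fin_5_not_solvable

theorem IsSolQuot.isQuot {N : Subgroup G} (h : IsSolQuot N) : IsQuot N := by
  rcases h with h | h | h | h
  · exact Or.inl h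
  · exact Or.inr (Or.inl h)
  · exact Or.inr (Or.inr (Or.inl h))
  · exact Or.inr (Or.inr (Or.inr (Or.inl h)))

/-- The solvable case. -/
theorem HasFpf.existsUnique_of_isSolvable [Finite G] (h : HasFpf.{u, v} G) [Group.IsSolvable G] :
    ∃! N : Subgroup G, IsZKernel N := by
  classical
  have hp2 : Fact (Nat.Prime 2) := ⟨Nat.prime_two⟩
  set O := Cfsg.pPrimeCore 2 G with hOdef
  have hOn : O.Normal := pPrimeCore_isNormal
  have hOodd : Odd (Nat.card O) := (Nat.coprime_two_left.mp (pPrimeCore_coprime (p := 2)).symm)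
  set π := QuotientGroup.mk' O
  have hker : π.ker = O := QuotientGroup.ker_mk' O
  have hO : Cfsg.pPrimeCore 2 (G ⧸ O) = ⊥ := pPrimeCore_quotient_eq_bot
  have hU : ∀ a b : G ⧸ O, orderOf a = 2 → orderOf b = 2 → a = b := by
    intro a b ha hb
    obtain ⟨x, hx, rfl⟩ := exists_involution_lift O hOodd ha
    obtain ⟨y, hy, rfl⟩ := exists_involution_lift O hOodd hb
    rw [(h.involution hy).2 x hx]
  have hex : ∃ N : Subgroup G, IsZKernel N := by
    have key : ∀ (Y : Type) [Group Y] (g : G ⧸ O →* Y) (C : Subgroup (G ⧸ O)), Function.Surjective g →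
        IsCyclic C → g.ker ≤ C → (g.comp π).ker.Normal ∧
        (∀ (p : ℕ) [Fact p.Prime] (P : Sylow p (g.comp π).ker), IsCyclic P) ∧
        ∃ f : G →* Y, Function.Surjective f ∧ f.ker = (g.comp π).ker :=
      fun Y _ g C hg hC hle => ⟨inferInstance, fun p _ P => zgroup_of_image h π (by rw [hker]; exact hOodd) _ C (by
          rintro _ ⟨x, hx, rfl⟩
          exact hle hx) p P, g.comp π, hg.comp (QuotientGroup.mk'_surjective O), rfl⟩
    rcases coreFree_cases hO (fun a b ha hb _ => hU a b ha hb) with ⟨-, hc⟩ | ⟨n, hn, ⟨e⟩⟩ | ⟨f, hf2, hfr⟩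
    · have : IsCyclic (⊤ : Subgroup (G ⧸ O)) := Subgroup.topEquiv.isCyclic.mpr hc
      exact ⟨⊤, inferInstance, fun p _ P => zgroup_of_image h π (by rw [hker]; exact hOodd) _ ⊤ le_top p P, Or.inl rfl⟩
    · have : NeZero (2 ^ n) := ⟨by positivity⟩
      have h2n : 2 ∣ 2 ^ n := dvd_pow_self 2 (by omega)
      obtain ⟨hN, hz, hq⟩ := key _ ((quatToKlein (2 ^ n) h2n).comp e.toMonoidHom)
        (Subgroup.zpowers (e.symm (QuaternionGroup.a 1))) ((quatToKlein_surjective _ h2n).comp e.surjective)
        inferInstance (fun x hx => by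
          obtain ⟨⟨i, hi⟩, -⟩ := quatToKlein_ker _ h2n (show quatToKlein _ h2n (e x) = 1 from hx)
          refine ⟨i, ?_⟩
          dsimp only at hi ⊢
          rw [← map_zpow, hi, MulEquiv.symm_apply_apply])
      exact ⟨_, hN, hz, Or.inr (Or.inl hq)⟩
    · have hc : IsCyclic f.ker := isCyclic_of_prime_card hf2
      rcases hfr with e | e
      · let g : G ⧸ O →* alternatingGroup (Fin 4) := f.codRestrict _ fun x => e ▸ ⟨x, rfl⟩
        have hgk : g.ker = f.ker := MonoidHom.ker_codRestrict _ _ _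
        obtain ⟨hN, hz, hq⟩ := key _ g f.ker (fun y => by
          obtain ⟨x, hx⟩ := (e.symm ▸ y.2 : (y : Equiv.Perm (Fin 4)) ∈ f.range)
          exact ⟨x, Subtype.ext hx⟩) hc hgk.le
        exact ⟨_, hN, hz, Or.inr (Or.inr (Or.inl hq))⟩
      · obtain ⟨hN, hz, hq⟩ := key _ f f.ker (MonoidHom.range_eq_top.mp e) hc le_rfl
        exact ⟨_, hN, hz, Or.inr (Or.inr (Or.inr (Or.inl hq)))⟩
  obtain ⟨N, hN⟩ := hex
  refine ⟨N, hN, fun N' hN' => ?_⟩
  have hle : ∀ L : Subgroup G, IsZKernel L → O ≤ L := fun L hL => hL.2.2.solQuot.odd_le O hOodd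
  have hz : ∀ L : Subgroup G, IsZKernel L → IsZGroup (L.map π) := by
    intro L hL
    have : IsZGroup L := ⟨fun p hp P => by haveI := Fact.mk hp; exact hL.2.1 p P⟩
    exact IsZGroup.of_surjective (f := π.subgroupMap L) (π.subgroupMap_surjective L)
  have := hN.1
  have := hN'.1
  have := hz N hN
  have := hz N' hN'
  have := hN.1.map π (QuotientGroup.mk'_surjective O)
  have := hN'.1.map π (QuotientGroup.mk'_surjective O)
  have e := coreFree_unique hO hU (hN'.2.2.solQuot.map O (hle _ hN')) (hN.2.2.solQuot.map O (hle _ hN))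
  have e2 := congrArg (Subgroup.comap π) e
  rw [Subgroup.comap_map_eq, Subgroup.comap_map_eq, hker, sup_eq_left.mpr (hle _ hN),
    sup_eq_left.mpr (hle _ hN')] at e2
  exact e2

theorem isSolvable_sym_four : Group.IsSolvable (Equiv.Perm (Fin 4)) := by
  refine (Group.isSolvable_iff_subgroup_quotient (alternatingGroup (Fin 4))).mpr ⟨?_, ?_⟩
  · have := alternatingGroup.characteristic_kleinFour (α := Fin 4) (by simp)
    refine (Group.isSolvable_iff_subgroup_quotient
      (alternatingGroup.kleinFour (Fin 4) : Subgroup (alternatingGroup (Fin 4)))).mpr ⟨?_, ?_⟩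
    · exact isSolvable_of_pGroup (p := 2) (IsPGroup.of_card (n := 2)
        (by rw [alternatingGroup.kleinFour_card_of_card_eq_four (α := Fin 4) (by simp)]; rfl))
    · exact isSolvable_of_pGroup (p := 3) (IsPGroup.of_card (n := 1) (by
        rw [← Subgroup.index_eq_card]
        have := Subgroup.card_mul_index (alternatingGroup.kleinFour (Fin 4) : Subgroup (alternatingGroup (Fin 4)))
        rw [alternatingGroup.kleinFour_card_of_card_eq_four (by simp), nat_card_alternatingGroup] at this
        simp [Nat.factorial] at this ⊢; omega))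
  · exact isSolvable_of_pGroup (p := 2) (IsPGroup.of_card (n := 1) (by
      rw [← Subgroup.index_eq_card, alternatingGroup.index_eq_two, pow_one]))

theorem solvable_normal_sym_five (M : Subgroup (Equiv.Perm (Fin 5))) [M.Normal] [Group.IsSolvable M] : M = ⊥ := by
  have hsimple : IsSimpleGroup (alternatingGroup (Fin 5)) := alternatingGroup.isSimpleGroup_five
  have h1 : M.subgroupOf (alternatingGroup (Fin 5)) = ⊥ := by
    refine (IsSimpleGroup.eq_bot_or_eq_top_of_normal _ inferInstance).resolve_right fun e => ?_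
    rw [Subgroup.subgroupOf_eq_top] at e
    have h5 : Group.IsSolvable (alternatingGroup (Fin 5)) :=
      Group.isSolvable_of_isSolvable_injective (f := Subgroup.inclusion e) (Subgroup.inclusion_injective e)
    obtain ⟨a, b, hab⟩ : ∃ a b : alternatingGroup (Fin 5), a * b ≠ b * a := by decide +kernel
    exact hab (IsSimpleGroup.comm_iff_isSolvable.mpr h5 a b)
  rw [Subgroup.subgroupOf_eq_bot, disjoint_iff] at h1
  rw [Subgroup.eq_bot_iff_forall]
  intro x hx
  by_contra hx1
  obtain ⟨a, ha⟩ := (by decide +kernel : ∀ x : Equiv.Perm (Fin 5), x ≠ 1 →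
    ∃ a : alternatingGroup (Fin 5), x * a ≠ a * x) x hx1
  refine ha ?_
  have hmem : x * a * x⁻¹ * (a : Equiv.Perm (Fin 5))⁻¹ ∈ M ⊓ alternatingGroup (Fin 5) := by
    refine Subgroup.mem_inf.mpr ⟨?_, mul_mem ((inferInstance : (alternatingGroup (Fin 5)).Normal).conj_mem _ a.2 x) (inv_mem a.2)⟩
    rw [show x * a * x⁻¹ * (a : Equiv.Perm (Fin 5))⁻¹ = x * (a * x⁻¹ * (a : Equiv.Perm (Fin 5))⁻¹) by group]
    exact mul_mem hx ((inferInstance : M.Normal).conj_mem _ (inv_mem hx) a)
  rw [h1, Subgroup.mem_bot, mul_inv_eq_one] at hmem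
  exact mul_inv_eq_iff_eq_mul.mp hmem

/-- `V₄` inside `A₅`. -/
def kleinFive : Subgroup (alternatingGroup (Fin 5)) where
  carrier := {g | g * g = 1 ∧ (g : Equiv.Perm (Fin 5)) 4 = 4}
  one_mem' := by decide
  mul_mem' := fun {a b} ha hb => (by decide +kernel : ∀ a b : alternatingGroup (Fin 5),
    a * a = 1 ∧ (a : Equiv.Perm (Fin 5)) 4 = 4 → b * b = 1 ∧ (b : Equiv.Perm (Fin 5)) 4 = 4 →
      a * b * (a * b) = 1 ∧ ((a * b : alternatingGroup (Fin 5)) : Equiv.Perm (Fin 5)) 4 = 4) a b ha hb
  inv_mem' := fun {a} ha => (by decide +kernel : ∀ a : alternatingGroup (Fin 5),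
    a * a = 1 ∧ (a : Equiv.Perm (Fin 5)) 4 = 4 →
      a⁻¹ * a⁻¹ = 1 ∧ ((a⁻¹ : alternatingGroup (Fin 5)) : Equiv.Perm (Fin 5)) 4 = 4) a ha

theorem card_kleinFive : Nat.card kleinFive = 4 :=
  (Nat.card_congr (Equiv.subtypeEquivRight (p := fun g => g ∈ kleinFive)
    (q := fun g : alternatingGroup (Fin 5) => g * g = 1 ∧ (g : Equiv.Perm (Fin 5)) 4 = 4) fun _ => Iff.rfl)).trans
    (Nat.card_eq_fintype_card.trans (by decide +kernel :
      Fintype.card {g : alternatingGroup (Fin 5) // g * g = 1 ∧ (g : Equiv.Perm (Fin 5)) 4 = 4} = 4))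

theorem BinaryIco.card_sylow_two {E : Type u} [Group E] [Finite E] (hE : BinaryIco E) : Nat.card (Sylow 2 E) = 5 := by
  classical
  have : Fact (Nat.Prime 2) := ⟨Nat.prime_two⟩
  obtain ⟨f, hf, hker⟩ := hE.cover
  set W := kleinFive.comap f with hW
  have h60 : Nat.card (alternatingGroup (Fin 5)) = 60 := by rw [nat_card_alternatingGroup, Nat.card_fin]; rfl
  have hE120 : Nat.card E = 120 := by
    rw [← f.ker.card_mul_index, Subgroup.index_ker, hker, MonoidHom.range_eq_top.mpr hf, Subgroup.card_top, h60]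
  have hWi : W.index = 15 := by
    rw [hW, Subgroup.index_comap_of_surjective _ hf]
    have := kleinFive.card_mul_index
    rw [card_kleinFive, h60] at this
    omega
  have hWc : Nat.card W = 8 := by
    have := W.card_mul_index
    rw [hWi, hE120] at this
    omega
  let P : Sylow 2 E := (IsPGroup.of_card (n := 3) (hWc.trans (by norm_num))).toSylow
    (show ¬ 2 ∣ W.index by rw [hWi]; norm_num)
  have hP : (P : Subgroup E) = W := rfl
  rw [Sylow.card_eq_index_normalizer P]
  show (Subgroup.normalizer (W : Set E)).index = 5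
  set S4 : Subgroup (alternatingGroup (Fin 5)) :=
    (MulAction.stabilizer (alternatingGroup (Fin 5)) (4 : Fin 5)) with hS4
  have hle : S4.comap f ≤ Subgroup.normalizer (W : Set E) := by
    intro x hx
    have hx' : (f x : Equiv.Perm (Fin 5)) 4 = 4 := hx
    rw [Subgroup.mem_normalizer_iff]
    intro y
    have key := (by decide +kernel : ∀ a b : alternatingGroup (Fin 5), (a : Equiv.Perm (Fin 5)) 4 = 4 →
      ((b * b = 1 ∧ (b : Equiv.Perm (Fin 5)) 4 = 4) ↔
        (a * b * a⁻¹ * (a * b * a⁻¹) = 1 ∧ ((a * b * a⁻¹ : alternatingGroup (Fin 5)) : Equiv.Perm (Fin 5)) 4 = 4)))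
      (f x) (f y) hx'
    show f y ∈ kleinFive ↔ f (x * y * x⁻¹) ∈ kleinFive
    rw [map_mul, map_mul, map_inv]
    exact key
  have hS4i : S4.index = 5 := by
    have : MulAction.IsPretransitive (alternatingGroup (Fin 5)) (Fin 5) := ⟨by decide +kernel⟩
    rw [hS4, MulAction.index_stabilizer_of_transitive, Nat.card_fin]
  have hd : (Subgroup.normalizer (W : Set E)).index ∣ 5 := by
    have := Subgroup.index_dvd_of_le hle
    rwa [Subgroup.index_comap_of_surjective _ hf, hS4i] at this
  rcases (Nat.dvd_prime Nat.prime_five).mp hd with e | e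
  · exfalso
    rw [Subgroup.index_eq_one, Subgroup.normalizer_eq_top_iff] at e
    have := e.map f hf
    rw [hW, Subgroup.map_comap_eq_self_of_surjective hf] at this
    obtain ⟨a, b, ha, hab⟩ := (by decide +kernel : ∃ a b : alternatingGroup (Fin 5),
      (a * a = 1 ∧ (a : Equiv.Perm (Fin 5)) 4 = 4) ∧
        ((b * a * b⁻¹ : alternatingGroup (Fin 5)) : Equiv.Perm (Fin 5)) 4 ≠ 4)
    exact hab (this.conj_mem a ha b).2
  · exact e

/-- The nonsolvable case. -/
theorem HasFpf.existsUnique_of_not_isSolvable [Finite G] (h : HasFpf.{u, v} G) (hns : ¬ Group.IsSolvable G) :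
    ∃! N : Subgroup G, IsZKernel N := by
  classical
  have : Fact (Nat.Prime 2) := ⟨Nat.prime_two⟩
  obtain ⟨-, M, hM, -⟩ := h.structure_nonsolvable hns
  set E := threeCore G with hE
  have := hM.normal_E
  have := hM.normal_M
  obtain ⟨f, hf, hfk⟩ := hM.ico.cover
  have h5 := hM.ico.card_sylow_two
  have hE120 : Nat.card E = 120 := by
    rw [← f.ker.card_mul_index, Subgroup.index_ker, hfk, MonoidHom.range_eq_top.mpr hf, Subgroup.card_top,
      nat_card_alternatingGroup, Nat.card_fin]; rfl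
  let σ : Sylow 2 E ≃ Fin 5 := (Finite.card_eq.mp (h5.trans (Nat.card_fin 5).symm)).some
  let Ψ : G →* Equiv.Perm (Fin 5) := (σ.permCongrHom).toMonoidHom.comp
    ((MulAction.toPermHom (MulAut E) (Sylow 2 E)).comp MulAut.conjNormal)
  let ΨE : E →* Equiv.Perm (Fin 5) := Ψ.comp E.subtype
  have hmove : ΨE.ker ≠ ⊤ := by
    intro e
    obtain ⟨P⟩ : Nonempty (Sylow 2 E) := Sylow.nonempty
    have : Subsingleton (Sylow 2 E) := ⟨fun Q Q' => by
      obtain ⟨g, rfl⟩ := MulAction.exists_smul_eq E Q Q'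
      have h1 : ΨE g = 1 := by rw [← MonoidHom.mem_ker, e]; trivial
      have h2 : MulAction.toPermHom (MulAut E) (Sylow 2 E) (MulAut.conjNormal (g : G)) = 1 :=
        (MulEquiv.map_eq_one_iff σ.permCongrHom).mp h1
      have h3 : (MulAut.conjNormal (g : G) : MulAut E) • Q = Q :=
        congrArg (fun π : Equiv.Perm (Sylow 2 E) => π Q) h2
      have h4 : (MulAut.conjNormal (g : G) : MulAut E) = MulAut.conj g :=
        MulEquiv.ext fun y => Subtype.ext (by simp)
      rw [h4] at h3
      exact h3.symm⟩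
    have := Finite.card_le_one_iff_subsingleton (α := Sylow 2 E) |>.mpr inferInstance
    omega
  have hsimple : IsSimpleGroup (alternatingGroup (Fin 5)) := alternatingGroup.isSimpleGroup_five
  have hkerE : ΨE.ker ≤ f.ker := by
    rcases IsSimpleGroup.eq_bot_or_eq_top_of_normal (ΨE.ker.map f) ((inferInstance : ΨE.ker.Normal).map f hf) with
      e | e
    · exact (Subgroup.map_eq_bot_iff _).mp e
    · exfalso
      have h1 := congrArg (Subgroup.comap f) e
      rw [Subgroup.comap_map_eq, Subgroup.comap_top] at h1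
      have h2 : f.ker ≤ Subgroup.center E := by
        intro x hx
        rw [Subgroup.mem_center_iff]
        intro y
        obtain ⟨w, hw⟩ := exists_prime_orderOf_dvd_card' (G := f.ker) 2 (by rw [hfk])
        have hgen : Subgroup.zpowers (w : E) = f.ker :=
          Subgroup.eq_of_le_of_card_ge (Subgroup.zpowers_le.mpr w.2) (by
            rw [Nat.card_zpowers, Subgroup.orderOf_coe, hw, hfk])
        have hwc : ∀ y : E, Commute y (w : E) := fun y => Subtype.ext (Subgroup.mem_center_iff.mp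
          ((h.involution (z := ((w : E) : G)) (by rw [Subgroup.orderOf_coe, Subgroup.orderOf_coe, hw])).1) y)
        obtain ⟨i, rfl⟩ := Subgroup.mem_zpowers_iff.mp (hgen.symm ▸ hx : x ∈ Subgroup.zpowers (w : E))
        exact ((hwc y).zpow_right i).eq
      refine hmove (eq_top_iff.mpr (le_of_eq_of_le hM.ico.perfect.symm ?_))
      rw [commutator_def, Subgroup.commutator_le]
      intro a _ b _
      obtain ⟨a1, ha1, a2, ha2, rfl⟩ := Subgroup.mem_sup_of_normal_left.mp (h1.symm ▸ Subgroup.mem_top a :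
        a ∈ ΨE.ker ⊔ f.ker)
      obtain ⟨b1, hb1, b2, hb2, rfl⟩ := Subgroup.mem_sup_of_normal_left.mp (h1.symm ▸ Subgroup.mem_top b :
        b ∈ ΨE.ker ⊔ f.ker)
      rw [MonoidHom.mem_ker] at ha1 hb1 ⊢
      have e1 : Commute (ΨE a2) (ΨE b2) := (show Commute a2 b2 from Subgroup.mem_center_iff.mp (h2 hb2) a2).map ΨE
      rw [map_commutatorElement, map_mul, map_mul, ha1, hb1, one_mul, one_mul, commutatorElement_eq_one_iff_commute]
      exact e1
  have hEim : 60 ≤ Nat.card Ψ.range := by
    have h1 : Nat.card ΨE.range ≤ Nat.card Ψ.range := Subgroup.card_le_of_le (by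
      rintro _ ⟨x, rfl⟩; exact ⟨x, rfl⟩)
    have h2 := ΨE.ker.card_mul_index
    rw [Subgroup.index_ker, hE120] at h2
    have h3 : Nat.card ΨE.ker ≤ 2 := hfk ▸ Subgroup.card_le_of_le hkerE
    nlinarith
  have h120 : Nat.card (Equiv.Perm (Fin 5)) = 120 := by rw [Nat.card_perm, Nat.card_fin]; rfl
  have hrange : Ψ.range = alternatingGroup (Fin 5) ∨ Ψ.range = ⊤ := by
    have h1 := Ψ.range.card_mul_index
    rw [h120] at h1
    have h2 : Ψ.range.index ≤ 2 := by
      by_contra hlt
      have h3 : 60 * 3 ≤ Nat.card Ψ.range * Ψ.range.index := Nat.mul_le_mul hEim (by omega)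
      omega
    have h0 : Ψ.range.index ≠ 0 := Subgroup.index_ne_zero_of_finite
    rcases (show Ψ.range.index = 1 ∨ Ψ.range.index = 2 by omega) with e | e
    · exact Or.inr (Subgroup.index_eq_one.mp e)
    · exact Or.inl (Equiv.Perm.eq_alternatingGroup_of_index_eq_two e)
  set N := Ψ.ker with hN
  have hNcard : ∃ d, d ∣ 4 * Nat.card M ∧ Nat.card N = d := by
    refine ⟨_, ?_, rfl⟩
    have h1 := N.card_mul_index
    rw [hN, Subgroup.index_ker] at h1
    have hEM : Nat.card (E ⊔ M : Subgroup G) = 120 * Nat.card M := by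
      have e1 := Subgroup.mul_normal (H := E) (N := M)
      have e2 : Nat.card (E ⊔ M : Subgroup G) = Nat.card E * Nat.card M := by
        rw [← Nat.card_prod]
        refine (Nat.card_eq_of_bijective (fun q : E × M => (⟨(q.1 : G) * q.2,
          mul_mem (Subgroup.mem_sup_left q.1.2) (Subgroup.mem_sup_right q.2.2)⟩ : (E ⊔ M : Subgroup G))) ⟨?_, ?_⟩).symm
        · rintro ⟨a, b⟩ ⟨c, d⟩ e
          have := Subgroup.mul_injective_of_disjoint (disjoint_iff.mpr hM.inf)
            (congrArg Subtype.val e : ((a : G) * b = c * d))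
          exact this
        · rintro ⟨x, hx⟩
          obtain ⟨a, ha, b, hb, rfl⟩ := Subgroup.mem_sup_of_normal_left.mp hx
          exact ⟨(⟨a, ha⟩, ⟨b, hb⟩), rfl⟩
      rw [e2, hE120]
    have h2 := (E ⊔ M).card_mul_index
    rw [hEM] at h2
    have h3 : Nat.card G ∣ 240 * Nat.card M := by
      rcases hM.index with e | e <;> rw [e] at h2
      · exact ⟨2, by rw [← h2]; ring⟩
      · exact ⟨1, by rw [← h2]; ring⟩
    rcases hrange with e | e <;> rw [e] at h1
    · rw [nat_card_alternatingGroup, Nat.card_fin, show Nat.factorial 5 / 2 = 60 from rfl] at h1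
      rw [← h1, show 240 * Nat.card M = (4 * Nat.card M) * 60 by ring] at h3
      exact Nat.dvd_of_mul_dvd_mul_right (by norm_num) h3
    · rw [Subgroup.card_top, h120] at h1
      rw [← h1, show 240 * Nat.card M = (2 * Nat.card M) * 120 by ring] at h3
      exact (Nat.dvd_of_mul_dvd_mul_right (by norm_num) h3).trans ⟨2, by ring⟩
  have hNz : ∀ (p : ℕ) [Fact p.Prime] (P : Sylow p N), IsCyclic P := by
    intro p _ P
    rcases (h.of_injective N.subtype N.subtype_injective).sylow_cases P with hc | ⟨rfl, n, ⟨e⟩⟩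
    · exact hc
    · rcases Nat.eq_zero_or_pos n with rfl | hn
      · refine e.isCyclic.mpr ?_
        refine isCyclic_of_orderOf_eq_card (QuaternionGroup.xa 0) ?_
        have : NeZero (2 ^ 0) := ⟨by norm_num⟩
        rw [QuaternionGroup.orderOf_xa, Nat.card_eq_fintype_card, QuaternionGroup.card, pow_zero, mul_one]
      · exfalso
        obtain ⟨d, hd, hNd⟩ := hNcard
        have hP : 2 ^ (n + 2) ∣ 4 * Nat.card M := by
          have h1 := Subgroup.card_subgroup_dvd_card (P : Subgroup N)
          have : NeZero (2 ^ n) := ⟨by positivity⟩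
          rw [Nat.card_congr e.toEquiv, Nat.card_eq_fintype_card, QuaternionGroup.card, hNd] at h1
          exact (dvd_of_eq (by rw [pow_add]; ring)).trans (h1.trans hd)
        have h8 : 2 ^ 3 ∣ 4 * Nat.card M := (pow_dvd_pow 2 (by omega)).trans hP
        have h2 : 2 ∣ Nat.card M := by omega
        have := Nat.not_coprime_of_dvd_of_dvd (by norm_num) h2 (by norm_num : (2 : ℕ) ∣ 30)
        exact this hM.coprime
  have hNq : IsQuot N := by
    rcases hrange with e | e
    · refine Or.inr (Or.inr (Or.inr (Or.inr (Or.inl ⟨Ψ.codRestrict _ fun x => e ▸ ⟨x, rfl⟩, fun y => ?_, ?_⟩))))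
      · obtain ⟨x, hx⟩ := (e.symm ▸ y.2 : (y : Equiv.Perm (Fin 5)) ∈ Ψ.range)
        exact ⟨x, Subtype.ext hx⟩
      · exact MonoidHom.ker_codRestrict _ _ _
    · exact Or.inr (Or.inr (Or.inr (Or.inr (Or.inr ⟨Ψ, MonoidHom.range_eq_top.mp e, rfl⟩))))
  have hle : ∀ L L' : Subgroup G, IsZKernel L → IsZKernel L' → L ≤ L' := by
    intro L L' hL hL'
    have := hL.1
    have hLz : IsZGroup L := ⟨fun p hp P => by haveI := Fact.mk hp; exact hL.2.1 p P⟩
    have hLs := isSolvable_of_isZGroup (G := L)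
    have hL'z : IsZGroup L' := ⟨fun p hp P => by haveI := Fact.mk hp; exact hL'.2.1 p P⟩
    have hL's := isSolvable_of_isZGroup (G := L')
    have nosol : ∀ (Y : Type) [Group Y], Group.IsSolvable Y → ∀ g : G →* Y, Function.Surjective g → g.ker ≠ L' := by
      intro Y _ hY g hg e
      subst e
      exact hns ((Group.isSolvable_iff_subgroup_quotient g.ker).mpr ⟨hL's, Group.isSolvable_of_surjective
        (f := (QuotientGroup.quotientKerEquivOfSurjective g hg).symm.toMonoidHom)
        (QuotientGroup.quotientKerEquivOfSurjective g hg).symm.surjective⟩)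
    have hmap : ∀ (Y : Type) [Group Y] (g : G →* Y), Group.IsSolvable (L.map g) := fun Y _ g =>
      Group.isSolvable_of_surjective (f := g.subgroupMap L) (g.subgroupMap_surjective L)
    rcases hL'.2.2 with rfl | ⟨g, hg, e⟩ | ⟨g, hg, e⟩ | ⟨g, hg, e⟩ | ⟨g, hg, e⟩ | ⟨g, hg, e⟩
    · exact le_top
    · exact absurd e (nosol _ (isSolvable_of_pGroup (p := 2) (IsPGroup.of_card (n := 2) card_klein)) g hg)
    · exact absurd e (nosol _ (have := isSolvable_sym_four; inferInstance) g hg)
    · exact absurd e (nosol _ isSolvable_sym_four g hg)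
    · have := hmap _ g
      have hn := hL.1.map g hg
      rw [← e, ← Subgroup.map_eq_bot_iff]
      refine (IsSimpleGroup.eq_bot_or_eq_top_of_normal _ hn).resolve_right fun et => ?_
      have h5 : Group.IsSolvable (alternatingGroup (Fin 5)) := Group.isSolvable_of_surjective
        (f := (L.map g).subtype) fun x => ⟨⟨x, et ▸ Subgroup.mem_top x⟩, rfl⟩
      obtain ⟨a, b, hab⟩ : ∃ a b : alternatingGroup (Fin 5), a * b ≠ b * a := by decide +kernel
      exact hab (IsSimpleGroup.comm_iff_isSolvable.mpr h5 a b)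
    · have := hmap _ g
      have hn := hL.1.map g hg
      rw [← e, ← Subgroup.map_eq_bot_iff]
      exact solvable_normal_sym_five _
  have hNk : IsZKernel N := ⟨inferInstance, hNz, hNq⟩
  exact ⟨N, hNk, fun L hL => le_antisymm (hle L N hL hNk) (hle N L hNk hL)⟩

theorem HasFpf.existsUnique_zKernel [Finite G] (h : HasFpf.{u, v} G) : ∃! N : Subgroup G, IsZKernel N := by
  by_cases hs : Group.IsSolvable G
  · exact h.existsUnique_of_isSolvable
  · exact h.existsUnique_of_not_isSolvable hs

end Cfsg.Agent.Grp.Zas
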