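import Mathlib
import Cfsg.Prelude.Def_Solvable
import Cfsg.Agent.Lib.Grp.Zassenhaus.Basics

/-!
# Order types of Frobenius groups
-/

set_option autoImplicit false

namespace Cfsg.Agent.Grp.Zas

open Cfsg
open scoped Pointwise

universe u v

variable {G : Type u} [Group G] [Finite G] {H K : Subgroup G}

theorem order_dvd_or (hH : IsFrobeniusComplement H) (hK : (K : Set G) = frobeniusKernel H) (g : G) :
    orderOf g ∣ Nat.card K ∨ orderOf g ∣ Nat.card H := by
  by_cases hg : g ∈ frobeniusKernel H
  · rw [← hK] at hg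
    exact Or.inl (K.orderOf_dvd_natCard hg)
  · obtain ⟨-, f, hf⟩ := Frob.exists_conj_mem_of_notMem_kernel hg
    refine Or.inr ?_
    have h1 : orderOf (f⁻¹ * g * f) = orderOf g := by
      rw [show f⁻¹ * g * f = MulAut.conj f⁻¹ g by simp]
      exact orderOf_injective (MulAut.conj f⁻¹).toMonoidHom (MulAut.conj f⁻¹).injective g
    exact h1 ▸ H.orderOf_dvd_natCard hf

theorem mem_kernel_iff_pow (hH : IsFrobeniusComplement H) (hK : (K : Set G) = frobeniusKernel H) (g : G) :
    g ∈ K ↔ g ^ Nat.card K = 1 := by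
  refine ⟨fun hg => orderOf_dvd_iff_pow_eq_one.mp (K.orderOf_dvd_natCard hg), fun hg => ?_⟩
  by_contra hgK
  rw [← SetLike.mem_coe, hK] at hgK
  obtain ⟨hg1, f, hf⟩ := Frob.exists_conj_mem_of_notMem_kernel hgK
  have h1 : orderOf (f⁻¹ * g * f) = orderOf g := by
    rw [show f⁻¹ * g * f = MulAut.conj f⁻¹ g by simp]
    exact orderOf_injective (MulAut.conj f⁻¹).toMonoidHom (MulAut.conj f⁻¹).injective g
  have hcop := Frob.coprime_card_index hH
  rw [← Frob.kernel_card hH hK] at hcop
  exact hg1 (orderOf_eq_one_iff.mp (Nat.eq_one_of_dvd_coprimes hcop (h1 ▸ H.orderOf_dvd_natCard hf)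
    (orderOf_dvd_of_pow_eq_one hg)))

theorem isSolvable_iff_complement (hH : IsFrobeniusComplement H) :
    Group.IsSolvable G ↔ Group.IsSolvable H := by
  have := Fintype.ofFinite G
  obtain ⟨K, hK, hKn, hc, hnil⟩ := Grp.frobenius_kernel_spec hH
  refine ⟨fun h => inferInstance, fun h => ?_⟩
  have : Group.IsNilpotent K := hnil
  have h1 : Group.IsSolvable K := inferInstance
  have h2 : Group.IsSolvable (G ⧸ K) := Group.isSolvable_of_surjective (f := hc.symm.QuotientMulEquiv.symm.toMonoidHom)
    hc.symm.QuotientMulEquiv.symm.surjective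
  exact (Group.isSolvable_iff_subgroup_quotient K).mpr ⟨h1, h2⟩

theorem card_orderOf_complement (hH : IsFrobeniusComplement H) {m : ℕ} (hm : m ∣ Nat.card H) (hm1 : m ≠ 1) :
    Nat.card {g : G // orderOf g = m} = H.index * Nat.card {x : H // orderOf x = m} := by
  classical
  have ho : ∀ (f x : G), orderOf (f * x * f⁻¹) = orderOf x := fun f x =>
    orderOf_injective (MulAut.conj f).toMonoidHom (MulAut.conj f).injective x
  rw [Subgroup.index_eq_card, ← Nat.card_prod]
  symm
  refine Nat.card_eq_of_bijective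
    (fun q : (G ⧸ H) × {x : H // orderOf x = m} => (⟨q.1.out * ((q.2 : H) : G) * q.1.out⁻¹, by
      rw [ho, Subgroup.orderOf_coe, q.2.2]⟩ : {g : G // orderOf g = m})) ⟨?_, ?_⟩
  · rintro ⟨a, x⟩ ⟨b, y⟩ e
    have e' : a.out * ((x : H) : G) * a.out⁻¹ = b.out * ((y : H) : G) * b.out⁻¹ := congrArg Subtype.val e
    have hne : a.out * ((x : H) : G) * a.out⁻¹ ≠ 1 := fun e1 => hm1 (by
      rw [← x.2, ← Subgroup.orderOf_coe, conj_eq_one_iff.mp e1, orderOf_one])
    have hab := Frob.inv_mul_mem_of_mem_conj hH (g := a.out) (f := b.out) hne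
      (by simpa [mul_assoc] using x.1.2) (by rw [e']; simpa [mul_assoc] using y.1.2)
    have hq : a = b := by
      rw [← QuotientGroup.out_eq' a, ← QuotientGroup.out_eq' b]
      exact QuotientGroup.eq.mpr hab
    subst hq
    exact Prod.ext rfl (Subtype.ext (Subtype.ext (mul_left_cancel (mul_right_cancel e'))))
  · rintro ⟨g, hg⟩
    have hgk : g ∉ frobeniusKernel H := by
      intro hgk
      have := Fintype.ofFinite G
      obtain ⟨K, hK, -, -, -⟩ := Grp.frobenius_kernel_spec hH
      have hcop := Frob.coprime_card_index hH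
      rw [← Frob.kernel_card hH hK] at hcop
      rw [← hK] at hgk
      exact hm1 (Nat.eq_one_of_dvd_coprimes hcop hm (hg ▸ K.orderOf_dvd_natCard hgk))
    obtain ⟨-, f, hf⟩ := Frob.exists_conj_mem_of_notMem_kernel hgk
    set a : G ⧸ H := QuotientGroup.mk f with ha
    have hr : a.out⁻¹ * f ∈ H := QuotientGroup.eq.mp (QuotientGroup.out_eq' a)
    have hxH : a.out⁻¹ * g * a.out ∈ H := by
      have := mul_mem (mul_mem hr hf) (inv_mem hr)
      simpa [mul_assoc] using this
    have hxo : orderOf (⟨a.out⁻¹ * g * a.out, hxH⟩ : H) = m := by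
      rw [← Subgroup.orderOf_coe, ← hg]
      simpa using ho a.out⁻¹ g
    exact ⟨(a, ⟨⟨_, hxH⟩, hxo⟩), Subtype.ext (by simp [mul_assoc])⟩

theorem card_order_three : Nat.card {g : G // orderOf g = 3} = 2 * (allPts G).card := by
  classical
  have := Fintype.ofFinite G
  have : Fact (Nat.Prime 3) := ⟨Nat.prime_three⟩
  rw [Nat.card_eq_fintype_card, Fintype.card_subtype,
    Finset.card_eq_sum_card_fiberwise (f := fun g => Subgroup.zpowers g) (t := allPts G) (fun g hg => ?_)]
  · rw [Finset.sum_congr rfl (g := fun _ => 2) fun P hP => ?_, Finset.sum_const, smul_eq_mul, mul_comm]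
    rw [mem_allPts] at hP
    have hcyc : IsCyclic P := isCyclic_of_prime_card hP
    have h2 := IsCyclic.card_orderOf_eq_totient (α := P) (d := 3) (by rw [← Nat.card_eq_fintype_card, hP])
    rw [show Nat.totient 3 = 2 from rfl] at h2
    rw [← h2]
    refine Finset.card_bij' (fun g hg => (⟨g, ?_⟩ : P)) (fun x _ => (x : G)) ?_ ?_ (fun _ _ => rfl) (fun _ _ => rfl)
    · simp only [Finset.mem_filter] at hg
      exact hg.2 ▸ Subgroup.mem_zpowers g
    · intro g hg
      simp only [Finset.mem_filter] at hg ⊢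
      exact ⟨Finset.mem_univ _, by rw [← Subgroup.orderOf_coe]; exact hg.1.2⟩
    · intro x hx
      simp only [Finset.mem_filter, Finset.mem_univ, true_and] at hx ⊢
      rw [← Subgroup.orderOf_coe] at hx
      exact ⟨hx, Subgroup.eq_of_le_of_card_ge (Subgroup.zpowers_le.mpr x.2) (by rw [Nat.card_zpowers, hx, hP])⟩
  · simp only [Finset.coe_filter, Set.mem_setOf_eq, Finset.mem_univ, true_and] at hg
    exact mem_allPts.mpr (by rw [Nat.card_zpowers, hg])

/-- Solvability of a fixed-point-free group is decided by its parity and its number of elements of order three. -/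
theorem HasFpf.not_isSolvable_iff (h : HasFpf.{u, v} G) :
    ¬ Group.IsSolvable G ↔ Even (Nat.card G) ∧ Nat.card {g : G // orderOf g = 3} = 20 := by
  refine ⟨fun hns => ⟨?_, ?_⟩, fun ⟨he, h20⟩ hs => ?_⟩
  · by_contra hodd
    exact hns (h.isSolvable_of_odd (Nat.not_even_iff_odd.mp hodd))
  · rw [card_order_three, (h.structure_nonsolvable hns).1]
  · rw [card_order_three] at h20
    obtain ⟨k, _, _, V, _, _, _, _, ρ, hr⟩ := h.exists_fpfRep he
    obtain ⟨f, hf, -⟩ := hr.threeCore_alternating (by omega)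
    have h5 : Group.IsSolvable (alternatingGroup (Fin 5)) := Group.isSolvable_of_surjective hf
    have hsimple : IsSimpleGroup (alternatingGroup (Fin 5)) := alternatingGroup.isSimpleGroup_five
    obtain ⟨a, b, hab⟩ : ∃ a b : alternatingGroup (Fin 5), a * b ≠ b * a := by decide +kernel
    exact hab (IsSimpleGroup.comm_iff_isSolvable.mpr h5 a b)

/-- A group whose `k`-torsion set has exactly `k` elements and which has no mixed orders has that set as a subgroup. -/
theorem exists_kernel_of_orders {k c : ℕ} (hcard : Nat.card G = k * c) (hkc : k.Coprime c)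
    (hord : ∀ g : G, orderOf g ∣ k ∨ orderOf g ∣ c)
    (hsyl : ∀ p : ℕ, p.Prime → p ∣ k →
      Nat.card {g : G // orderOf g ∣ p ^ k.factorization p} = p ^ k.factorization p)
    (hk : Nat.card {g : G // g ^ k = 1} = k) :
    ∃ N : Subgroup G, N.Normal ∧ Nat.card N = k ∧ ∀ g, g ∈ N ↔ g ^ k = 1 := by
  classical
  have hk0 : k ≠ 0 := fun e => (Nat.card_pos (α := G)).ne' (by rw [hcard, e, zero_mul])
  have hc0 : c ≠ 0 := fun e => (Nat.card_pos (α := G)).ne' (by rw [hcard, e, mul_zero])
  have step : ∀ g x : G, g ^ k = 1 → (∃ p a : ℕ, p.Prime ∧ p ∣ k ∧ orderOf x = p ^ a) → (g * x) ^ k = 1 := by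
    rintro g x hg ⟨p, a, hp, hpk, hx⟩
    have := Fact.mk hp
    have hfac : (Nat.card G).factorization p = k.factorization p := by
      rw [hcard, Nat.factorization_mul hk0 hc0, Finsupp.add_apply, Nat.factorization_eq_zero_of_not_dvd
        (fun h => Nat.not_coprime_of_dvd_of_dvd hp.one_lt hpk h hkc), add_zero]
    obtain ⟨P⟩ : Nonempty (Sylow p G) := Sylow.nonempty
    have hPc : Nat.card (P : Subgroup G) = p ^ k.factorization p := by rw [P.card_eq_multiplicity, hfac]
    have hPset : ∀ y : G, y ∈ (P : Subgroup G) ↔ orderOf y ∣ p ^ k.factorization p := by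
      have hsub : ((P : Subgroup G) : Set G) ⊆ {y : G | orderOf y ∣ p ^ k.factorization p} :=
        fun y hy => hPc ▸ (P : Subgroup G).orderOf_dvd_natCard hy
      have e := Set.eq_of_subset_of_ncard_le hsub (by
        rw [← Nat.card_coe_set_eq, ← Nat.card_coe_set_eq]
        exact le_of_eq ((hsyl p hp hpk).trans hPc.symm)) (Set.toFinite _)
      exact fun y => Set.ext_iff.mp e y
    have hPn : (P : Subgroup G).Normal := ⟨fun y hy f => (hPset _).mpr (by
      have : orderOf (f * y * f⁻¹) = orderOf y :=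
        orderOf_injective (MulAut.conj f).toMonoidHom (MulAut.conj f).injective y
      rw [this]; exact (hPset y).mp hy)⟩
    have hxP : x ∈ (P : Subgroup G) := (hPset x).mpr (by
      rw [hx]
      refine Nat.pow_dvd_pow p ?_
      have := orderOf_dvd_natCard x
      rw [hx] at this
      rw [← hfac]
      exact (hp.pow_dvd_iff_le_factorization Nat.card_pos.ne').mp this)
    have hmem : (g * x) ^ k ∈ (P : Subgroup G) := by
      rw [← QuotientGroup.eq_one_iff, QuotientGroup.mk_pow, QuotientGroup.mk_mul,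
        (QuotientGroup.eq_one_iff x).mpr hxP, mul_one, ← QuotientGroup.mk_pow, hg, QuotientGroup.mk_one]
    have h1 := (hPset _).mp hmem
    have h2 : orderOf (g * x) ∣ k * p ^ k.factorization p := by
      rw [orderOf_dvd_iff_pow_eq_one, pow_mul]
      exact orderOf_dvd_iff_pow_eq_one.mp h1
    rcases hord (g * x) with h3 | h3
    · exact orderOf_dvd_iff_pow_eq_one.mp h3
    · have hcop : (k * p ^ k.factorization p).Coprime c :=
        Nat.Coprime.mul_left hkc (Nat.Coprime.pow_left _ ((hkc.coprime_dvd_left hpk)))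
      rw [orderOf_eq_one_iff.mp (Nat.eq_one_of_dvd_coprimes hcop h2 h3), one_pow]
  set S : Set G := {x | ∃ p a : ℕ, p.Prime ∧ p ∣ k ∧ orderOf x = p ^ a} with hS
  set N := Subgroup.closure S with hN
  have h1 : ∀ g ∈ N, g ^ k = 1 := by
    intro g hg
    induction hg using Subgroup.closure_induction_right with
    | one => exact one_pow k
    | mul_right x _ y hy ih => exact step x y ih hy
    | mul_inv_cancel x _ y hy ih =>
      refine step x y⁻¹ ih ?_
      obtain ⟨p, a, hp, hpk, hy'⟩ := hy
      exact ⟨p, a, hp, hpk, by rw [orderOf_inv, hy']⟩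
  have h2 : ∀ g : G, g ^ k = 1 → g ∈ N := by
    intro g hg
    have hd : orderOf g ∣ k := orderOf_dvd_of_pow_eq_one hg
    set Z := N ⊓ Subgroup.zpowers g with hZ
    have hle : orderOf g ∣ Nat.card Z := by
      rw [← Nat.factorization_le_iff_dvd (orderOf_pos g).ne' Nat.card_pos.ne']
      intro p
      by_cases hp : p.Prime
      swap
      · simp [Nat.factorization_eq_zero_of_not_prime _ hp]
      rcases Nat.eq_zero_or_pos ((orderOf g).factorization p) with e | e
      · rw [e]; exact Nat.zero_le _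
      have hpg : p ∣ orderOf g := Nat.dvd_of_factorization_pos e.ne'
      set y := g ^ (orderOf g / p ^ (orderOf g).factorization p) with hy
      have hyo : orderOf y = p ^ (orderOf g).factorization p :=
        orderOf_pow_orderOf_div (orderOf_pos g).ne' (Nat.ordProj_dvd _ p)
      have hyZ : y ∈ Z := ⟨Subgroup.subset_closure ⟨p, _, hp, hpg.trans hd, hyo⟩, Subgroup.npow_mem_zpowers _ _⟩
      exact (hp.pow_dvd_iff_le_factorization Nat.card_pos.ne').mp (hyo ▸ Z.orderOf_dvd_natCard hyZ)
    have e : Z = Subgroup.zpowers g := Subgroup.eq_of_le_of_card_ge inf_le_right (by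
      rw [Nat.card_zpowers]; exact Nat.le_of_dvd Nat.card_pos hle)
    exact (e ▸ Subgroup.mem_zpowers g : g ∈ Z).1
  refine ⟨N, ⟨fun y hy f => h2 _ (by rw [conj_pow, h1 y hy, mul_one, mul_inv_cancel])⟩, ?_,
    fun g => ⟨h1 g, h2 g⟩⟩
  exact (Nat.card_congr (Equiv.subtypeEquivRight fun g => ⟨h1 g, h2 g⟩)).trans hk

end Cfsg.Agent.Grp.Zas
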