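import Mathlib

/-!
# A quaternion action forces square order
-/

set_option autoImplicit false

namespace Cfsg.Agent.Grp.Zas

universe u

/-- The `p`-torsion kernel under a quaternion action has square order. -/
theorem isSquare_card_torsion {T : Type u} [AddCommGroup T] [Finite T] {p : ℕ} [hp : Fact p.Prime] (hp2 : Odd p)
    (hT : ∀ x : T, p • x = 0) (I J : AddMonoid.End T) (hI : ∀ x, I (I x) = -x) (hJ : ∀ x, J (J x) = -x)
    (hIJ : ∀ x, I (J x) = -J (I x)) : IsSquare (Nat.card T) := by
  obtain ⟨a, b, hab⟩ := ZMod.sq_add_sq p (-1)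
  set A := a.val
  set B := b.val
  have hAB : ∀ x : T, (A * A + B * B) • x = -x := by
    intro x
    have h1 : ((A * A + B * B + 1 : ℕ) : ZMod p) = 0 := by
      push_cast
      rw [show (A : ZMod p) = a from ZMod.natCast_zmod_val a, show (B : ZMod p) = b from ZMod.natCast_zmod_val b,
        ← sq, ← sq, hab, neg_add_cancel]
    obtain ⟨t, ht⟩ := (ZMod.natCast_eq_zero_iff _ p).mp h1
    refine eq_neg_of_add_eq_zero_left ?_
    have : (A * A + B * B + 1) • x = 0 := by rw [ht, mul_comm, mul_smul, hT, smul_zero]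
    rwa [add_smul, one_smul] at this
  let e : T →+ T :=
    { toFun := fun x => A • I x + B • J x
      map_zero' := by simp
      map_add' := fun x y => by simp only [map_add, smul_add]; abel }
  let k : T →+ T := (I : T →+ T).comp (J : T →+ T)
  have hk2 : ∀ x, k (k x) = -x := fun x => by
    show I (J (I (J x))) = -x
    rw [show J (I (J x)) = I x by rw [hIJ x, map_neg, hJ, neg_neg], hI]
  have hIk : ∀ x, I (k x) = -k (I x) := fun x => by
    show I (I (J x)) = -(I (J (I x)))
    rw [hI, hIJ (I x), hI, map_neg, neg_neg]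
  have hJk : ∀ x, J (k x) = -k (J x) := fun x => by
    show J (I (J x)) = -(I (J (J x)))
    rw [hJ, map_neg, neg_neg, show J (I (J x)) = -I (J (J x)) by rw [hIJ (J x), neg_neg], hJ, map_neg, neg_neg]
  have hek : ∀ x, e (k x) = -k (e x) := fun x => by
    show A • I (k x) + B • J (k x) = -(k (A • I x + B • J x))
    rw [hIk, hJk, map_add, map_nsmul, map_nsmul, smul_neg, smul_neg]; abel
  have he2 : ∀ x, e (e x) = x := fun x => by
    show A • I (A • I x + B • J x) + B • J (A • I x + B • J x) = x
    rw [map_add, map_add, map_nsmul, map_nsmul, map_nsmul, map_nsmul, hI, hJ, hIJ]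
    have := hAB x
    rw [add_smul, mul_smul, mul_smul] at this
    have h2 : x = -(A • A • x + B • B • x) := by rw [this, neg_neg]
    conv_rhs => rw [h2]
    simp only [smul_add, smul_neg, smul_comm A B]
    abel
  set h := (p + 1) / 2 with hh
  have hhalf : ∀ x : T, h • (x + x) = x := fun x => by
    rw [← two_nsmul, ← mul_smul, show h * 2 = p + 1 by obtain ⟨m, hm⟩ := hp2; omega, add_smul, hT, zero_add, one_smul]
  let E : AddSubgroup T := (e - AddMonoidHom.id T).ker
  have hmemE : ∀ x, x ∈ E ↔ e x = x := fun x => by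
    simp [E, AddMonoidHom.mem_ker, sub_eq_zero]
  let φ : E × E → T := fun q => q.1 + k q.2
  have hinj : ∀ u w : T, e u = u → e w = w → u + k w = 0 → u = 0 ∧ w = 0 := by
    intro u w hu hw h0
    have h1 : u - k w = 0 := by
      have := congrArg e h0
      rwa [map_add, map_zero, hek, hu, hw, ← sub_eq_add_neg] at this
    have hu0 : u = 0 := by
      have : u + u = 0 := by
        calc u + u = (u + k w) + (u - k w) := by abel
          _ = 0 := by rw [h0, h1, add_zero]
      rw [← hhalf u, this, smul_zero]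
    refine ⟨hu0, ?_⟩
    rw [hu0, zero_add] at h0
    have := congrArg k h0
    rwa [hk2, map_zero, neg_eq_zero] at this
  have hφ : Function.Bijective φ := by
    refine ⟨fun q r hqr => ?_, fun x => ?_⟩
    · have h0 : ((q.1 : T) - r.1) + k ((q.2 : T) - r.2) = 0 := by
        rw [map_sub]
        calc _ = ((q.1 : T) + k q.2) - ((r.1 : T) + k r.2) := by abel
          _ = 0 := sub_eq_zero.mpr hqr
      obtain ⟨h1, h2⟩ := hinj _ _ ((hmemE _).mp (sub_mem q.1.2 r.1.2)) ((hmemE _).mp (sub_mem q.2.2 r.2.2)) h0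
      exact Prod.ext (Subtype.ext (sub_eq_zero.mp h1)) (Subtype.ext (sub_eq_zero.mp h2))
    · refine ⟨(⟨h • (x + e x), (hmemE _).mpr (by rw [map_nsmul, map_add, he2, add_comm])⟩,
        ⟨-k (h • (x - e x)), (hmemE _).mpr ?_⟩), ?_⟩
      · rw [map_neg, hek, map_nsmul e, map_sub, he2, neg_neg, map_nsmul, map_nsmul, map_sub, map_sub, ← smul_neg,
          neg_sub]
      · show h • (x + e x) + k (-k (h • (x - e x))) = x
        rw [map_neg, hk2, neg_neg, ← smul_add, show x + e x + (x - e x) = x + x by abel, hhalf]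
  exact ⟨Nat.card E, by rw [← Nat.card_eq_of_bijective φ hφ, Nat.card_prod]⟩

/-- A finite abelian group of odd order with a quaternion action has square order. -/
theorem isSquare_card_of_quaternion {A : Type u} [AddCommGroup A] [Finite A] (hodd : Odd (Nat.card A))
    (I J : AddMonoid.End A) (hI : ∀ x, I (I x) = -x) (hJ : ∀ x, J (J x) = -x)
    (hIJ : ∀ x, I (J x) = -J (I x)) : IsSquare (Nat.card A) := by
  induction hn : Nat.card A using Nat.strong_induction_on generalizing A with
  | _ n ih =>
  by_cases h1 : n = 1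
  · exact ⟨1, by omega⟩
  obtain ⟨p, hp, hpd⟩ := Nat.exists_prime_and_dvd h1
  have := Fact.mk hp
  let f : A →+ A := nsmulAddMonoidHom p
  have hcard : Nat.card f.range * Nat.card f.ker = n := by
    rw [← hn, AddSubgroup.card_eq_card_quotient_mul_card_addSubgroup f.ker,
      Nat.card_congr (QuotientAddGroup.quotientKerEquivRange f).toEquiv]
  have hker : 1 < Nat.card f.ker := by
    obtain ⟨x, hx⟩ := exists_prime_addOrderOf_dvd_card' p (hn ▸ hpd)
    refine Finite.one_lt_card_iff_nontrivial.mpr ⟨⟨⟨x, ?_⟩, 0, fun e => ?_⟩⟩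
    · show p • x = 0
      rw [← hx, addOrderOf_nsmul_eq_zero]
    · rw [Subtype.ext_iff] at e
      simp only [ZeroMemClass.coe_zero] at e
      rw [e, addOrderOf_zero] at hx
      exact hp.ne_one hx.symm
  have hodd' : Odd (Nat.card f.range) ∧ Odd p := by
    rw [hn, ← hcard] at hodd
    refine ⟨(Nat.odd_mul.mp hodd).1, ?_⟩
    rw [hcard] at hodd
    exact hodd.of_dvd_nat hpd
  let res : ∀ (S : AddSubgroup A) (F : AddMonoid.End A), (∀ x : A, x ∈ S → F x ∈ S) → AddMonoid.End S := fun S F hF =>
    { toFun := fun x => ⟨F (x : A), hF x x.2⟩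
      map_zero' := Subtype.ext (map_zero F)
      map_add' := fun x y => Subtype.ext (map_add F (x : A) (y : A)) }
  have hkI : ∀ F : AddMonoid.End A, ∀ x ∈ f.ker, F x ∈ f.ker := fun F x hx => by
    show p • F x = 0
    rw [← map_nsmul, show p • x = 0 from hx, map_zero]
  have hrI : ∀ F : AddMonoid.End A, ∀ x ∈ f.range, F x ∈ f.range := by
    rintro F _ ⟨y, rfl⟩
    exact ⟨F y, (map_nsmul F p y).symm⟩
  have hlt : Nat.card f.range < n := by
    have : 0 < Nat.card f.range := Nat.card_pos
    rw [← hcard]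
    exact lt_mul_of_one_lt_right this hker
  have h2 : IsSquare (Nat.card f.range) := ih _ hlt hodd'.1 (res _ I (hrI I)) (res _ J (hrI J))
    (fun x => Subtype.ext (hI x)) (fun x => Subtype.ext (hJ x)) (fun x => Subtype.ext (hIJ x)) rfl
  have h3 : IsSquare (Nat.card f.ker) := isSquare_card_torsion (p := p) hodd'.2 (fun x => Subtype.ext x.2)
    (res _ I (hkI I)) (res _ J (hkI J))
    (fun x => Subtype.ext (hI x)) (fun x => Subtype.ext (hJ x)) (fun x => Subtype.ext (hIJ x))
  rw [← hcard]
  exact h2.mul h3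

end Cfsg.Agent.Grp.Zas
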